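import Mathlib

/-!
The subgroup generated by the elements of odd order: the quotient is a 2-group, and perfect images in it are trivial.
-/

set_option autoImplicit false

namespace Cfsg.Lib.StdWreath

universe u v

variable {G : Type u} [Group G]

/-- The subgroup generated by the elements of odd order. -/
def res2 (G : Type u) [Group G] : Subgroup G := Subgroup.closure {g | Odd (orderOf g)}

theorem odd_mem_res2 {g : G} (h : Odd (orderOf g)) : g ∈ res2 G := Subgroup.subset_closure h

theorem conj_mem_res2 {a : G} (ha : a ∈ res2 G) (g : G) : g * a * g⁻¹ ∈ res2 G := by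
  have hle : res2 G ≤ (res2 G).comap (MulAut.conj g).toMonoidHom := (Subgroup.closure_le _).2 fun w hw => by
    refine Subgroup.subset_closure ?_
    show Odd (orderOf (MulAut.conj g w))
    rwa [MulEquiv.orderOf_eq]
  exact hle ha

instance res2_normal : (res2 G).Normal := ⟨fun _ ha g => conj_mem_res2 ha g⟩

/-- A subgroup of odd order lies in it. -/
theorem odd_le_res2 [Finite G] {O : Subgroup G} (hO : Odd (Nat.card O)) : O ≤ res2 G := fun o ho =>
  odd_mem_res2 (hO.of_dvd_nat (by rw [← Subgroup.orderOf_mk o ho]; exact orderOf_dvd_natCard _))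

/-- A normal subgroup of index 2 contains it. -/
theorem res2_le_of_index_two {N : Subgroup G} (hi : N.index = 2) : res2 G ≤ N :=
  (Subgroup.closure_le _).2 fun g hg => by
    obtain ⟨k, hk⟩ : Odd (orderOf g) := hg
    have h : g ^ (k + 1) * g ^ (k + 1) = g := by
      rw [← pow_add, show k + 1 + (k + 1) = orderOf g + 1 by omega, pow_succ, pow_orderOf_eq_one, one_mul]
    rw [← h]
    exact Subgroup.mul_self_mem_of_index_two hi _

/-- The quotient is a 2-group. -/
theorem two_quotient [Finite G] : IsPGroup 2 (G ⧸ res2 G) := by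
  intro x
  obtain ⟨g, rfl⟩ := QuotientGroup.mk_surjective x
  obtain ⟨k, m, hm, hkm⟩ := Nat.exists_eq_two_pow_mul_odd (orderOf_pos g).ne'
  refine ⟨k, ?_⟩
  rw [← QuotientGroup.mk_pow]
  refine (QuotientGroup.eq_one_iff _).2 (odd_mem_res2 ?_)
  rw [orderOf_pow, hkm, Nat.gcd_eq_right (Dvd.intro m rfl), Nat.mul_div_cancel_left _ (by positivity)]
  exact hm

/-- A perfect group maps trivially to the quotient. -/
theorem perfect_to_res2 [Finite G] {X : Type v} [Group X] (hX : commutator X = ⊤) (ψ : X →* G ⧸ res2 G) (x : X) :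
    ψ x = 1 := by
  haveI : Fact (Nat.Prime 2) := ⟨Nat.prime_two⟩
  haveI : Group.IsNilpotent (G ⧸ res2 G) := two_quotient.isNilpotent
  haveI : Group.IsSolvable (G ⧸ res2 G) := inferInstance
  obtain ⟨n, hn⟩ := Group.IsSolvable.solvable (G := G ⧸ res2 G)
  have h : ∀ m, (⊤ : Subgroup X).map ψ ≤ derivedSeries (G ⧸ res2 G) m := by
    intro m
    induction m with
    | zero => exact le_top
    | succ m ih =>
      rw [← hX, commutator_def, Subgroup.map_commutator]
      exact Subgroup.commutator_mono ih ih
  exact Subgroup.mem_bot.1 (hn ▸ h n ⟨x, Subgroup.mem_top x, rfl⟩)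

/-- A perfect group maps into it. -/
theorem perfect_mem_res2 [Finite G] {X : Type v} [Group X] (hX : commutator X = ⊤) (f : X →* G) (x : X) :
    f x ∈ res2 G :=
  (QuotientGroup.eq_one_iff _).1 (perfect_to_res2 hX ((QuotientGroup.mk' (res2 G)).comp f) x)

end Cfsg.Lib.StdWreath
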