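import Cfsg.Agent.StdWreath.Cfg
import Cfsg.Agent.StdWreath.Res

/-!
Interface between the local analysis and the end game: a 2-subgroup `S × S` exchanged by `t`, with fusion of its
involutions coordinatewise by classes of `M`.
-/

set_option autoImplicit false

namespace Cfsg.Lib.StdWreath

universe u v

variable {G : Type u} {M : Type v} [Group G] [Group M]

/-- `g` is a product of elements of odd order, so lies in every subgroup of index 2. -/
def EvenElem (g : G) : Prop := g ∈ res2 G

/-- An embedded `S × S` with diagonal the image of `S`, exchanged by `t`, in which conjugacy in `M` of the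
coordinates of involutions gives conjugacy in `G`. -/
structure Wreath (C : Cfg G M) (S : Subgroup M) where
  ι : S × S →* G
  inj : Function.Injective ι
  diag : ∀ x : S, ι (x, x) = C.e x
  flip : ∀ x y : S, C.t * ι (x, y) * C.t = ι (y, x)
  fuse : ∀ a c a' c' : S, a * a = 1 → c * c = 1 → IsConj (a : M) a' → IsConj (c : M) c' →
    ∃ g : G, EvenElem g ∧ g * ι (a, c) * g⁻¹ = ι (a', c')

end Cfsg.Lib.StdWreath
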