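import Cfsg.Agent.StdWreath.Quot
import Cfsg.Agent.StdWreath.Wreath

/-!
Lifting the two halves to a 2-subgroup `S × S` of the group, with fusion of involutions coordinatewise.
-/

set_option autoImplicit false
set_option linter.unusedSectionVars false

open scoped commutatorElement

namespace Cfsg.Lib.StdWreath

universe u v

variable {G : Type u} [Group G]

theorem EvenElem.mul {a c : G} (ha : EvenElem a) (hc : EvenElem c) : EvenElem (a * c) := (res2 G).mul_mem ha hc

theorem EvenElem.one : EvenElem (1 : G) := (res2 G).one_mem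

theorem EvenElem.inv {a : G} (ha : EvenElem a) : EvenElem a⁻¹ := (res2 G).inv_mem ha

theorem EvenElem.conj {a : G} (ha : EvenElem a) (g : G) : EvenElem (g * a * g⁻¹) := conj_mem_res2 ha g

/-- Conjugacy by a product of elements of odd order. -/
def EvenConj (x y : G) : Prop := ∃ g : G, EvenElem g ∧ g * x * g⁻¹ = y

theorem EvenConj.symm {x y : G} (h : EvenConj x y) : EvenConj y x := by
  obtain ⟨g, hg, rfl⟩ := h
  exact ⟨g⁻¹, hg.inv, by group⟩

theorem EvenConj.trans {x y w : G} (h : EvenConj x y) (h' : EvenConj y w) : EvenConj x w := by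
  obtain ⟨g, hg, rfl⟩ := h
  obtain ⟨k, hk, rfl⟩ := h'
  exact ⟨k * g, hk.mul hg, by group⟩

theorem EvenConj.conj {x y : G} (h : EvenConj x y) (g : G) : EvenConj (g * x * g⁻¹) (g * y * g⁻¹) := by
  obtain ⟨k, hk, rfl⟩ := h
  exact ⟨g * k * g⁻¹, hk.conj g, by group⟩

variable {M : Type v} [Group M] [Finite G] [Finite M] {C : Cfg G M} {V U S : Subgroup M} {z : M}

/-- `g` has odd order and centralises the image of `V × V`. -/
def Wreath.OddCent (W : Wreath C S) (V : Subgroup M) (g : G) : Prop :=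
  Odd (orderOf g) ∧ ∀ x y : S, (x : M) ∈ V → (y : M) ∈ V → g * W.ι (x, y) = W.ι (x, y) * g

/-- Lifts of the second copy of `N(V)`, commuting with the first copies of `V` and `U`, multiplicative up to elements
of odd order centralising the image of `V × V`. -/
def Wreath.HasHalf (W : Wreath C S) (V U : Subgroup M) : Prop :=
  ∃ j : M → G,
    (∀ n ∈ Subgroup.normalizer (V : Set M), ∀ x : S, (x : M) ∈ V ∨ (x : M) ∈ U →
      j n * W.ι (x, 1) = W.ι (x, 1) * j n) ∧
    (∀ n ∈ Subgroup.normalizer (V : Set M), ∀ v v' : S, (v : M) ∈ V → n * v * n⁻¹ = v' →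
      j n * W.ι (1, v) * (j n)⁻¹ = W.ι (1, v')) ∧
    (∀ n ∈ Subgroup.normalizer (V : Set M), ∀ m ∈ Subgroup.normalizer (V : Set M),
      W.OddCent V ((j (n * m))⁻¹ * (j n * j m))) ∧
    ∀ s : S, W.OddCent V ((j s)⁻¹ * W.ι (1, s))

theorem evenElem_e (F : Frame V U S z) (m : M) : EvenElem (C.e m) := by
  haveI := F.simple
  have hperf : commutator M = ⊤ := by
    rcases Subgroup.Normal.eq_bot_or_eq_top (inferInstance : (commutator M).Normal) with h | h
    · exfalso
      have hb := F.inv_derived z F.order_z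
      have : ⁅Subgroup.centralizer ({z} : Set M), Subgroup.centralizer ({z} : Set M)⁆ ≤ ⊥ := by
        rw [← h, commutator_def]
        exact Subgroup.commutator_mono le_top le_top
      exact F.z_ne_one (Subgroup.mem_bot.mp (this hb))
    · exact h
  exact perfect_mem_res2 hperf C.e m

theorem evenElem_odd {O : Subgroup G} (hO : Odd (Nat.card O)) {o : G} (ho : o ∈ O) : EvenElem o := odd_le_res2 hO ho

namespace Link

/-- The doubled group over `S` with coordinatewise fusion and the second copy of `N(V)`. -/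
theorem exists_wreath_half (K : Link C V U) (F : Frame V U S z) (E : LocExact C V U) (hp : K.IsProd) (hV : TCtx C V)
    (hUfus : ∀ u ∈ U, ∀ u' ∈ U, IsConj u u' → ∃ g ∈ Subgroup.normalizer (U : Set M), g * u * g⁻¹ = u') :
    ∃ W : Wreath C S, W.HasHalf V U := by
  classical
  obtain ⟨O, hOle, hOn, hOodd, A, htq, heq, hu1, ha1, hOc⟩ := K.exists_halves F E hp hV
  obtain ⟨j, hjc, hjd, hji, hju, hjv⟩ := A.exists_split F
  set H := K.NW F with hH
  let π : H →* H ⧸ O.subgroupOf H := QuotientGroup.mk' _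
  have hker : ∀ g : H, π g = 1 ↔ (g : G) ∈ O := fun g => by
    rw [← MonoidHom.mem_ker, QuotientGroup.ker_mk', Subgroup.mem_subgroupOf]
  let tH : H := ⟨C.t, K.t_mem_NW F⟩
  have htπ : π tH = A.tq := htq.symm
  let eH : Subgroup.normalizer (V : Set M) → H := fun n => ⟨C.e (n : M), K.e_mem_NW F n⟩
  have heπ : ∀ n, π (eH n) = A.eq n := fun n => (heq n).symm
  have hflipπ : ∀ g : H, π (tH * g * tH) = A.flipH (π g) := fun g => by
    rw [map_mul, map_mul, htπ, A.flipH_apply]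
  let Φ : Subgroup.normalizer (V : Set M) × Subgroup.normalizer (V : Set M) →* H ⧸ O.subgroupOf H :=
    MonoidHom.noncommCoprod j (A.flipH.comp j) fun n m => hjc n m
  have hΦ : ∀ n m, Φ (n, m) = j n * A.flipH (j m) := fun n m => rfl
  have hΦdiag : ∀ n, Φ (n, n) = A.eq n := fun n => hjd n
  have hΦflip : ∀ n m, A.flipH (Φ (n, m)) = Φ (m, n) := fun n m => by
    rw [hΦ, hΦ, map_mul, A.flipH_flipH]; exact (hjc m n).symm
  have hΦinj : Function.Injective Φ := by
    refine (injective_iff_map_eq_one Φ).mpr ?_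
    rintro ⟨n, m⟩ h
    obtain ⟨h1, h2⟩ := hji n m h
    rw [h1, h2]; rfl
  -- lifts of the two halves are even
  have heven : ∀ p, ∀ k : H, π k = Φ p → EvenElem (k : G) := by
    have hlift : ∀ n, ∀ k : H, π k = j n → EvenElem (k : G) := by
      intro n0 k hk
      have hcomm : commutator (Subgroup.normalizer (V : Set M)) = ⊤ := by
        apply Subgroup.map_injective (Subgroup.normalizer (V : Set M)).subtype_injective
        rw [Subgroup.map_subtype_commutator, F.NV_perfect, ← MonoidHom.range_eq_map, Subgroup.range_subtype]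
      have hle : O.subgroupOf H ≤ ((QuotientGroup.mk' (res2 G)).comp H.subtype).ker := fun o ho =>
        (QuotientGroup.eq_one_iff _).2 (evenElem_odd hOodd ho)
      have h := perfect_to_res2 hcomm ((QuotientGroup.lift _ _ hle).comp j) n0
      rw [MonoidHom.comp_apply, ← hk] at h
      exact (QuotientGroup.eq_one_iff _).1 h
    rintro ⟨n, m⟩ k hk
    obtain ⟨kn, hkn⟩ : ∃ kn, π kn = j n := QuotientGroup.mk_surjective _
    obtain ⟨km, hkm⟩ : ∃ km, π km = j m := QuotientGroup.mk_surjective _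
    have h1 : π ((kn * (tH * km * tH))⁻¹ * k) = 1 := by
      rw [map_mul, map_inv, map_mul, hflipπ, hkn, hkm, hk, hΦ, inv_mul_cancel]
    have h2 := evenElem_odd hOodd ((hker _).mp h1)
    have h3 : EvenElem ((kn * (tH * km * tH) : H) : G) := by
      refine (hlift n kn hkn).mul ?_
      show EvenElem (C.t * km * C.t)
      have := (hlift m km hkm).conj C.t
      rwa [C.t_inv] at this
    have h4 := h3.mul h2
    rwa [← Subgroup.coe_mul, mul_inv_cancel_left] at h4
  -- two involutions with one image are conjugate by the odd kernel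
  have hsame : ∀ x y : H, (x : G) * x = 1 → (y : G) * y = 1 → π x = π y → EvenConj (y : G) x := by
    intro x y hx hy hxy
    have ho : (x : G) * y ∈ O := by
      have h := (hker (x * y)).mp (by rw [map_mul, hxy, ← map_mul, show y * y = 1 from Subtype.ext hy, map_one])
      exact h
    set o := (x : G) * y with hodef
    have hyinv : (y : G)⁻¹ = y := inv_eq_of_mul_eq_one_right hy
    have hoy : (y : G) * o * (y : G)⁻¹ = o⁻¹ := by
      rw [hodef, mul_inv_rev, hyinv, inv_eq_of_mul_eq_one_right hx, mul_assoc, mul_assoc (x : G), hy, mul_one]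
    obtain ⟨i, hi⟩ := odd_sqrt hOodd ho
    set r := o ^ i with hr
    have hry : (y : G) * r * (y : G)⁻¹ = r⁻¹ := by
      have h := conj_pow (i := i) (a := (y : G)) (b := o)
      rw [hoy, inv_pow] at h
      exact h.symm
    refine ⟨r, evenElem_odd hOodd (pow_mem ho i), ?_⟩
    have h1 : (y : G) * r⁻¹ = r * y := by
      calc (y : G) * r⁻¹ = ((y : G) * r * (y : G)⁻¹)⁻¹ * y := by group
        _ = _ := by rw [hry, inv_inv]
    rw [mul_assoc, h1, ← mul_assoc, hi, hodef, mul_assoc, hy, mul_one]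
  -- the points over `U`
  have hUN : ∀ {w : M}, w ∈ U → w ∈ Subgroup.normalizer (V : Set M) := fun hw => U_le_NV F hw
  have hUsq : ∀ {w : M}, w ∈ U → w * w = 1 := fun hw => by rw [← pow_two]; exact F.elemU.2 _ hw
  have hptH : ∀ (u v : M) (hu : u ∈ U) (hv : v ∈ U),
      ∃ k : H, (k : G) = K.BU.pt (u, v) ∧ π k = Φ (⟨u, hUN hu⟩, ⟨v, hUN hv⟩) := by
    intro u v hu hv
    have huv := U.mul_mem hu hv
    refine ⟨⟨K.BU.s (u * v), K.sU_mem_NW F hp huv⟩ * eH ⟨v, hUN hv⟩, rfl, ?_⟩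
    have hsU : π ⟨K.BU.s (u * v), K.sU_mem_NW F hp huv⟩ = j ⟨u * v, hUN huv⟩ := by
      rw [hju _ huv, hu1 _ huv]; rfl
    rw [map_mul, hsU, heπ, hΦ, ← hjd ⟨v, hUN hv⟩, ← mul_assoc, ← map_mul]
    congr 2
    exact Subtype.ext (by show u * v * v = u; rw [mul_assoc, hUsq hv, mul_one])
  have hptsq : ∀ {u v : M}, u ∈ U → v ∈ U → K.BU.pt (u, v) * K.BU.pt (u, v) = 1 := fun {u v} hu hv => by
    have huv := U.mul_mem hu hv
    show K.BU.s (u * v) * C.e v * (K.BU.s (u * v) * C.e v) = 1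
    calc K.BU.s (u * v) * C.e v * (K.BU.s (u * v) * C.e v)
        = K.BU.s (u * v) * (C.e v * K.BU.s (u * v)) * C.e v := by group
      _ = K.BU.s (u * v) * K.BU.s (u * v) * (C.e v * C.e v) := by rw [← K.BU.X_comm _ huv v hv]; group
      _ = 1 := by rw [K.BU.sq _ huv, Dbl.sq_e F.elemU hv, mul_one]
  -- fusion inside `U × U`
  let Hs : Subgroup M :=
    { carrier := {g | g ∈ Subgroup.normalizer (U : Set M) ∧
        ∀ u ∈ U, ∀ v ∈ U, EvenConj (K.BU.pt (u, v)) (K.BU.pt (g * u * g⁻¹, v))}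
      one_mem' := ⟨Subgroup.one_mem _, fun u hu v hv => ⟨1, EvenElem.one, by
        simp⟩⟩
      mul_mem' := by
        rintro a c ⟨ha, ha'⟩ ⟨hc, hc'⟩
        refine ⟨Subgroup.mul_mem _ ha hc, fun u hu v hv => ?_⟩
        have h := (hc' u hu v hv).trans (ha' _ ((Subgroup.mem_normalizer_iff.mp hc u).mp hu) v hv)
        rwa [show a * (c * u * c⁻¹) * a⁻¹ = a * c * u * (a * c)⁻¹ by group] at h
      inv_mem' := by
        rintro a ⟨ha, ha'⟩
        refine ⟨Subgroup.inv_mem _ ha, fun u hu v hv => ?_⟩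
        have hu' := (Subgroup.mem_normalizer_iff.mp (Subgroup.inv_mem _ ha) u).mp hu
        have h := (ha' _ hu' v hv).symm
        rwa [show a * (a⁻¹ * u * a⁻¹⁻¹) * a⁻¹ = u by group] at h }
  have hNUle : Subgroup.normalizer (U : Set M) ≤ Hs := by
    refine F.NU_gen Hs (fun g hg => ⟨hg.1, fun u hu v hv => ?_⟩) ?_
    · have hu' := (Subgroup.mem_normalizer_iff.mp hg.1 u).mp hu
      obtain ⟨x, hxv, hxπ⟩ := hptH u v hu hv
      obtain ⟨y, hyv, hyπ⟩ := hptH _ v hu' hv
      obtain ⟨k, hk⟩ : ∃ k, π k = Φ (⟨g, hg.2⟩, 1) := QuotientGroup.mk_surjective _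
      have hc := hsame y (k * x * k⁻¹) (by rw [hyv]; exact hptsq hu' hv) (by
        simp only [Subgroup.coe_mul, Subgroup.coe_inv, hxv]
        calc (k : G) * K.BU.pt (u, v) * (k : G)⁻¹ * ((k : G) * K.BU.pt (u, v) * (k : G)⁻¹)
            = (k : G) * (K.BU.pt (u, v) * K.BU.pt (u, v)) * (k : G)⁻¹ := by group
          _ = 1 := by rw [hptsq hu hv]; group) (by
        rw [hyπ, map_mul, map_mul, map_inv, hk, hxπ, ← map_inv, ← map_mul, ← map_mul]
        congr 1
        refine Prod.ext rfl (Subtype.ext ?_)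
        show v = 1 * v * (1 : M)⁻¹
        group)
      rw [hyv] at hc
      refine EvenConj.trans ⟨k, heven _ k hk, ?_⟩ hc
      simp only [Subgroup.coe_mul, Subgroup.coe_inv, hxv]
    · rintro n hn h ⟨hh, hh'⟩
      refine ⟨Subgroup.mul_mem _ (Subgroup.mul_mem _ hn hh) (Subgroup.inv_mem _ hn), fun u hu v hv => ?_⟩
      have hn' := Subgroup.inv_mem _ hn
      have hu1' := (Subgroup.mem_normalizer_iff.mp hn' u).mp hu
      have hv1 := (Subgroup.mem_normalizer_iff.mp hn' v).mp hv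
      have hpte : ∀ p q : M, p ∈ U → q ∈ U →
          C.e n * K.BU.pt (p, q) * (C.e n)⁻¹ = K.BU.pt (n * p * n⁻¹, n * q * n⁻¹) := fun p q hp hq => by
        show C.e n * (K.BU.s (p * q) * C.e q) * (C.e n)⁻¹ = K.BU.s (n * p * n⁻¹ * (n * q * n⁻¹)) * C.e (n * q * n⁻¹)
        rw [show n * p * n⁻¹ * (n * q * n⁻¹) = n * (p * q) * n⁻¹ by group, ← K.BU.equiv n hn _ (U.mul_mem hp hq),
          ← C.e_conj]
        group
      have h1 := (hh' _ hu1' _ hv1).conj (C.e n)
      rw [hpte _ _ hu1' hv1, hpte _ _ ((Subgroup.mem_normalizer_iff.mp hh _).mp hu1') hv1] at h1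
      convert h1 using 3 <;> group
  have hfusU : ∀ u ∈ U, ∀ v ∈ U, ∀ u' ∈ U, ∀ v' ∈ U, IsConj u u' → IsConj v v' →
      EvenConj (K.BU.pt (u, v)) (K.BU.pt (u', v')) := by
    intro u hu v hv u' hu' v' hv' h1 h2
    obtain ⟨g, hg, rfl⟩ := hUfus u hu u' hu' h1
    obtain ⟨g', hg', rfl⟩ := hUfus v hv v' hv' h2
    refine ((hNUle hg).2 u hu v hv).trans ?_
    have h3 := ((hNUle hg').2 v hv _ hu').conj C.t
    rwa [C.t_inv, K.BU.t_pt F.elemU hv hu', K.BU.t_pt F.elemU hv' hu'] at h3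
  -- the lift
  let SS : S × S →* H ⧸ O.subgroupOf H :=
    Φ.comp (MonoidHom.prodMap (Subgroup.inclusion F.S_le_NV) (Subgroup.inclusion F.S_le_NV))
  have hSSinj : Function.Injective SS := hΦinj.comp fun p q h =>
    Prod.ext (Subgroup.inclusion_injective F.S_le_NV (congrArg Prod.fst h))
      (Subgroup.inclusion_injective F.S_le_NV (congrArg Prod.snd h))
  set R := SS.range with hR
  have hR2 : IsPGroup 2 R := by
    refine IsPGroup.of_surjective ?_ SS.rangeRestrict SS.rangeRestrict_surjective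
    intro p
    obtain ⟨i, hi⟩ := F.S_two p.1
    obtain ⟨k, hk⟩ := F.S_two p.2
    refine ⟨i + k, Prod.ext ?_ ?_⟩
    · show p.1 ^ 2 ^ (i + k) = 1
      rw [pow_add, pow_mul, hi, one_pow]
    · show p.2 ^ 2 ^ (i + k) = 1
      rw [pow_add, mul_comm, pow_mul, hk, one_pow]
  have hRflip : ∀ q ∈ R, A.flipH q ∈ R := by
    rintro _ ⟨⟨a, c⟩, rfl⟩
    exact ⟨(c, a), (hΦflip _ _).symm⟩
  have htq2 : IsPGroup 2 (Subgroup.zpowers A.tq) := by
    rintro ⟨w, hw⟩
    obtain ⟨i, rfl⟩ := Subgroup.mem_zpowers_iff.mp hw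
    exact ⟨1, Subtype.ext (by
      rw [pow_one, pow_two, Subgroup.coe_mul, ← (Commute.refl A.tq).mul_zpow, A.tq_sq, one_zpow, Subgroup.coe_one])⟩
  have hRn : A.tq ∈ Subgroup.normalizer (R : Set (H ⧸ O.subgroupOf H)) :=
    mem_normalizer_of_conj_le fun q hq => by rw [A.tq_inv]; exact hRflip q hq
  set R' := Subgroup.zpowers A.tq ⊔ R with hR'
  have hR'2 : IsPGroup 2 R' := IsPGroup.to_sup_of_normal_right' htq2 hR2 ((Subgroup.zpowers_le).mpr hRn)
  set H2 : Subgroup H := R'.comap π with hH2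
  -- the 2-group generated by `t` and the diagonal
  let eS : S →* H := MonoidHom.mk' (fun s => eH (Subgroup.inclusion F.S_le_NV s))
    fun a c => Subtype.ext (map_mul C.e _ _)
  have hX2 : IsPGroup 2 (Subgroup.zpowers tH ⊔ eS.range : Subgroup H) := by
    refine IsPGroup.to_sup_of_normal_right' ?_
      (F.S_two.of_surjective eS.rangeRestrict eS.rangeRestrict_surjective) ?_
    · rintro ⟨w, hw⟩
      obtain ⟨i, rfl⟩ := Subgroup.mem_zpowers_iff.mp hw
      exact ⟨1, Subtype.ext (by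
        rw [pow_one, pow_two, Subgroup.coe_mul, ← (Commute.refl tH).mul_zpow,
          show tH * tH = 1 from Subtype.ext C.t_sq, one_zpow, Subgroup.coe_one])⟩
    · refine (Subgroup.zpowers_le).mpr (Subgroup.centralizer_le_normalizer _ (Subgroup.mem_centralizer_iff.mpr ?_))
      rintro _ ⟨s, rfl⟩
      exact Subtype.ext (C.t_comm _).symm
  have hXle : Subgroup.zpowers tH ⊔ eS.range ≤ H2 := by
    refine sup_le ((Subgroup.zpowers_le).mpr ?_) ?_
    · show π tH ∈ R'
      rw [htπ]; exact Subgroup.mem_sup_left (Subgroup.mem_zpowers _)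
    · rintro _ ⟨s, rfl⟩
      show π (eH _) ∈ R'
      rw [heπ, ← hΦdiag]
      exact Subgroup.mem_sup_right ⟨(s, s), rfl⟩
  obtain ⟨P2, hP2⟩ := (hX2.comap_subtype (H := Subgroup.zpowers tH ⊔ eS.range) (K := H2)).exists_le_sylow
  set P2' : Subgroup H := (P2 : Subgroup H2).map H2.subtype with hP2'
  set P : Subgroup H := P2' ⊓ R.comap π with hP
  have hP2two : IsPGroup 2 P2' := P2.isPGroup'.map _
  have hinjP : ∀ p ∈ P, π p = 1 → p = 1 := by
    intro p hp h
    obtain ⟨i, hi⟩ := hP2two ⟨p, hp.1⟩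
    have hi' : (p : G) ^ 2 ^ i = 1 := by
      have := congrArg (fun q : P2' => ((q : H) : G)) hi
      simpa using this
    refine Subtype.ext ?_
    have h1 : orderOf (⟨(p : G), (hker p).mp h⟩ : O) ∣ Nat.card O := orderOf_dvd_natCard _
    rw [Subgroup.orderOf_mk] at h1
    exact orderOf_eq_one_iff.mp (Nat.eq_one_of_dvd_coprimes (Nat.Coprime.pow_right _ (Nat.coprime_two_right.mpr hOodd))
      h1 (orderOf_dvd_of_pow_eq_one hi'))
  have honto : ∀ q ∈ R, ∃ p ∈ P, π p = q := by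
    let f : H2 →* R' := (π.comp H2.subtype).codRestrict R' fun x => x.2
    have hf : Function.Surjective f := by
      rintro ⟨q, hq⟩
      obtain ⟨g, rfl⟩ : ∃ g, π g = q := QuotientGroup.mk_surjective _
      exact ⟨⟨g, hq⟩, rfl⟩
    have hdvd := Subgroup.index_map_dvd (P2 : Subgroup H2) hf
    haveI : Fact (Nat.Prime 2) := ⟨Nat.prime_two⟩
    obtain ⟨i, hi⟩ := hR'2.index ((P2 : Subgroup H2).map f)
    have htop : (P2 : Subgroup H2).map f = ⊤ := by
      refine Subgroup.index_eq_one.mp ?_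
      rw [hi] at hdvd ⊢
      rcases Nat.eq_zero_or_pos i with rfl | hi0
      · rfl
      · exact absurd ((dvd_pow_self 2 hi0.ne').trans hdvd) P2.not_dvd_index
    intro q hq
    have hq' : (⟨q, Subgroup.mem_sup_right hq⟩ : R') ∈ (P2 : Subgroup H2).map f := htop ▸ Subgroup.mem_top _
    obtain ⟨p, hp, hpq⟩ := hq'
    have h' : π (p : H) = q := congrArg Subtype.val hpq
    exact ⟨p, ⟨⟨p, hp, rfl⟩, show π (p : H) ∈ R from h' ▸ hq⟩, h'⟩
  choose L hLP hLπ using fun p : S × S => honto (SS p) ⟨p, rfl⟩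
  have hLuniq : ∀ p, ∀ k ∈ P, π k = SS p → k = L p := fun p k hk h => by
    refine mul_inv_eq_one.mp (hinjP _ (P.mul_mem hk (P.inv_mem (hLP p))) ?_)
    rw [map_mul, map_inv, h, hLπ, mul_inv_cancel]
  let ι : S × S →* G := H.subtype.comp (MonoidHom.mk' L fun p q =>
    (hLuniq _ _ (P.mul_mem (hLP p) (hLP q)) (by rw [map_mul, hLπ, hLπ, map_mul])).symm)
  have hι : ∀ p, ι p = (L p : G) := fun p => rfl
  have hιinj : Function.Injective ι := fun p q h => hSSinj (by
    have h2 : L p = L q := Subtype.ext h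
    rw [← hLπ, ← hLπ, h2])
  have hP2mem : ∀ x : H, x ∈ Subgroup.zpowers tH ⊔ eS.range → x ∈ P2' := fun x hx =>
    ⟨⟨x, hXle hx⟩, hP2 (show (⟨x, hXle hx⟩ : H2) ∈ (Subgroup.zpowers tH ⊔ eS.range).subgroupOf H2 from hx), rfl⟩
  refine ⟨⟨ι, hιinj, fun x => ?_, fun x y => ?_, fun a c a' c' ha hc h1 h2 => ?_⟩, ?_⟩
  · rw [hι]
    have hxP : eS x ∈ P := ⟨hP2mem _ (Subgroup.mem_sup_right ⟨x, rfl⟩), by
      show π (eH _) ∈ R
      rw [heπ, ← hΦdiag]
      exact ⟨(x, x), rfl⟩⟩
    have h := hLuniq (x, x) (eS x) hxP (by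
      show π (eH _) = _
      rw [heπ, ← hΦdiag]; rfl)
    rw [← h]; rfl
  · rw [hι, hι]
    have hflipSS : π (tH * L (x, y) * tH) = SS (y, x) := by
      rw [hflipπ, hLπ]; exact hΦflip _ _
    have htP : tH ∈ P2' := hP2mem _ (Subgroup.mem_sup_left (Subgroup.mem_zpowers _))
    have hmem : tH * L (x, y) * tH ∈ P := ⟨P2'.mul_mem (P2'.mul_mem htP (hLP _).1) htP, by
      show π (tH * L (x, y) * tH) ∈ R
      rw [hflipSS]; exact ⟨(y, x), rfl⟩⟩
    rw [← hLuniq (y, x) _ hmem hflipSS]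
    rfl
  · -- move into `U × U`
    have hmove : ∀ a c : S, a * a = 1 → c * c = 1 → ∃ u ∈ U, ∃ v ∈ U, IsConj (a : M) u ∧ IsConj (c : M) v ∧
        EvenConj (ι (a, c)) (K.BU.pt (u, v)) := by
      intro a c ha hc
      obtain ⟨n, hn, hnU⟩ := F.fuse a a.2 (congrArg Subtype.val ha)
      obtain ⟨m, hm, hmU⟩ := F.fuse c c.2 (congrArg Subtype.val hc)
      refine ⟨_, hnU, _, hmU, isConj_iff.mpr ⟨n, rfl⟩, isConj_iff.mpr ⟨m, rfl⟩, ?_⟩
      obtain ⟨y, hyv, hyπ⟩ := hptH _ _ hnU hmU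
      obtain ⟨k, hk⟩ : ∃ k, π k = Φ (⟨n, hn⟩, ⟨m, hm⟩) := QuotientGroup.mk_surjective _
      have hsq : ι (a, c) * ι (a, c) = 1 := by
        rw [← map_mul, Prod.mk_mul_mk, ha, hc, ← Prod.one_eq_mk, map_one]
      have hc' := hsame y (k * L (a, c) * k⁻¹) (by rw [hyv]; exact hptsq hnU hmU) (by
        simp only [Subgroup.coe_mul, Subgroup.coe_inv, ← hι]
        calc (k : G) * ι (a, c) * (k : G)⁻¹ * ((k : G) * ι (a, c) * (k : G)⁻¹)
            = (k : G) * (ι (a, c) * ι (a, c)) * (k : G)⁻¹ := by group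
          _ = 1 := by rw [hsq]; group) (by
        rw [hyπ, map_mul, map_mul, map_inv, hk, hLπ]
        show _ = Φ _ * Φ _ * (Φ _)⁻¹
        rw [← map_inv, ← map_mul, ← map_mul]
        rfl)
      rw [hyv] at hc'
      refine EvenConj.trans ⟨k, heven _ k hk, ?_⟩ hc'
      simp only [Subgroup.coe_mul, Subgroup.coe_inv, hι]
    obtain ⟨ka, hka⟩ := isConj_iff.mp h1
    obtain ⟨kc, hkc⟩ := isConj_iff.mp h2
    have hsq' : ∀ {x y : S} {g : M}, x * x = 1 → g * x * g⁻¹ = y → y * y = 1 := fun {x y g} hx he => Subtype.ext (by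
      have hxx : (x : M) * x = 1 := congrArg Subtype.val hx
      rw [Subgroup.coe_mul, Subgroup.coe_one, ← he, ← pow_two, conj_pow, pow_two, hxx, mul_one, mul_inv_cancel])
    obtain ⟨u, hu, v, hv, hau, hcv, hac⟩ := hmove a c ha hc
    obtain ⟨u', hu', v', hv', hau', hcv', hac'⟩ := hmove a' c' (hsq' ha hka) (hsq' hc hkc)
    exact (hac.trans (hfusU u hu v hv u' hu' v' hv' (hau.symm.trans (h1.trans hau'))
      (hcv.symm.trans (h2.trans hcv')))).trans hac'.symm
  · -- the second copy of `N(V)`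
    let NV := Subgroup.normalizer (V : Set M)
    have hS : ∀ {x : S}, (x : M) ∈ NV := fun {x} => F.S_le_NV x.2
    -- the image of `V × V` is the doubled module
    have hιW : ∀ x y : S, (x : M) ∈ V → (y : M) ∈ V → ι (x, y) ∈ K.WV F := by
      intro x y hx hy
      let w : H := ⟨K.BV.s x, K.sV_mem_NW F hx⟩ * (tH * ⟨K.BV.s y, K.sV_mem_NW F hy⟩ * tH)
      have hwW : (w : G) ∈ K.WV F := by
        show K.BV.s (x : M) * (C.t * K.BV.s y * C.t) ∈ K.WV F
        rw [K.BV.flip hy]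
        exact (K.WV F).mul_mem (K.BV.s_mem_W F.elemV hx) ⟨y, hy, y, hy, rfl⟩
      have hwπ : π w = π (L (x, y)) := by
        rw [hLπ]
        show π (⟨K.BV.s x, K.sV_mem_NW F hx⟩ * (tH * ⟨K.BV.s y, K.sV_mem_NW F hy⟩ * tH)) =
          Φ (⟨x, hS⟩, ⟨y, hS⟩)
        rw [map_mul, hflipπ, hΦ]
        exact congrArg₂ (fun a c => a * A.flipH c) ((hjv ⟨x, hx⟩).trans (ha1 ⟨x, hx⟩)).symm
          ((hjv ⟨y, hy⟩).trans (ha1 ⟨y, hy⟩)).symm
      set o := w⁻¹ * L (x, y) with ho
      have hoO : (o : G) ∈ O := (hker o).mp (by rw [ho, map_mul, map_inv, hwπ, inv_mul_cancel])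
      have hLsq : ι (x, y) * ι (x, y) = 1 := by
        rw [← map_mul, Prod.mk_mul_mk, show x * x = 1 from Subtype.ext (by
            rw [Subgroup.coe_mul, Subgroup.coe_one, ← pow_two]; exact F.elemV.2 x hx),
          show y * y = 1 from Subtype.ext (by
            rw [Subgroup.coe_mul, Subgroup.coe_one, ← pow_two]; exact F.elemV.2 y hy), ← Prod.one_eq_mk, map_one]
      have hwo : ι (x, y) = (w : G) * o :=
        congrArg Subtype.val (mul_inv_cancel_left w (L (x, y))).symm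
      have ho1 : (o : G) = 1 := by
        refine eq_one_of_sq hOodd hoO ?_
        rw [hwo, mul_assoc, ← mul_assoc (o : G), hOc o hoO _ hwW, mul_assoc (w : G), ← mul_assoc (w : G),
          K.BV.W_sq F.elemV hwW, one_mul] at hLsq
        exact hLsq
      rw [hwo, ho1, mul_one]
      exact hwW
    -- lifts fixed by the first coordinates
    let Q : Subgroup H := ((V ⊔ U).subgroupOf S).map ((MonoidHom.mk' L fun p q =>
      (hLuniq _ _ (P.mul_mem (hLP p) (hLP q)) (by rw [map_mul, hLπ, hLπ, map_mul])).symm).comp (MonoidHom.inl S S))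
    have hQ2 : IsPGroup 2 Q := (F.S_two.of_injective ((V ⊔ U).subgroupOf S).subtype
      (Subgroup.subtype_injective _)).map _
    have hex : ∀ n : NV, ∃ k : H, π k = Φ (1, n) ∧ ∀ x : S, (x : M) ∈ V ⊔ U → k * L (x, 1) = L (x, 1) * k := by
      intro n
      obtain ⟨k0, hk0⟩ : ∃ k, π k = Φ (1, n) := QuotientGroup.mk_surjective _
      let X := {k : H // π k = Φ (1, n)}
      have hst : ∀ q ∈ Q, ∀ k : X, π (q * k.1 * q⁻¹) = Φ (1, n) := by
        rintro _ ⟨x, -, rfl⟩ k
        rw [map_mul, map_mul, map_inv, k.2]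
        show π (L (x, 1)) * _ * (π (L (x, 1)))⁻¹ = _
        rw [hLπ]
        show Φ _ * Φ _ * (Φ _)⁻¹ = Φ _
        rw [← map_inv, ← map_mul, ← map_mul]
        refine congrArg Φ (Prod.ext (Subtype.ext ?_) (Subtype.ext ?_)) <;> simp
      letI : MulAction Q X :=
        { smul := fun q k => ⟨(q : H) * k.1 * (q : H)⁻¹, hst q q.2 k⟩
          one_smul := fun k => Subtype.ext (by show ((1 : Q) : H) * k.1 * ((1 : Q) : H)⁻¹ = k.1; simp)
          mul_smul := fun q q' k => Subtype.ext (by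
            show ((q * q' : Q) : H) * k.1 * ((q * q' : Q) : H)⁻¹ = (q : H) * ((q' : H) * k.1 * (q' : H)⁻¹) * (q : H)⁻¹
            rw [Subgroup.coe_mul]; group) }
      have hX : ¬ 2 ∣ Nat.card X := by
        rw [← Nat.card_congr (Equiv.ofBijective (fun o : O.subgroupOf H => (⟨k0 * o, by
          rw [map_mul, hk0, (hker o).mpr o.2, mul_one]⟩ : X))
          ⟨fun a c h => Subtype.ext (mul_left_cancel (congrArg Subtype.val h)),
            fun k => ⟨⟨k0⁻¹ * k.1, Subgroup.mem_subgroupOf.mpr ((hker (k0⁻¹ * k.1)).mp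
              (by rw [map_mul, map_inv, hk0, k.2, inv_mul_cancel]))⟩,
              Subtype.ext (mul_inv_cancel_left _ _)⟩⟩),
          Nat.card_congr (Subgroup.subgroupOfEquivOfLe hOle).toEquiv]
        exact fun h => (Nat.not_even_iff_odd.mpr hOodd) (even_iff_two_dvd.mpr h)
      haveI : Fact (Nat.Prime 2) := ⟨Nat.prime_two⟩
      obtain ⟨k, hk⟩ := hQ2.nonempty_fixed_point_of_prime_not_dvd_card X hX
      refine ⟨k.1, k.2, fun x hx => ?_⟩
      have h : L (x, 1) * k.1 * (L (x, 1))⁻¹ = k.1 :=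
        congrArg Subtype.val (hk (⟨L (x, 1), x, hx, rfl⟩ : Q))
      exact (mul_inv_eq_iff_eq_mul.mp h).symm
    choose k hkπ hkc using hex
    have hOW : ∀ g : H, π g = 1 → Odd (orderOf (g : G)) ∧ ∀ x y : S, (x : M) ∈ V → (y : M) ∈ V →
        (g : G) * ι (x, y) = ι (x, y) * g := by
      intro g hg
      refine ⟨Odd.of_dvd_nat hOodd ?_, fun x y hx hy => hOc g ((hker g).mp hg) _ (hιW x y hx hy)⟩
      rw [← Subgroup.orderOf_mk (g : G) ((hker g).mp hg)]
      exact orderOf_dvd_natCard _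
    let f : M → G := fun n => if h : n ∈ NV then (k ⟨n, h⟩ : G) else 1
    have hf : ∀ n (h : n ∈ NV), f n = k ⟨n, h⟩ := fun n h => dif_pos h
    refine ⟨f, fun n hn x hx => ?_, fun n hn v v' hv he => ?_, fun n hn m hm => ?_, fun s => ?_⟩
    · rw [hf n hn]
      exact congrArg Subtype.val (hkc ⟨n, hn⟩ x (hx.elim (fun h => Subgroup.mem_sup_left h)
        fun h => Subgroup.mem_sup_right h))
    · rw [hf n hn]
      have hv' : (v' : M) ∈ V := he ▸ (Subgroup.mem_normalizer_iff.mp hn _).mp hv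
      have h1 : π (k ⟨n, hn⟩ * L (1, v) * (k ⟨n, hn⟩)⁻¹ * (L (1, v'))⁻¹) = 1 := by
        rw [map_mul, map_mul, map_mul, map_inv, map_inv, hkπ, hLπ, hLπ]
        show Φ _ * Φ _ * (Φ _)⁻¹ * (Φ _)⁻¹ = 1
        rw [← map_inv, ← map_inv, ← map_mul, ← map_mul, ← map_mul, ← map_one Φ]
        refine congrArg Φ (Prod.ext (Subtype.ext ?_) (Subtype.ext ?_))
        · simp
        · show n * v * n⁻¹ * (v' : M)⁻¹ = 1
          rw [he, mul_inv_cancel]
      have h2 : ((k ⟨n, hn⟩ * L (1, v) * (k ⟨n, hn⟩)⁻¹ * (L (1, v'))⁻¹ : H) : G) ∈ K.WV F :=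
        (K.WV F).mul_mem ((Subgroup.mem_normalizer_iff.mp (k ⟨n, hn⟩).2 _).mp (hιW 1 v V.one_mem hv))
          ((K.WV F).inv_mem (hιW 1 v' V.one_mem hv'))
      have h3 := eq_one_of_sq hOodd ((hker _).mp h1) (K.BV.W_sq F.elemV h2)
      exact mul_inv_eq_one.mp h3
    · rw [hf n hn, hf m hm, hf _ (NV.mul_mem hn hm)]
      exact hOW ((k ⟨n * m, NV.mul_mem hn hm⟩)⁻¹ * (k ⟨n, hn⟩ * k ⟨m, hm⟩)) (by
        rw [map_mul, map_mul, map_inv, hkπ, hkπ, hkπ, ← map_inv, ← map_mul, ← map_mul, ← map_one Φ]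
        exact congrArg Φ (Prod.ext (Subtype.ext (by simp)) (Subtype.ext (by simp))))
    · rw [hf s hS]
      exact hOW ((k ⟨s, hS⟩)⁻¹ * L (1, s)) (by
        rw [map_mul, map_inv, hkπ, hLπ]
        show (Φ _)⁻¹ * Φ _ = 1
        rw [← map_inv, ← map_mul, ← map_one Φ]
        exact congrArg Φ (Prod.ext (Subtype.ext (by simp)) (Subtype.ext (by simp))))

/-- The doubled group over `S` with coordinatewise fusion. -/
theorem exists_wreath (K : Link C V U) (F : Frame V U S z) (E : LocExact C V U) (hp : K.IsProd) (hV : TCtx C V)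
    (hUfus : ∀ u ∈ U, ∀ u' ∈ U, IsConj u u' → ∃ g ∈ Subgroup.normalizer (U : Set M), g * u * g⁻¹ = u') :
    Nonempty (Wreath C S) :=
  (K.exists_wreath_half F E hp hV hUfus).elim fun W _ => ⟨W⟩

end Link

end Cfsg.Lib.StdWreath
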