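import Mathlib

/-!
Two commuting involutions acting on a group of odd order.
-/

set_option autoImplicit false

namespace Cfsg.Lib.StdWreath

universe u

variable {G : Type u} [Group G] [Finite G]

theorem odd_sqrt {N : Subgroup G} (hN : Odd (Nat.card N)) {r : G} (hr : r ∈ N) : ∃ k : ℕ, (r ^ k) * (r ^ k) = r := by
  obtain ⟨k, hk⟩ := hN
  refine ⟨k + 1, ?_⟩
  have h1 : r ^ (2 * k + 1) = 1 := by
    rw [← hk]; exact congrArg Subtype.val (pow_card_eq_one' (G := N) (x := ⟨r, hr⟩))
  rw [← pow_add, show k + 1 + (k + 1) = 2 * k + 1 + 1 by ring, pow_succ, h1, one_mul]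

theorem eq_one_of_sq {N : Subgroup G} (hN : Odd (Nat.card N)) {r : G} (hr : r ∈ N) (h : r * r = 1) : r = 1 := by
  obtain ⟨k, hk⟩ := hN
  have h1 : r ^ (2 * k + 1) = 1 := by
    rw [← hk]; exact congrArg Subtype.val (pow_card_eq_one' (G := N) (x := ⟨r, hr⟩))
  rwa [pow_succ, pow_mul, pow_two, h, one_pow, one_mul] at h1

theorem eq_one_of_conj_inv {N : Subgroup G} (hN : Odd (Nat.card N)) {k x : G} (hk : k ∈ N) (hx : x ∈ N)
    (h : k * x * k⁻¹ = x⁻¹) : x = 1 := by
  obtain ⟨j, hj⟩ := odd_sqrt hN hk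
  have h2 : Commute (k * k) x := by
    show k * k * x = x * (k * k)
    have h3 : k * x⁻¹ * k⁻¹ = x := by
      calc k * x⁻¹ * k⁻¹ = (k * x * k⁻¹)⁻¹ := by group
        _ = x := by rw [h, inv_inv]
    calc k * k * x = k * (k * x * k⁻¹) * k := by group
      _ = (k * x⁻¹ * k⁻¹) * (k * k) := by rw [h]; group
      _ = _ := by rw [h3]
  have h4 : Commute k x := by
    have h5 : Commute (k * k) x := h2
    have h6 := h5.pow_left j
    rwa [Commute.mul_pow rfl, hj] at h6
  rw [h4.eq, mul_inv_cancel_right] at h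
  exact eq_one_of_sq hN hx (by nth_rw 1 [h]; exact inv_mul_cancel x)

/-- If the fixed points of `t` and `t w` agree and lie among those of `w`, then `w` acts trivially. -/
theorem trivial_of_four {N : Subgroup G} (hN : Odd (Nat.card N)) {t w : G} (ht : t * t = 1) (hw : w * w = 1)
    (htw : t * w = w * t) (hNt : ∀ g ∈ N, t * g * t ∈ N) (hNw : ∀ g ∈ N, w * g * w ∈ N)
    (hfix : ∀ g ∈ N, g * t = t * g → g * w = w * g) (hfix' : ∀ g ∈ N, g * (t * w) = t * w * g → g * t = t * g) :
    ∀ g ∈ N, g * w = w * g := by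
  have hti : ∀ g, t * (t * g) = g := fun g => by rw [← mul_assoc, ht, one_mul]
  have hwi : ∀ g, w * (w * g) = g := fun g => by rw [← mul_assoc, hw, one_mul]
  have hwinv : w⁻¹ = w := inv_eq_of_mul_eq_one_right hw
  have htinv : t⁻¹ = t := inv_eq_of_mul_eq_one_right ht
  -- no element is inverted by `w`
  have key : ∀ q ∈ N, w * q * w = q⁻¹ → q = 1 := by
    intro q hq hqw
    obtain ⟨j, hj⟩ := odd_sqrt hN (N.mul_mem (N.inv_mem hq) (hNt q hq))
    set p := (q⁻¹ * (t * q * t)) ^ j with hp
    have hpN : p ∈ N := pow_mem (N.mul_mem (N.inv_mem hq) (hNt q hq)) _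
    have hpt : t * p * t = p⁻¹ := by
      have h : (t * (q⁻¹ * (t * q * t)) * t⁻¹) ^ j = t * p * t⁻¹ := conj_pow
      have h2 : t * (q⁻¹ * (t * q * t)) * t⁻¹ = (q⁻¹ * (t * q * t))⁻¹ := by
        rw [htinv]
        calc t * (q⁻¹ * (t * q * t)) * t = t * q⁻¹ * t * q * (t * t) := by group
          _ = t * q⁻¹ * t * q := by rw [ht, mul_one]
          _ = _ := by rw [mul_inv_rev, mul_inv_rev, mul_inv_rev, inv_inv, htinv]; group
      rw [h2, inv_pow, ← hp, htinv] at h
      exact h.symm
    set f := q * p with hf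
    have hfN : f ∈ N := N.mul_mem hq hpN
    have hft : f * t = t * f := by
      have h1 : t * f * t = f := by
        calc t * f * t = (t * q * t) * (t * p * t) := by
              calc t * f * t = t * q * 1 * p * t := by rw [hf]; group
                _ = _ := by rw [← ht]; group
          _ = q * (q⁻¹ * (t * q * t)) * p⁻¹ := by rw [hpt]; group
          _ = q * (p * p) * p⁻¹ := by rw [hj]
          _ = f := by rw [hf]; group
      calc f * t = t * f * t * t := by rw [h1]
        _ = _ := by rw [mul_assoc, ht, mul_one]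
    have hfw : w * f * w = f := by
      rw [mul_assoc, hfix f hfN hft, hwi]
    have hqe : q = f * p⁻¹ := by rw [hf, mul_inv_cancel_right]
    have hpw : w * p⁻¹ * w = f⁻¹ * p * f⁻¹ := by
      have h1 : f * (w * p⁻¹ * w) = p * f⁻¹ := by
        calc f * (w * p⁻¹ * w) = (w * f * w) * (w * p⁻¹ * w) := by rw [hfw]
          _ = w * f * (w * w) * p⁻¹ * w := by group
          _ = w * q * w := by rw [hw, hqe]; group
          _ = p * f⁻¹ := by rw [hqw, hqe]; group
      rw [mul_assoc f⁻¹, ← h1, inv_mul_cancel_left]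
    have hpw2 : w * p * w = f⁻¹ * p⁻¹ * f⁻¹ := by
      have h1 : t * (w * p⁻¹ * w) * t = w * p * w := by
        calc t * (w * p⁻¹ * w) * t = (t * w) * p⁻¹ * (w * t) := by group
          _ = (w * t) * p⁻¹ * (t * w) := by rw [htw]
          _ = w * (t * p⁻¹ * t) * w := by group
          _ = w * (t * p * t)⁻¹ * w := by rw [mul_inv_rev, mul_inv_rev, htinv]; group
          _ = w * p * w := by rw [hpt, inv_inv]
      rw [← h1, hpw]
      calc t * (f⁻¹ * p * f⁻¹) * t = (t * f⁻¹) * p * (f⁻¹ * t) := by group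
        _ = (f⁻¹ * t) * p * (t * f⁻¹) := by
            rw [show t * f⁻¹ = f⁻¹ * t from (Commute.inv_left (show Commute f t from hft)).symm.eq]
        _ = f⁻¹ * (t * p * t) * f⁻¹ := by group
        _ = _ := by rw [hpt]
    -- the two expressions are inverse to each other
    have hff : p⁻¹ * (f * f) * p = (f * f)⁻¹ := by
      have h1 : f⁻¹ * p⁻¹ * f⁻¹ = f * p⁻¹ * f := by
        rw [← hpw2]
        calc w * p * w = (w * p⁻¹ * w)⁻¹ := by rw [mul_inv_rev, mul_inv_rev, inv_inv, hwinv]; group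
          _ = _ := by rw [hpw]; group
      calc p⁻¹ * (f * f) * p = f⁻¹ * (f * p⁻¹ * f) * f * p := by group
        _ = _ := by rw [← h1]; group
    have hf2 : f * f = 1 := eq_one_of_conj_inv hN (N.inv_mem hpN) (N.mul_mem hfN hfN) (by rwa [inv_inv])
    have hf1 : f = 1 := eq_one_of_sq hN hfN hf2
    rw [hf1, one_mul] at hqe
    have hqt : t * q * t = q⁻¹ := by
      rw [hqe, inv_inv]
      calc t * p⁻¹ * t = (t * p * t)⁻¹ := by rw [mul_inv_rev, mul_inv_rev, htinv]; group
        _ = p := by rw [hpt, inv_inv]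
    have hqtw : q * (t * w) = t * w * q := by
      have h1 : t * w * q * (w * t) = q := by
        calc t * w * q * (w * t) = t * (w * q * w) * t := by group
          _ = (t * q * t)⁻¹ := by rw [hqw, mul_inv_rev, mul_inv_rev, htinv]; group
          _ = q := by rw [hqt, inv_inv]
      calc q * (t * w) = t * w * q * (w * t) * (t * w) := by rw [h1]
        _ = t * w * q * (w * (t * t) * w) := by group
        _ = _ := by rw [ht, mul_one, hw, mul_one]
    have hqw' := hfix q hq (hfix' q hq hqtw)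
    have : q = q⁻¹ := by rw [← hqw, ← hqw', mul_assoc, hw, mul_one]
    exact eq_one_of_sq hN hq (by nth_rw 1 [this]; exact inv_mul_cancel q)
  intro g hg
  obtain ⟨j, hj⟩ := odd_sqrt hN (N.mul_mem (N.inv_mem hg) (hNw g hg))
  have hr : g⁻¹ * (w * g * w) = 1 := key _ (N.mul_mem (N.inv_mem hg) (hNw g hg)) (by
    calc w * (g⁻¹ * (w * g * w)) * w = w * g⁻¹ * w * g * (w * w) := by group
      _ = _ := by rw [hw, mul_one, mul_inv_rev, mul_inv_rev, mul_inv_rev, inv_inv, hwinv]; group)
  rw [inv_mul_eq_one] at hr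
  calc g * w = w * g * w * w := by rw [← hr]
    _ = _ := by rw [mul_assoc, hw, mul_one]

end Cfsg.Lib.StdWreath
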