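import Mathlib
import Cfsg.Prelude.Def_Local
import Cfsg.Prelude.Def_Spor_Mathieu

/-!
Local data of a Mathieu-like group `M` with two elementary abelian 2-subgroups `V`, `U`, used for the standard-form
statements with `M` as standard component: the predicates, all stated inside `M`.
-/

set_option autoImplicit false

namespace Cfsg.Lib.StdWreath

universe u

variable {M : Type u} [Group M]

/-- `f` is additive on `X`. -/
def AddOn {A : Type*} [Mul A] (X : Subgroup M) (f : M → A) : Prop :=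
  ∀ x ∈ X, ∀ y ∈ X, f (x * y) = f x * f y

/-- Every cocycle of the normaliser of `X` with values in the dual of `X` is a coboundary. -/
def CobDual (X : Subgroup M) : Prop :=
  ∀ D : M → M → Multiplicative (ZMod 2),
    (∀ g ∈ Subgroup.normalizer (X : Set M), AddOn X (D g)) →
    (∀ g ∈ Subgroup.normalizer (X : Set M), ∀ h ∈ Subgroup.normalizer (X : Set M), ∀ x ∈ X,
      D (g * h) x = D g (h * x * h⁻¹) * D h x) →
    ∃ φ : M → Multiplicative (ZMod 2), AddOn X φ ∧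
      ∀ g ∈ Subgroup.normalizer (X : Set M), ∀ x ∈ X, D g x = φ (g * x * g⁻¹) * φ x

/-- Every cocycle of the normaliser of `X` with values in the endomorphisms of `X` is a coboundary. -/
def CobEnd (X : Subgroup M) : Prop :=
  ∀ D : M → M → M,
    (∀ g ∈ Subgroup.normalizer (X : Set M), AddOn X (D g)) →
    (∀ g ∈ Subgroup.normalizer (X : Set M), ∀ x ∈ X, D g x ∈ X) →
    (∀ g ∈ Subgroup.normalizer (X : Set M), ∀ h ∈ Subgroup.normalizer (X : Set M), ∀ x ∈ X,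
      D (g * h) x = D g (h * x * h⁻¹) * (g * D h x * g⁻¹)) →
    ∃ φ : M → M, AddOn X φ ∧ (∀ x ∈ X, φ x ∈ X) ∧
      ∀ g ∈ Subgroup.normalizer (X : Set M), ∀ x ∈ X, D g x = φ (g * x * g⁻¹) * (g * φ x * g⁻¹)

/-- An invariant alternating map `X × X → X` which is additive in both variables is trivial. -/
def WedgeZero (X : Subgroup M) : Prop :=
  ∀ β : M → M → M,
    (∀ x ∈ X, ∀ y ∈ X, β x y ∈ X) →
    (∀ x ∈ X, AddOn X (β x)) → (∀ y ∈ X, AddOn X (fun x => β x y)) → (∀ x ∈ X, β x x = 1) →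
    (∀ g ∈ Subgroup.normalizer (X : Set M), ∀ x ∈ X, ∀ y ∈ X,
      β (g * x * g⁻¹) (g * y * g⁻¹) = g * β x y * g⁻¹) →
    ∀ x ∈ X, ∀ y ∈ X, β x y = 1

/-- An invariant endomorphism of `X` is trivial or the identity. -/
def EndScalar (X : Subgroup M) : Prop :=
  ∀ f : M → M, (∀ x ∈ X, f x ∈ X) → AddOn X f →
    (∀ g ∈ Subgroup.normalizer (X : Set M), ∀ x ∈ X, f (g * x * g⁻¹) = g * f x * g⁻¹) →
    (∀ x ∈ X, f x = 1) ∨ ∀ x ∈ X, f x = x

/-- An invariant quadratic form on `X` is zero. -/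
def QuadZero (X : Subgroup M) : Prop :=
  ∀ q : M → ZMod 2,
    (∀ g ∈ Subgroup.normalizer (X : Set M), ∀ x ∈ X, q (g * x * g⁻¹) = q x) → q 1 = 0 →
    (∀ x ∈ X, ∀ y ∈ X, ∀ w ∈ X,
      q (x * y * w) + q (x * y) + q (x * w) + q (y * w) + q x + q y + q w = 0) →
    ∀ x ∈ X, q x = 0

/-- The action of the normaliser of `X` lifts to no homocyclic group of exponent four over `X`. -/
def NoLift (X : Subgroup M) : Prop :=
  ∀ (Y : Type) [CommGroup Y] [Finite Y] (π : Y →* M) (ρ : M → Y ≃* Y),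
    π.range = X → Nat.card Y = Nat.card X * Nat.card X →
    (∀ y : Y, π y = 1 ↔ ∃ x : Y, x ^ 2 = y) → (∀ y : Y, y ^ 2 = 1 → π y = 1) →
    (∀ g ∈ Subgroup.normalizer (X : Set M), ∀ h ∈ Subgroup.normalizer (X : Set M), ∀ y : Y,
      ρ (g * h) y = ρ g (ρ h y)) →
    (∀ g ∈ Subgroup.normalizer (X : Set M), ∀ y : Y, π (ρ g y) = g * π y * g⁻¹) → False

/-- `B` is moved: its normaliser does not fix `α`. -/
def Moves (B : Subgroup M) (α : M) : Prop :=
  ∃ m ∈ Subgroup.normalizer (B : Set M), m * α * m⁻¹ ≠ α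

/-- The commutator map. -/
def comm (x u : M) : M := x * u * x⁻¹ * u⁻¹

/-- The generators of the twisted action on `U × U`: the diagonal action of `N(U)` and, for `x ∈ V`, the twisted
translation `(y, w) ↦ (y [x,w], w [x,y] [x,w])`. -/
inductive TwistWord (V U : Subgroup M) : (M × M → M × M) → Prop
  | id : TwistWord V U (fun p => p)
  | diag (g : M) (hg : g ∈ Subgroup.normalizer (U : Set M)) (f : M × M → M × M) (hf : TwistWord V U f) :
      TwistWord V U (fun p => (g * (f p).1 * g⁻¹, g * (f p).2 * g⁻¹))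
  | twist (x : M) (hx : x ∈ V) (f : M × M → M × M) (hf : TwistWord V U f) :
      TwistWord V U (fun p => ((f p).1 * comm x (f p).2, (f p).2 * (comm x (f p).1 * comm x (f p).2)))

/-- Some composite of the twisted generators commutes with the swap and acts on the diagonal as no element of the
normaliser of `U`. -/
def TwistKills (V U : Subgroup M) : Prop :=
  ∃ f : M × M → M × M, TwistWord V U f ∧
    (∀ y ∈ U, ∀ w ∈ U, f (w, y) = Prod.swap (f (y, w))) ∧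
    ¬ ∃ n ∈ Subgroup.normalizer (U : Set M), ∀ y ∈ U, (f (y, y)).1 = n * y * n⁻¹

/-- The local facts which do not depend on the number of classes of involutions. -/
structure Frame (V U S : Subgroup M) (z : M) : Prop where
  simple : IsSimpleGroup M
  elemV : Cfsg.IsElementaryAbelian 2 V
  cardV : Nat.card V = 16
  elemU : Cfsg.IsElementaryAbelian 2 U
  cardL : Nat.card (U ⊓ V : Subgroup M) = 4
  V_le : V ≤ S
  U_le : U ≤ S
  S_le_NV : S ≤ Subgroup.normalizer (V : Set M)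
  S_le_NU : S ≤ Subgroup.normalizer (U : Set M)
  S_two : IsPGroup 2 S
  S_sylow : ¬ 2 ∣ S.index
  order_z : orderOf z = 2
  z_mem : z ∈ U ⊓ V
  center_S : ∀ x, (x ∈ S ∧ ∀ s ∈ S, s * x = x * s) ↔ x = 1 ∨ x = z
  centralizer_V : Subgroup.centralizer (V : Set M) = V
  centralizer_U : Subgroup.centralizer (U : Set M) = U
  NV_perfect : ⁅Subgroup.normalizer (V : Set M), Subgroup.normalizer (V : Set M)⁆ = Subgroup.normalizer (V : Set M)
  V_trans : ∀ x ∈ V, x ≠ 1 → ∃ n ∈ Subgroup.normalizer (V : Set M), n * z * n⁻¹ = x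
  U_span : ∀ x ∈ U, x ≠ 1 → U ≤ Subgroup.closure {y | ∃ n ∈ Subgroup.normalizer (U : Set M), n * x * n⁻¹ = y}
  U_gen : ∀ H : Subgroup M, V ≤ H → U ≤ H → H ≤ Subgroup.normalizer (V : Set M) →
    (∀ n ∈ Subgroup.normalizer (V : Set M), ∀ h ∈ H, n * h * n⁻¹ ∈ H) → H = Subgroup.normalizer (V : Set M)
  NU_gen : ∀ H : Subgroup M,
    Subgroup.normalizer (U : Set M) ⊓ Subgroup.normalizer (V : Set M) ≤ H →
    (∀ n ∈ Subgroup.normalizer (U : Set M), ∀ h ∈ H, n * h * n⁻¹ ∈ H) → Subgroup.normalizer (U : Set M) ≤ H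
  L_trans : ∀ x ∈ U ⊓ V, x ≠ 1 →
    ∃ n ∈ Subgroup.normalizer (U : Set M) ⊓ Subgroup.normalizer (V : Set M), n * z * n⁻¹ = x
  L_end : ∀ f : M → M, (∀ x ∈ U ⊓ V, f x ∈ U ⊓ V) → AddOn (U ⊓ V) f →
    (∀ g ∈ Subgroup.normalizer (U : Set M) ⊓ Subgroup.normalizer (V : Set M), ∀ x ∈ U ⊓ V,
      f (g * x * g⁻¹) = g * f x * g⁻¹) →
    (∀ x ∈ U ⊓ V, f x = 1) ∨ ∀ x ∈ U ⊓ V, f x = x
  hom_UL : ∀ f : M → M, (∀ x ∈ U, f x ∈ U ⊓ V) → AddOn U f → (∀ x ∈ U ⊓ V, f x = 1) →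
    (∀ g ∈ Subgroup.normalizer (U : Set M) ⊓ Subgroup.normalizer (V : Set M), ∀ x ∈ U,
      f (g * x * g⁻¹) = g * f x * g⁻¹) → ∀ x ∈ U, f x = 1
  bil_VU : ∀ f : M → M → M, (∀ x ∈ V, ∀ y ∈ U, f x y ∈ U ⊓ V) → (∀ x ∈ V, AddOn U (f x)) →
    (∀ y ∈ U, AddOn V (fun x => f x y)) →
    (∀ x ∈ V, ∀ y ∈ U, x ∈ U ∨ y ∈ V → f x y = 1) →
    (∀ g ∈ Subgroup.normalizer (U : Set M) ⊓ Subgroup.normalizer (V : Set M), ∀ x ∈ V, ∀ y ∈ U,
      f (g * x * g⁻¹) (g * y * g⁻¹) = g * f x y * g⁻¹) →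
    (∀ x ∈ V, ∀ y ∈ U, f x y = 1) ∨ ∀ x ∈ V, ∀ y ∈ U, f x y = comm x y
  cobDual_V : CobDual V
  cobEnd_V : CobEnd V
  wedge_V : WedgeZero V
  end_V : EndScalar V
  quad_V : QuadZero V
  noLift_V : NoLift V
  cobDual_U : CobDual U
  cobEnd_U : CobEnd U
  wedge_U : WedgeZero U
  end_U : EndScalar U
  quad_U : QuadZero U
  twist : TwistKills V U
  inv_derived : ∀ a : M, orderOf a = 2 →
    a ∈ ⁅Subgroup.centralizer ({a} : Set M), Subgroup.centralizer ({a} : Set M)⁆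
  no_root : ∀ a : M, orderOf a = 2 → ∀ β : M, β * β = a →
    ∃ x ∈ ⁅Subgroup.centralizer ({a} : Set M), Subgroup.centralizer ({a} : Set M)⁆,
      (∃ k : ℕ, x ^ 2 ^ k = 1) ∧ β * x ≠ x * β
  z_comm : ∃ c ∈ S, ∃ d ∈ S, orderOf c = 2 ∧ orderOf d = 2 ∧ c * d * c * d = z
  odd_core_z : ∀ D : Subgroup M, D ≤ Subgroup.centralizer ({z} : Set M) → Odd (Nat.card D) →
    (∀ g ∈ Subgroup.centralizer ({z} : Set M), ∀ d ∈ D, g * d * g⁻¹ ∈ D) → D = ⊥
  fuse : ∀ s ∈ S, s * s = 1 → ∃ n ∈ Subgroup.normalizer (V : Set M), n * s * n⁻¹ ∈ U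

/-- The facts special to the group of degree 24 (two classes `z`, `b` of involutions). -/
structure Facts24 (V U S : Subgroup M) (z b : M) : Prop extends Frame V U S z where
  card_S : Nat.card S = 2 ^ 10
  cardU : Nat.card U = 64
  aut_V : ∀ f : M → M, (∀ x ∈ V, f x ∈ V) → AddOn V f → (∀ x ∈ V, f x = 1 → x = 1) →
    ∃ n ∈ Subgroup.normalizer (V : Set M), ∀ x ∈ V, n * x * n⁻¹ = f x
  order_b : orderOf b = 2
  b_mem : b ∈ U
  b_not_conj : ¬ IsConj b z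
  classes : ∀ a : M, orderOf a = 2 → IsConj a z ∨ IsConj a b
  U_orbits : ∀ x ∈ U, x ≠ 1 →
    ∃ n ∈ Subgroup.normalizer (U : Set M), n * x * n⁻¹ = z ∨ n * x * n⁻¹ = b
  centralizer_b_index : (S ⊓ Subgroup.centralizer ({b} : Set M)).relIndex S = 2
  centralizer_b_sylow : ¬ 2 ∣ (S ⊓ Subgroup.centralizer ({b} : Set M)).relIndex (Subgroup.centralizer ({b} : Set M))
  moves_z : ∀ B : Subgroup M, Cfsg.IsElementaryAbelian 2 B → Nat.card B = 64 → z ∈ B →
    S ≤ Subgroup.normalizer (B : Set M) → Moves B z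
  moves_b : ∀ B : Subgroup M, Cfsg.IsElementaryAbelian 2 B → Nat.card B = 64 → b ∈ B →
    S ⊓ Subgroup.centralizer ({b} : Set M) ≤ Subgroup.normalizer (B : Set M) → Moves B b
  no_affine : ∀ f : M → M, (∀ x ∈ U, f x ∈ U) → AddOn U f → (∀ x ∈ U, f x = 1 → x = 1) → ∀ c ∈ U, IsConj c b →
    ¬ ∀ x ∈ U, x = 1 ∨ IsConj x b → f x * c = 1 ∨ IsConj (f x * c) b
  Cz_le_NV : ∀ q ∈ Subgroup.centralizer ({z} : Set M), q ∈ Subgroup.normalizer (V : Set M)
  only_V : ∀ B : Subgroup M, Cfsg.IsElementaryAbelian 2 B → Nat.card B = 16 → z ∈ B →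
    Subgroup.centralizer ({z} : Set M) ≤ Subgroup.normalizer (B : Set M) →
    Nat.card (B ⊓ U : Subgroup M) = 4 → B = V
  S_gen : S ≤ Subgroup.closure {x | x ∈ S ∧ x * x = 1}
  big_centralizers : ∀ x ∈ S, x * x = 1 → 64 ≤ Nat.card (S ⊓ Subgroup.centralizer ({x} : Set M) : Subgroup M)
  roots_z : Nat.card {s : M // s ∈ S ∧ s * s = z} = 96
  roots_one : Nat.card {s : M // s ∈ S ∧ s * s = 1} = 192
  center_Cb : ∀ x, (x ∈ S ⊓ Subgroup.centralizer ({b} : Set M) ∧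
    ∀ s ∈ S ⊓ Subgroup.centralizer ({b} : Set M), s * x = x * s) ↔ x = 1 ∨ x = z ∨ x = b ∨ x = b * z
  roots_Cb_z : Nat.card {s : M // s ∈ S ⊓ Subgroup.centralizer ({b} : Set M) ∧ s * s = z} = 32
  roots_Cb_b : Nat.card {s : M // s ∈ S ⊓ Subgroup.centralizer ({b} : Set M) ∧ s * s = b} = 16
  roots_Cb_bz : Nat.card {s : M // s ∈ S ⊓ Subgroup.centralizer ({b} : Set M) ∧ s * s = b * z} = 16
  roots_Cb_one : Nat.card {s : M // s ∈ S ⊓ Subgroup.centralizer ({b} : Set M) ∧ s * s = 1} = 128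

end Cfsg.Lib.StdWreath
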