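import Cfsg.Agent.StdWreath.Second

/-!
Splitting the normaliser of the doubled module modulo its odd centraliser into two commuting copies of `N(V)`,
in abstract form.
-/

set_option autoImplicit false
set_option linter.unusedSectionVars false

namespace Cfsg.Lib.StdWreath

open scoped commutatorElement

universe u v

variable {M : Type v} [Group M]

/-- A group with an involution exchanging two copies of `V`, containing the diagonal action of `N(V)` and the first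
coordinate of `U`. -/
structure Halves (Q : Type u) [Group Q] (V U : Subgroup M) where
  tq : Q
  tq_sq : tq * tq = 1
  eq : Subgroup.normalizer (V : Set M) →* Q
  a1 : V →* Q
  u1 : M → Q
  a_comm : ∀ x y : V, a1 x * (tq * a1 y * tq) = tq * a1 y * tq * a1 x
  a_diag : ∀ x : V, a1 x * (tq * a1 x * tq) = eq ⟨x, Subgroup.le_normalizer x.2⟩
  a_inj : ∀ x y : V, a1 x * (tq * a1 y * tq) = 1 → x = 1 ∧ y = 1
  a_equiv : ∀ (n : Subgroup.normalizer (V : Set M)) (x y : V), (n : M) * x * (n : M)⁻¹ = y →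
    eq n * a1 x * (eq n)⁻¹ = a1 y
  eq_t : ∀ n, eq n * tq = tq * eq n
  eq_inj : Function.Injective eq
  cent_W : ∀ q : Q, (∀ x : V, q * a1 x = a1 x * q) → (∀ x : V, q * (tq * a1 x * tq) = tq * a1 x * tq * q) →
    ∃ x y : V, q = a1 x * (tq * a1 y * tq)
  cent_t : ∀ q : Q, q * tq = tq * q → ∃ n, q = eq n ∨ q = eq n * tq
  u_add : ∀ a ∈ U, ∀ c ∈ U, u1 (a * c) = u1 a * u1 c
  u_comm : ∀ a ∈ U, ∀ c ∈ U, u1 a * (tq * u1 c * tq) = tq * u1 c * tq * u1 a
  u_diag : ∀ a ∈ U, ∀ h : a ∈ Subgroup.normalizer (V : Set M), u1 a * (tq * u1 a * tq) = eq ⟨a, h⟩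
  u_act : ∀ a ∈ U, ∀ x y : V, a * x * a⁻¹ = y → u1 a * a1 x * (u1 a)⁻¹ = a1 y
  u_triv : ∀ a ∈ U, ∀ x : V, u1 a * (tq * a1 x * tq) = tq * a1 x * tq * u1 a
  u_L : ∀ a ∈ U, ∀ h : a ∈ V, u1 a = a1 ⟨a, h⟩
  u_equiv : ∀ n : Subgroup.normalizer (V : Set M), (n : M) ∈ Subgroup.normalizer (U : Set M) → ∀ a ∈ U,
    eq n * u1 a * (eq n)⁻¹ = u1 ((n : M) * a * (n : M)⁻¹)

namespace Halves

variable {Q : Type u} [Group Q] {V U S : Subgroup M} {z : M} (A : Halves Q V U)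

theorem tt (q : Q) : A.tq * (A.tq * q) = q := by rw [← mul_assoc, A.tq_sq, one_mul]

theorem tq_inv : A.tq⁻¹ = A.tq := inv_eq_of_mul_eq_one_right A.tq_sq

/-- Conjugation by `t`. -/
def flipH : Q →* Q where
  toFun q := A.tq * q * A.tq
  map_one' := by rw [mul_one, A.tq_sq]
  map_mul' a c := by
    rw [show A.tq * a * A.tq * (A.tq * c * A.tq) = A.tq * a * (A.tq * (A.tq * c)) * A.tq by group, A.tt]; group

theorem flipH_apply (q : Q) : A.flipH q = A.tq * q * A.tq := rfl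

theorem flipH_flipH (q : Q) : A.flipH (A.flipH q) = q := by
  rw [flipH_apply, flipH_apply, ← mul_assoc A.tq (A.tq * q) A.tq, A.tt, mul_assoc, A.tq_sq, mul_one]

theorem flipH_eq (n : Subgroup.normalizer (V : Set M)) : A.flipH (A.eq n) = A.eq n := by
  rw [flipH_apply, ← A.eq_t, mul_assoc, A.tq_sq, mul_one]

/-- The first copy of `V`. -/
def W1 : Subgroup Q := A.a1.range

/-- The second copy of `V`. -/
def W2 : Subgroup Q := (A.flipH.comp A.a1).range

/-- Acting on the first copy only. -/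
def K1 : Subgroup Q := Subgroup.normalizer (A.W1 : Set Q) ⊓ Subgroup.centralizer (A.W2 : Set Q)

theorem a1_mem_K1 (x : V) (hV : ∀ x y : V, x * y = y * x) : A.a1 x ∈ A.K1 := by
  refine ⟨Subgroup.le_normalizer ⟨x, rfl⟩, Subgroup.mem_centralizer_iff.mpr ?_⟩
  rintro _ ⟨y, rfl⟩
  exact (A.a_comm x y).symm

theorem K1_act {k : Q} (hk : k ∈ A.K1) (x : V) : ∃ y : V, k * A.a1 x * k⁻¹ = A.a1 y := by
  obtain ⟨y, hy⟩ := (Subgroup.mem_normalizer_iff.mp hk.1 (A.a1 x)).mp ⟨x, rfl⟩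
  exact ⟨y, hy.symm⟩

theorem K1_fix {k : Q} (hk : k ∈ A.K1) (x : V) : k * A.flipH (A.a1 x) = A.flipH (A.a1 x) * k :=
  (Subgroup.mem_centralizer_iff.mp hk.2 _ ⟨x, rfl⟩).symm

theorem coord_unique {x y x' y' : V} (h : A.a1 x * A.flipH (A.a1 y) = A.a1 x' * A.flipH (A.a1 y')) :
    x = x' ∧ y = y' := by
  have hc : ∀ a c : V, A.a1 a * A.flipH (A.a1 c) = A.flipH (A.a1 c) * A.a1 a := fun a c => A.a_comm a c
  have h1 : A.a1 (x'⁻¹ * x) * A.flipH (A.a1 (y * y'⁻¹)) = 1 := by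
    rw [map_mul, map_mul A.a1 y, map_inv, map_inv A.a1 y', map_mul, map_inv A.flipH]
    calc (A.a1 x')⁻¹ * A.a1 x * (A.flipH (A.a1 y) * (A.flipH (A.a1 y'))⁻¹)
        = (A.a1 x')⁻¹ * (A.a1 x * A.flipH (A.a1 y)) * (A.flipH (A.a1 y'))⁻¹ := by group
      _ = 1 := by rw [h]; group
  obtain ⟨h2, h3⟩ := A.a_inj _ _ h1
  exact ⟨(inv_mul_eq_one.mp h2).symm, mul_inv_eq_one.mp h3⟩

variable [Finite M] (F : Frame V U S z)
include F

theorem V_comm (x y : V) : x * y = y * x := F.elemV.1.is_comm.comm x y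

theorem comm_in_W {k q : Q} (hk : k ∈ A.K1) (hq : A.flipH q ∈ A.K1) :
    ∃ x y : V, k * q * k⁻¹ * q⁻¹ = A.a1 x * A.flipH (A.a1 y) := by
  have hq1 : ∀ x : V, q * A.a1 x = A.a1 x * q := fun x => by
    have h := congrArg A.flipH (A.K1_fix hq x)
    rwa [map_mul, map_mul, A.flipH_flipH, A.flipH_flipH] at h
  have hq2 : ∀ x : V, ∃ y : V, q * A.flipH (A.a1 x) * q⁻¹ = A.flipH (A.a1 y) := fun x => by
    obtain ⟨y, hy⟩ := A.K1_act hq x
    refine ⟨y, ?_⟩
    have h := congrArg A.flipH hy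
    rwa [map_mul, map_mul, map_inv, A.flipH_flipH] at h
  refine A.cent_W _ (fun x => ?_) (fun x => ?_)
  · obtain ⟨y, hy⟩ := A.K1_act (A.K1.inv_mem hk) x
    have hy' : k⁻¹ * A.a1 x * k = A.a1 y := by rwa [inv_inv] at hy
    have h2 : q⁻¹ * A.a1 x = A.a1 x * q⁻¹ := (Commute.inv_left (show Commute q (A.a1 x) from hq1 x)).eq
    calc k * q * k⁻¹ * q⁻¹ * A.a1 x = k * q * k⁻¹ * (q⁻¹ * A.a1 x) := by group
      _ = k * q * (k⁻¹ * A.a1 x * k) * k⁻¹ * q⁻¹ := by rw [h2]; group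
      _ = k * (A.a1 y * q) * k⁻¹ * q⁻¹ := by rw [hy', mul_assoc k q, hq1]
      _ = _ := by rw [← hy']; group
  · show k * q * k⁻¹ * q⁻¹ * A.flipH (A.a1 x) = A.flipH (A.a1 x) * (k * q * k⁻¹ * q⁻¹)
    obtain ⟨y, hy⟩ : ∃ y : V, q⁻¹ * A.flipH (A.a1 x) * q = A.flipH (A.a1 y) := by
      have hq' : A.flipH q⁻¹ ∈ A.K1 := by rw [map_inv]; exact A.K1.inv_mem hq
      obtain ⟨y, hy⟩ := A.K1_act hq' x
      refine ⟨y, ?_⟩
      have h := congrArg A.flipH hy
      simp only [map_mul, map_inv, inv_inv, A.flipH_flipH] at h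
      exact h
    have hk1 : k⁻¹ * A.flipH (A.a1 y) = A.flipH (A.a1 y) * k⁻¹ :=
      (Commute.inv_left (show Commute k (A.flipH (A.a1 y)) from A.K1_fix hk y)).eq
    have hy2 : q * A.flipH (A.a1 y) * q⁻¹ = A.flipH (A.a1 x) := by rw [← hy]; group
    calc k * q * k⁻¹ * q⁻¹ * A.flipH (A.a1 x) = k * q * k⁻¹ * (q⁻¹ * A.flipH (A.a1 x) * q) * q⁻¹ := by group
      _ = k * q * (k⁻¹ * A.flipH (A.a1 y)) * q⁻¹ := by rw [hy]; group
      _ = k * (q * A.flipH (A.a1 y) * q⁻¹) * q * k⁻¹ * q⁻¹ := by rw [hk1]; group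
      _ = _ := by rw [hy2, A.K1_fix hk x]; group

/-- The derived subgroup of `K1`. -/
def M1 : Subgroup Q := ⁅A.K1, A.K1⁆

omit F in
theorem M1_le : A.M1 ≤ A.K1 := Subgroup.commutator_le.mpr fun _ ha _ hc =>
  A.K1.mul_mem (A.K1.mul_mem (A.K1.mul_mem ha hc) (A.K1.inv_mem ha)) (A.K1.inv_mem hc)

theorem M1_comm_K2 {k q : Q} (hk : k ∈ A.M1) (hq : A.flipH q ∈ A.K1) :
    ∃ x : V, k * q * k⁻¹ * q⁻¹ = A.a1 x := by
  have hW : ∀ k : A.K1, ∃ x y : V, (k : Q) * q * (k : Q)⁻¹ * q⁻¹ = A.a1 x * A.flipH (A.a1 y) :=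
    fun k => A.comm_in_W F k.2 hq
  choose fx fy hf using hW
  have hadd : ∀ k k' : A.K1, fy (k * k') = fy k * fy k' := by
    intro k k'
    obtain ⟨x', hx'⟩ := A.K1_act k.2 (fx k')
    have hx2 : (k : Q) * A.flipH (A.a1 (fy k')) * (k : Q)⁻¹ = A.flipH (A.a1 (fy k')) := by
      rw [A.K1_fix k.2, mul_inv_cancel_right]
    have h : A.a1 (fx (k * k')) * A.flipH (A.a1 (fy (k * k'))) =
        A.a1 (x' * fx k) * A.flipH (A.a1 (fy k' * fy k)) := by
      rw [← hf (k * k'), Subgroup.coe_mul, map_mul, map_mul A.a1 (fy k'), map_mul]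
      calc (k : Q) * k' * q * ((k : Q) * k')⁻¹ * q⁻¹
          = (k : Q) * ((k' : Q) * q * (k' : Q)⁻¹ * q⁻¹) * (k : Q)⁻¹ * ((k : Q) * q * (k : Q)⁻¹ * q⁻¹) := by group
        _ = ((k : Q) * A.a1 (fx k') * (k : Q)⁻¹) * ((k : Q) * A.flipH (A.a1 (fy k')) * (k : Q)⁻¹) *
              (A.a1 (fx k) * A.flipH (A.a1 (fy k))) := by rw [hf k', hf k]; group
        _ = A.a1 x' * (A.flipH (A.a1 (fy k')) * A.a1 (fx k)) * A.flipH (A.a1 (fy k)) := by
            rw [hx', hx2]; group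
        _ = _ := by
            rw [show A.flipH (A.a1 (fy k')) * A.a1 (fx k) = A.a1 (fx k) * A.flipH (A.a1 (fy k')) from
              (A.a_comm _ _).symm]
            group
    rw [(A.coord_unique h).2, V_comm F]
  let χ : A.K1 →* V := MonoidHom.mk' fy hadd
  let N : Subgroup Q := χ.ker.map A.K1.subtype
  have hle : A.M1 ≤ N := Subgroup.commutator_le.mpr fun a ha c hc => by
    refine ⟨⟨a, ha⟩ * ⟨c, hc⟩ * ⟨a, ha⟩⁻¹ * ⟨c, hc⟩⁻¹, MonoidHom.mem_ker.mpr ?_, by simp [commutatorElement_def]⟩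
    rw [map_mul, map_mul, map_mul, map_inv, map_inv, V_comm F (χ _) (χ _), mul_inv_cancel_right, mul_inv_cancel]
  obtain ⟨k0, hk0, rfl⟩ := hle hk
  refine ⟨fx k0, ?_⟩
  have h : fy k0 = 1 := hk0
  show (k0 : Q) * q * (k0 : Q)⁻¹ * q⁻¹ = _
  rw [hf k0, h, map_one, map_one, mul_one]

theorem M1_comm_M2 {k q : Q} (hk : k ∈ A.M1) (hq : A.flipH q ∈ A.M1) : k * q = q * k := by
  obtain ⟨x, hx⟩ := A.M1_comm_K2 F hk (A.M1_le hq)
  obtain ⟨y, hy⟩ := A.M1_comm_K2 F hq (q := A.flipH k) (by rw [A.flipH_flipH]; exact A.M1_le hk)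
  have hy2 : q * k * q⁻¹ * k⁻¹ = A.flipH (A.a1 y) := by
    have h := congrArg A.flipH hy
    simp only [map_mul, map_inv, A.flipH_flipH] at h
    exact h
  have h1 : A.a1 x * A.flipH (A.a1 y) = 1 := by rw [← hx, ← hy2]; group
  rw [(A.a_inj _ _ h1).1, map_one] at hx
  calc k * q = k * q * k⁻¹ * q⁻¹ * (q * k) := by group
    _ = _ := by rw [hx, one_mul]

theorem exists_act (n : Subgroup.normalizer (V : Set M)) :
    ∃ k ∈ A.M1, ∀ x y : V, (n : M) * x * (n : M)⁻¹ = y → k * A.a1 x * k⁻¹ = A.a1 y := by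
  have hnV : ∀ (n : Subgroup.normalizer (V : Set M)) (x : V), (n : M) * x * (n : M)⁻¹ ∈ V := fun n x =>
    (Subgroup.mem_normalizer_iff.mp n.2 x).mp x.2
  let Act : Subgroup Q → Subgroup (Subgroup.normalizer (V : Set M)) := fun K =>
    { carrier := {n | ∃ k ∈ K, ∀ x y : V, (n : M) * x * (n : M)⁻¹ = y → k * A.a1 x * k⁻¹ = A.a1 y}
      one_mem' := ⟨1, K.one_mem, fun x y h => by
        simp only [Subgroup.coe_one, one_mul, inv_one, mul_one] at h
        rw [show y = x from Subtype.ext h.symm, one_mul, inv_one, mul_one]⟩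
      mul_mem' := by
        rintro n m ⟨k, hk, hn⟩ ⟨l, hl, hm⟩
        refine ⟨k * l, K.mul_mem hk hl, fun x y h => ?_⟩
        have h1 := hm x ⟨_, hnV m x⟩ rfl
        have h2 := hn ⟨_, hnV m x⟩ y (by rw [← h, Subgroup.coe_mul]; group)
        rw [← h2, ← h1]; group
      inv_mem' := by
        rintro n ⟨k, hk, hn⟩
        refine ⟨k⁻¹, K.inv_mem hk, fun x y h => ?_⟩
        rw [← hn y x (by rw [← h, Subgroup.coe_inv]; group)]; group }
  have hall : ∀ n, n ∈ Act A.K1 := by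
    intro n
    let H : Subgroup M := (Act A.K1).map (Subgroup.normalizer (V : Set M)).subtype
    have hH := F.U_gen H (fun x hx => ⟨⟨x, Subgroup.le_normalizer hx⟩, ⟨1, A.K1.one_mem, fun a c h => by
        have : (c : M) = a := by
          rw [← h]
          show x * (a : M) * x⁻¹ = a
          rw [elem_comm F.elemV hx a.2, mul_inv_cancel_right]
        rw [Subtype.ext this, one_mul, inv_one, mul_one]⟩, rfl⟩)
      (fun a ha => ⟨⟨a, U_le_NV F ha⟩, ⟨A.u1 a, ?_, fun x y h => A.u_act a ha x y h⟩, rfl⟩)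
      (Subgroup.map_subtype_le _) ?_
    · have h : (n : M) ∈ H := by rw [hH]; exact n.2
      obtain ⟨m, hm, hmn⟩ := h
      rwa [← show m = n from Subtype.ext hmn]
    · refine ⟨Subgroup.mem_normalizer_iff.mpr fun q => ⟨?_, fun hq => ?_⟩, Subgroup.mem_centralizer_iff.mpr ?_⟩
      · rintro ⟨x, rfl⟩
        exact ⟨⟨_, hnV ⟨a, U_le_NV F ha⟩ x⟩, (A.u_act a ha x _ rfl).symm⟩
      · obtain ⟨y, hy⟩ := hq
        have hx : a⁻¹ * (y : M) * a ∈ V := by
          have := hnV ⟨a⁻¹, U_le_NV F (U.inv_mem ha)⟩ y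
          simpa using this
        refine ⟨⟨_, hx⟩, ?_⟩
        have h := A.u_act a ha ⟨_, hx⟩ y (by show a * (a⁻¹ * (y : M) * a) * a⁻¹ = y; group)
        rw [hy] at h
        exact mul_left_cancel (mul_right_cancel h)
      · rintro _ ⟨x, rfl⟩
        exact (A.u_triv a ha x).symm
    · rintro m hm h ⟨l, ⟨k, hk, hl⟩, rfl⟩
      refine ⟨⟨m, hm⟩ * l * ⟨m, hm⟩⁻¹, ⟨A.eq ⟨m, hm⟩ * k * (A.eq ⟨m, hm⟩)⁻¹, ?_, fun x y h => ?_⟩, rfl⟩
      · have hE : ∀ n, A.eq n ∈ Subgroup.normalizer (A.W1 : Set Q) := fun n => by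
          refine Subgroup.mem_normalizer_iff.mpr fun q => ⟨?_, ?_⟩
          · rintro ⟨x, rfl⟩
            exact ⟨⟨_, hnV n x⟩, (A.a_equiv n x _ rfl).symm⟩
          · rintro ⟨x, hx⟩
            refine ⟨⟨_, hnV n⁻¹ x⟩, ?_⟩
            rw [← A.a_equiv n⁻¹ x _ rfl, hx, map_inv]; group
        refine ⟨Subgroup.mul_mem _ (Subgroup.mul_mem _ (hE _) hk.1) (Subgroup.inv_mem _ (hE _)),
          Subgroup.mem_centralizer_iff.mpr ?_⟩
        rintro _ ⟨x, rfl⟩
        show A.flipH (A.a1 x) * _ = _ * A.flipH (A.a1 x)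
        set e := A.eq ⟨m, hm⟩
        obtain ⟨x', hx'⟩ : ∃ x' : V, e⁻¹ * A.flipH (A.a1 x) * e = A.flipH (A.a1 x') := by
          refine ⟨⟨_, hnV (⟨m, hm⟩ : Subgroup.normalizer (V : Set M))⁻¹ x⟩, ?_⟩
          rw [← A.a_equiv (⟨m, hm⟩ : Subgroup.normalizer (V : Set M))⁻¹ x ⟨_, hnV _ x⟩ rfl, map_mul, map_mul, map_inv A.flipH, A.flipH_eq, map_inv, inv_inv]
        calc A.flipH (A.a1 x) * (e * k * e⁻¹) = e * (e⁻¹ * A.flipH (A.a1 x) * e) * k * e⁻¹ := by group
          _ = e * (A.flipH (A.a1 x') * k) * e⁻¹ := by rw [hx']; group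
          _ = e * (k * A.flipH (A.a1 x')) * e⁻¹ := by rw [A.K1_fix hk x']
          _ = _ := by rw [← hx']; group
      · set mm : Subgroup.normalizer (V : Set M) := ⟨m, hm⟩
        have hx' := hnV mm⁻¹ x
        have h1 := A.a_equiv mm⁻¹ x ⟨_, hx'⟩ rfl
        have h2 := hl ⟨_, hx'⟩ ⟨_, hnV l ⟨_, hx'⟩⟩ rfl
        have h3 := A.a_equiv mm ⟨_, hnV l ⟨_, hx'⟩⟩ y (by rw [← h]; simp only [Subgroup.coe_mul, Subgroup.coe_inv]; group)
        rw [← h3, ← h2, ← h1, map_inv]; group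
  have hperf : (⊤ : Subgroup (Subgroup.normalizer (V : Set M))) ≤ Act A.M1 := by
    have hcomm : commutator (Subgroup.normalizer (V : Set M)) = ⊤ := by
      apply Subgroup.map_injective (Subgroup.normalizer (V : Set M)).subtype_injective
      rw [Subgroup.map_subtype_commutator, F.NV_perfect, ← MonoidHom.range_eq_map, Subgroup.range_subtype]
    rw [← hcomm, commutator_def, Subgroup.commutator_le]
    intro a _ c _
    obtain ⟨k, hk, hka⟩ := hall a
    obtain ⟨l, hl, hlc⟩ := hall c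
    refine ⟨⁅k, l⁆, Subgroup.commutator_mem_commutator hk hl, ?_⟩
    -- the action of a commutator
    let Stab : Subgroup (Subgroup.normalizer (V : Set M) × Q) :=
      { carrier := {p | ∀ x y : V, (p.1 : M) * x * (p.1 : M)⁻¹ = y → p.2 * A.a1 x * p.2⁻¹ = A.a1 y}
        one_mem' := fun x y h => by
          simp only [Prod.fst_one, Subgroup.coe_one, one_mul, inv_one, mul_one] at h
          rw [show y = x from Subtype.ext h.symm, Prod.snd_one, one_mul, inv_one, mul_one]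
        mul_mem' := by
          rintro p q hp hq x y h
          rw [← hp ⟨_, hnV q.1 x⟩ y (by rw [← h, Prod.fst_mul, Subgroup.coe_mul]; group), ← hq x ⟨_, hnV q.1 x⟩ rfl,
            Prod.snd_mul]
          group
        inv_mem' := by
          rintro p hp x y h
          rw [← hp y x (by rw [← h, Prod.fst_inv, Subgroup.coe_inv]; group), Prod.snd_inv]
          group }
    have h := Stab.mul_mem (Stab.mul_mem (Stab.mul_mem (show (a, k) ∈ Stab from hka) (show (c, l) ∈ Stab from hlc))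
      (Stab.inv_mem (show (a, k) ∈ Stab from hka))) (Stab.inv_mem (show (c, l) ∈ Stab from hlc))
    intro x y hxy
    exact h x y hxy
  exact hperf (Subgroup.mem_top n)

theorem exists_moved_z : ∃ n : Subgroup.normalizer (V : Set M), (n : M) * z * (n : M)⁻¹ ≠ z := by
  classical
  by_contra hcon
  push Not at hcon
  have hsub : (V : Set M) ⊆ {1, z} := fun x hx => by
    by_cases hx1 : x = 1
    · exact Or.inl hx1
    · obtain ⟨n, hn, rfl⟩ := F.V_trans x hx hx1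
      exact Or.inr (hcon ⟨n, hn⟩)
  have h2 := Nat.card_le_card_of_injective (fun x : V => decide ((x : M) = 1)) (fun x y h => by
    simp only [decide_eq_decide] at h
    rcases hsub x.2 with hx | hx
    · exact Subtype.ext (hx.trans (h.mp hx).symm)
    · rcases hsub y.2 with hy | hy
      · exact Subtype.ext ((h.mpr hy).trans hy.symm)
      · exact Subtype.ext (hx.trans hy.symm))
  rw [F.cardV] at h2
  simp at h2

theorem M1_inter_W {x y : V} (h : A.a1 x * A.flipH (A.a1 y) ∈ A.M1) : y = 1 := by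
  by_contra hy
  have hy1 : (y : M) ≠ 1 := fun h => hy (Subtype.ext h)
  obtain ⟨n0, hn0⟩ := exists_moved_z F
  obtain ⟨k, hk, hky⟩ := F.V_trans y y.2 hy1
  set n : Subgroup.normalizer (V : Set M) := ⟨k, hk⟩ * n0 * (⟨k, hk⟩)⁻¹ with hn
  have hmv : (n : M) * y * (n : M)⁻¹ ≠ y := fun h2 => hn0 (by
    rw [← hky, hn] at h2
    simp only [Subgroup.coe_mul, Subgroup.coe_inv] at h2
    have h3 := congrArg (fun w => k⁻¹ * w * k) h2
    simpa [mul_assoc] using h3)
  obtain ⟨l, hl, hla⟩ := A.exists_act F n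
  have hy' : (n : M) * y * (n : M)⁻¹ ∈ V := (Subgroup.mem_normalizer_iff.mp n.2 y).mp y.2
  have hc := A.M1_comm_M2 F h (q := A.flipH l) (by rwa [A.flipH_flipH])
  have h1 := congrArg A.flipH (hla y ⟨_, hy'⟩ rfl)
  rw [map_mul, map_mul, map_inv] at h1
  have hfx : A.flipH l * A.a1 x = A.a1 x * A.flipH l := by
    have := congrArg A.flipH (A.K1_fix (A.M1_le hl) x)
    rwa [map_mul, map_mul, A.flipH_flipH] at this
  have h2 : A.flipH l * (A.a1 x * A.flipH (A.a1 y)) * (A.flipH l)⁻¹ = A.a1 x * A.flipH (A.a1 ⟨_, hy'⟩) := by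
    rw [← mul_assoc, hfx, ← h1]; group
  rw [← hc, mul_inv_cancel_right] at h2
  exact hmv (congrArg Subtype.val (A.coord_unique h2).2).symm

theorem a1_mem_M1 (x : V) : A.a1 x ∈ A.M1 := by
  obtain ⟨n, hn⟩ := exists_moved_z F
  obtain ⟨k, hk, hka⟩ := A.exists_act F n
  let zV : V := ⟨z, F.z_mem.2⟩
  have hnz : (n : M) * z * (n : M)⁻¹ ∈ V := (Subgroup.mem_normalizer_iff.mp n.2 z).mp F.z_mem.2
  set y : V := ⟨_, hnz⟩ * zV⁻¹ with hy
  have hyM : A.a1 y ∈ A.M1 := by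
    have h := Subgroup.commutator_mem_commutator (A.M1_le hk) (A.a1_mem_K1 zV (V_comm F))
    rw [commutatorElement_def, hka zV ⟨_, hnz⟩ rfl, ← map_inv, ← map_mul, ← hy] at h
    exact h
  have hy1 : (y : M) ≠ 1 := fun h => hn (mul_inv_eq_one.mp h)
  by_cases hx : x = 1
  · rw [hx, map_one]; exact A.M1.one_mem
  obtain ⟨a, ha, hax⟩ := F.V_trans x x.2 (fun h => hx (Subtype.ext h))
  obtain ⟨c, hc, hcy⟩ := F.V_trans y y.2 hy1
  obtain ⟨l, hl, hla⟩ := A.exists_act F (⟨a, ha⟩ * (⟨c, hc⟩)⁻¹)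
  rw [← hla y x (by rw [← hax, ← hcy]; simp only [Subgroup.coe_mul, Subgroup.coe_inv]; group)]
  exact A.M1.mul_mem (A.M1.mul_mem hl hyM) (A.M1.inv_mem hl)

theorem inter_trivial {m : Q} (hm : m ∈ A.M1) (hm' : A.flipH m ∈ A.M1) : m = 1 := by
  obtain ⟨x, y, rfl⟩ : ∃ x y : V, m = A.a1 x * A.flipH (A.a1 y) := A.cent_W m (fun x => by
      have h := congrArg A.flipH (A.K1_fix (A.M1_le hm') x)
      rwa [map_mul, map_mul, A.flipH_flipH, A.flipH_flipH] at h)
    (fun x => A.K1_fix (A.M1_le hm) x)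
  have hy := A.M1_inter_W F hm
  rw [hy, map_one, map_one, mul_one] at hm' ⊢
  have hx := A.M1_inter_W F (x := 1) (y := x) (by rw [map_one, one_mul]; exact hm')
  rw [hx, map_one]

theorem flip_prod {k : Q} (hk : k ∈ A.M1) : A.flipH (k * A.flipH k) = k * A.flipH k := by
  rw [map_mul, A.flipH_flipH, A.M1_comm_M2 F hk (by rw [A.flipH_flipH]; exact hk)]

theorem theta_mul {k l : Q} (hk : k ∈ A.M1) (hl : l ∈ A.M1) :
    k * l * A.flipH (k * l) = k * A.flipH k * (l * A.flipH l) := by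
  have h := A.M1_comm_M2 F hl (q := A.flipH k) (by rw [A.flipH_flipH]; exact hk)
  rw [map_mul, mul_assoc k l, ← mul_assoc l, h]; group

theorem theta_act {k : Q} (hk : k ∈ A.M1) (x : V) :
    k * A.flipH k * A.a1 x * (k * A.flipH k)⁻¹ = k * A.a1 x * k⁻¹ := by
  have h : A.flipH k * A.a1 x = A.a1 x * A.flipH k := by
    have := congrArg A.flipH (A.K1_fix (A.M1_le hk) x)
    rwa [map_mul, map_mul, A.flipH_flipH] at this
  rw [mul_inv_rev, mul_assoc k (A.flipH k), h]; group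

theorem exists_j (n : Subgroup.normalizer (V : Set M)) : ∃ k ∈ A.M1, k * A.flipH k = A.eq n := by
  obtain ⟨k, hk, hka⟩ := A.exists_act F n
  have hc : k * A.flipH k * A.tq = A.tq * (k * A.flipH k) := by
    conv_rhs => rw [← A.flip_prod F hk, A.flipH_apply (k * A.flipH k), ← mul_assoc A.tq (A.tq * _), A.tt]
  have hact : ∀ x : V, ∀ y : V, (n : M) * x * (n : M)⁻¹ = y →
      k * A.flipH k * A.a1 x * (k * A.flipH k)⁻¹ = A.a1 y := fun x y h => (A.theta_act F hk x).trans (hka x y h)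
  obtain ⟨m, hm⟩ := A.cent_t _ hc
  have hm' : k * A.flipH k = A.eq m := by
    refine hm.resolve_right fun hm => F.z_ne_one ?_
    let zV : V := ⟨z, F.z_mem.2⟩
    have hnz : (n : M) * z * (n : M)⁻¹ ∈ V := (Subgroup.mem_normalizer_iff.mp n.2 z).mp F.z_mem.2
    have hmz : (m : M) * z * (m : M)⁻¹ ∈ V := (Subgroup.mem_normalizer_iff.mp m.2 z).mp F.z_mem.2
    have h := hact zV ⟨_, hnz⟩ rfl
    have h2 : A.eq m * A.tq * A.a1 zV * (A.eq m * A.tq)⁻¹ = A.flipH (A.a1 ⟨_, hmz⟩) := by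
      rw [← A.a_equiv m zV ⟨_, hmz⟩ rfl, map_mul, map_mul, map_inv, A.flipH_eq, A.flipH_apply, mul_inv_rev, A.tq_inv]
      group
    rw [hm, h2] at h
    have h3 := A.coord_unique (x := 1) (y := ⟨_, hmz⟩) (x' := ⟨_, hnz⟩) (y' := 1) (by
      simp only [map_one, one_mul, mul_one]; exact h)
    have h4 : (1 : M) = (n : M) * z * (n : M)⁻¹ := congrArg Subtype.val h3.1
    calc z = (n : M)⁻¹ * ((n : M) * z * (n : M)⁻¹) * n := by group
      _ = 1 := by rw [← h4]; group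
  have hv : (m : M)⁻¹ * n ∈ V := by
    refine (SetLike.ext_iff.mp F.centralizer_V _).mp (Subgroup.mem_centralizer_iff.mpr fun x hx => ?_)
    have hnx : (n : M) * x * (n : M)⁻¹ ∈ V := (Subgroup.mem_normalizer_iff.mp n.2 x).mp hx
    have hmx : (m : M) * x * (m : M)⁻¹ ∈ V := (Subgroup.mem_normalizer_iff.mp m.2 x).mp hx
    have h := hact ⟨x, hx⟩ ⟨_, hnx⟩ rfl
    rw [hm', A.a_equiv m ⟨x, hx⟩ ⟨_, hmx⟩ rfl] at h
    have h2 := A.coord_unique (x := ⟨_, hmx⟩) (y := 1) (x' := ⟨_, hnx⟩) (y' := 1) (by rw [h])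
    have h3 : (m : M) * x * (m : M)⁻¹ = (n : M) * x * (n : M)⁻¹ := congrArg Subtype.val h2.1
    calc x * ((m : M)⁻¹ * n) = (m : M)⁻¹ * ((m : M) * x * (m : M)⁻¹) * n := by group
      _ = _ := by rw [h3]; group
  refine ⟨k * A.a1 ⟨_, hv⟩, A.M1.mul_mem hk (A.a1_mem_M1 F _), ?_⟩
  rw [A.theta_mul F hk (A.a1_mem_M1 F _), hm', A.flipH_apply, A.a_diag, ← map_mul]
  exact congrArg A.eq (Subtype.ext (by simp))

theorem theta_inj {k l : Q} (hk : k ∈ A.M1) (hl : l ∈ A.M1) (h : k * A.flipH k = l * A.flipH l) : k = l := by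
  have hm : k⁻¹ * l ∈ A.M1 := A.M1.mul_mem (A.M1.inv_mem hk) hl
  have h2 : k⁻¹ * l = A.flipH (k * l⁻¹) := by
    have hc : A.flipH k * l⁻¹ = l⁻¹ * A.flipH k :=
      (A.M1_comm_M2 F (A.M1.inv_mem hl) (q := A.flipH k) (by rw [A.flipH_flipH]; exact hk)).symm
    rw [map_mul, map_inv]
    calc k⁻¹ * l = k⁻¹ * (l * A.flipH l) * (A.flipH l)⁻¹ := by group
      _ = A.flipH k * (A.flipH l)⁻¹ := by rw [← h]; group
  have := A.inter_trivial F hm (by rw [h2, A.flipH_flipH]; exact A.M1.mul_mem hk (A.M1.inv_mem hl))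
  exact inv_mul_eq_one.mp this

theorem conj_M1 (n : Subgroup.normalizer (V : Set M)) {k : Q} (hk : k ∈ A.M1) :
    A.eq n * k * (A.eq n)⁻¹ ∈ A.M1 := by
  obtain ⟨j, hj, hje⟩ := A.exists_j F n
  rw [← hje]
  have hc : A.flipH j * k = k * A.flipH j :=
    (A.M1_comm_M2 F hk (q := A.flipH j) (by rw [A.flipH_flipH]; exact hj)).symm
  rw [show j * A.flipH j * k * (j * A.flipH j)⁻¹ = j * k * j⁻¹ by rw [mul_inv_rev, mul_assoc j, hc]; group]
  exact A.M1.mul_mem (A.M1.mul_mem hj hk) (A.M1.inv_mem hj)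

theorem exists_split :
    ∃ j : Subgroup.normalizer (V : Set M) →* Q,
      (∀ n m, j n * A.flipH (j m) = A.flipH (j m) * j n) ∧ (∀ n, j n * A.flipH (j n) = A.eq n) ∧
      (∀ n m, j n * A.flipH (j m) = 1 → n = 1 ∧ m = 1) ∧
      (∀ a (ha : a ∈ U), j ⟨a, U_le_NV F ha⟩ = A.u1 a) ∧
      (∀ x : V, j ⟨x, Subgroup.le_normalizer x.2⟩ = A.a1 x) := by
  choose f hfM hf using A.exists_j F
  let j : Subgroup.normalizer (V : Set M) →* Q := MonoidHom.mk' f fun n m =>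
    A.theta_inj F (hfM _) (A.M1.mul_mem (hfM n) (hfM m))
      (by rw [A.theta_mul F (hfM n) (hfM m), hf, hf, hf, map_mul])
  have hjM : ∀ n, j n ∈ A.M1 := hfM
  have hjn : ∀ n, j n * A.flipH (j n) = A.eq n := hf
  have hinj : ∀ n m, j n * A.flipH (j m) = 1 → n = 1 ∧ m = 1 := by
    intro n m h
    have h2 : j n = A.flipH (j m)⁻¹ := by rw [map_inv]; exact eq_inv_of_mul_eq_one_left h
    have h3 := A.inter_trivial F (hjM n) (by rw [h2, A.flipH_flipH]; exact A.M1.inv_mem (hjM m))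
    rw [h3, one_mul] at h
    have h4 : j m = 1 := by rw [← A.flipH_flipH (j m), h, map_one]
    refine ⟨A.eq_inj ?_, A.eq_inj ?_⟩
    · rw [← hjn, h3, map_one, map_one, one_mul]
    · rw [← hjn, h4, map_one, map_one, one_mul]
  refine ⟨j, fun n m => A.M1_comm_M2 F (hjM n) (by rw [A.flipH_flipH]; exact hjM m), hjn, hinj, ?_,
    fun x => A.theta_inj F (hjM _) (A.a1_mem_M1 F x) (by rw [hjn, A.flipH_apply, A.a_diag])⟩
  -- the first coordinate of `U`
  have hUc : ∀ {a c : M}, a ∈ U → c ∈ U → ∀ (h : a ∈ Subgroup.normalizer (V : Set M))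
      (h' : c ∈ Subgroup.normalizer (V : Set M)), (⟨a, h⟩ : Subgroup.normalizer (V : Set M)) * ⟨c, h'⟩ =
        ⟨c, h'⟩ * ⟨a, h⟩ := fun ha hc _ _ => Subtype.ext (elem_comm F.elemU ha hc)
  have hmain : ∀ (a : M) (ha : a ∈ U), ∃ (l : M) (hl : l ∈ U ⊓ V),
      A.u1 a = j ⟨a, U_le_NV F ha⟩ * A.eq ⟨l, Subgroup.le_normalizer hl.2⟩ := by
    intro a ha
    set an : Subgroup.normalizer (V : Set M) := ⟨a, U_le_NV F ha⟩
    have hconj : ∀ x : V, ∃ y : V, a * x * a⁻¹ = y ∧ j an * A.a1 x * (j an)⁻¹ = A.a1 y ∧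
        A.u1 a * A.a1 x * (A.u1 a)⁻¹ = A.a1 y := fun x => by
      have hy : a * (x : M) * a⁻¹ ∈ V := (Subgroup.mem_normalizer_iff.mp an.2 x).mp x.2
      refine ⟨⟨_, hy⟩, rfl, ?_, A.u_act a ha x _ rfl⟩
      rw [← A.theta_act F (hjM an) x, hjn, A.a_equiv an x ⟨_, hy⟩ rfl]
    have hfixj : ∀ x : V, j an * A.flipH (A.a1 x) = A.flipH (A.a1 x) * j an := A.K1_fix (A.M1_le (hjM an))
    obtain ⟨x, y, hxy⟩ : ∃ x y : V, (j an)⁻¹ * A.u1 a = A.a1 x * A.flipH (A.a1 y) := by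
      refine A.cent_W _ (fun x => ?_) (fun x => ?_)
      · obtain ⟨y, -, h1, h2⟩ := hconj x
        calc (j an)⁻¹ * A.u1 a * A.a1 x = (j an)⁻¹ * (A.u1 a * A.a1 x * (A.u1 a)⁻¹) * A.u1 a := by group
          _ = _ := by rw [h2, ← h1]; group
      · show (j an)⁻¹ * A.u1 a * A.flipH (A.a1 x) = A.flipH (A.a1 x) * ((j an)⁻¹ * A.u1 a)
        rw [mul_assoc, show A.u1 a * A.flipH (A.a1 x) = A.flipH (A.a1 x) * A.u1 a from A.u_triv a ha x, ← mul_assoc,
          show (j an)⁻¹ * A.flipH (A.a1 x) = A.flipH (A.a1 x) * (j an)⁻¹ from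
            (Commute.inv_left (show Commute (j an) (A.flipH (A.a1 x)) from hfixj x)).eq, mul_assoc]
    have hcU : ∀ c (hc : c ∈ U), c * x = x * c ∧ c * (y : M) = y * c := by
      intro c hc
      set cn : Subgroup.normalizer (V : Set M) := ⟨c, U_le_NV F hc⟩
      have h1 : Commute (A.eq cn) ((j an)⁻¹ * A.u1 a) := by
        refine Commute.mul_right (Commute.inv_right ?_) ?_
        · rw [← hjn cn]
          refine Commute.mul_left ?_ ?_
          · show j cn * j an = j an * j cn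
            rw [← map_mul, hUc hc ha, map_mul]
          · exact (A.M1_comm_M2 F (hjM an) (q := A.flipH (j cn)) (by rw [A.flipH_flipH]; exact hjM cn)).symm
        · rw [← A.u_diag c hc (U_le_NV F hc)]
          refine Commute.mul_left ?_ (A.u_comm a ha c hc).symm
          show A.u1 c * A.u1 a = A.u1 a * A.u1 c
          rw [← A.u_add c hc a ha, elem_comm F.elemU hc ha, A.u_add a ha c hc]
      have hxn : c * (x : M) * c⁻¹ ∈ V := (Subgroup.mem_normalizer_iff.mp cn.2 x).mp x.2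
      have hyn : c * (y : M) * c⁻¹ ∈ V := (Subgroup.mem_normalizer_iff.mp cn.2 y).mp y.2
      have h2 : A.eq cn * (A.a1 x * A.flipH (A.a1 y)) * (A.eq cn)⁻¹ =
          A.a1 ⟨_, hxn⟩ * A.flipH (A.a1 ⟨_, hyn⟩) := by
        rw [← A.a_equiv cn x ⟨_, hxn⟩ rfl, ← A.a_equiv cn y ⟨_, hyn⟩ rfl, map_mul, map_mul, map_inv, A.flipH_eq]
        group
      rw [← hxy, h1.eq, mul_inv_cancel_right, hxy] at h2
      have h3 := A.coord_unique h2
      have hx3 : (x : M) = c * x * c⁻¹ := congrArg Subtype.val h3.1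
      have hy3 : (y : M) = c * y * c⁻¹ := congrArg Subtype.val h3.2
      constructor
      · calc c * (x : M) = c * x * c⁻¹ * c := by group
          _ = _ := by rw [← hx3]
      · calc c * (y : M) = c * y * c⁻¹ * c := by group
          _ = _ := by rw [← hy3]
    have hxU : (x : M) ∈ U :=
      (SetLike.ext_iff.mp F.centralizer_U _).mp (Subgroup.mem_centralizer_iff.mpr fun c hc => (hcU c hc).1)
    have hyU : (y : M) ∈ U :=
      (SetLike.ext_iff.mp F.centralizer_U _).mp (Subgroup.mem_centralizer_iff.mpr fun c hc => (hcU c hc).2)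
    set m := A.a1 x * A.flipH (A.a1 y) with hm
    have hu : A.u1 a = j an * m := by rw [← hxy, mul_inv_cancel_left]
    have hflip : Commute (A.flipH (j an)) m := by
      refine Commute.mul_right ?_ ?_
      · have h := congrArg A.flipH (hfixj x)
        rwa [map_mul, map_mul, A.flipH_flipH] at h
      · obtain ⟨w, hw, h, -⟩ := hconj y
        have hwy : w = y := Subtype.ext (by rw [← hw, elem_comm F.elemU ha hyU, mul_inv_cancel_right])
        rw [hwy] at h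
        exact (show Commute (j an) (A.a1 y) from mul_inv_eq_iff_eq_mul.mp h).map A.flipH
    have hone : A.a1 (x * y) * A.flipH (A.a1 (y * x)) = 1 := by
      have h1 : A.u1 a * A.flipH (A.u1 a) = A.eq an := A.u_diag a ha _
      rw [hu, map_mul, ← hjn an] at h1
      have h2 : m * A.flipH m = 1 := by
        have h3 : j an * A.flipH (j an) * (m * A.flipH m) = j an * A.flipH (j an) := by
          calc j an * A.flipH (j an) * (m * A.flipH m) = j an * (A.flipH (j an) * m) * A.flipH m := by group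
            _ = _ := by rw [hflip.eq, ← h1]; group
        exact mul_eq_left.mp h3
      rw [hm, map_mul, A.flipH_flipH] at h2
      rw [← h2, map_mul A.a1, map_mul A.a1, map_mul]
      have hc1 : A.flipH (A.a1 y) * A.flipH (A.a1 x) * A.a1 y = A.a1 y * (A.flipH (A.a1 y) * A.flipH (A.a1 x)) :=
        ((show Commute (A.a1 y) (A.flipH (A.a1 y)) from A.a_comm y y).mul_right
          (show Commute (A.a1 y) (A.flipH (A.a1 x)) from A.a_comm y x)).eq.symm
      calc A.a1 x * A.a1 y * (A.flipH (A.a1 y) * A.flipH (A.a1 x))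
          = A.a1 x * (A.a1 y * (A.flipH (A.a1 y) * A.flipH (A.a1 x))) := by group
        _ = _ := by rw [← hc1]; group
    have hyx : y = x := by
      have h := (A.a_inj _ _ hone).1
      refine Subtype.ext ?_
      have h2 : (x : M) * y = 1 := congrArg Subtype.val h
      rw [← inv_eq_of_mul_eq_one_right h2]
      exact inv_eq_of_mul_eq_one_right (by rw [← pow_two]; exact F.elemV.2 x x.2)
    refine ⟨x, ⟨hxU, x.2⟩, ?_⟩
    rw [hu, hm, hyx, A.flipH_apply, A.a_diag]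
  choose f' hfL hf' using hmain
  classical
  let φ : M → M := fun a => if h : a ∈ U then f' a h else 1
  have hφ : ∀ a (ha : a ∈ U), φ a = f' a ha := fun a ha => dif_pos ha
  have heqmem : ∀ a (ha : a ∈ U), A.eq ⟨f' a ha, Subgroup.le_normalizer (hfL a ha).2⟩ =
      (j ⟨a, U_le_NV F ha⟩)⁻¹ * A.u1 a := fun a ha => by rw [hf' a ha, inv_mul_cancel_left]
  have hnorm : ∀ {l : M}, l ∈ V → l ∈ Subgroup.normalizer (V : Set M) := fun h => Subgroup.le_normalizer h
  have hcommL : ∀ (c : M) (hc : c ∈ U) (l : M) (hl : l ∈ U ⊓ V),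
      A.eq ⟨l, hnorm hl.2⟩ * j ⟨c, U_le_NV F hc⟩ = j ⟨c, U_le_NV F hc⟩ * A.eq ⟨l, hnorm hl.2⟩ := fun c hc l hl => by
    rw [← hjn]
    refine (Commute.mul_left ?_ ?_).eq
    · show j _ * j _ = j _ * j _
      rw [← map_mul, hUc hl.1 hc, map_mul]
    · exact (A.M1_comm_M2 F (hjM _) (q := A.flipH (j ⟨l, hnorm hl.2⟩)) (by rw [A.flipH_flipH]; exact hjM _)).symm
  have hzero := F.hom_UL φ (fun a ha => by rw [hφ a ha]; exact hfL a ha)
    (fun a ha c hc => by
      rw [hφ _ (U.mul_mem ha hc), hφ a ha, hφ c hc]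
      have h : (⟨f' _ (U.mul_mem ha hc), hnorm (hfL _ _).2⟩ : Subgroup.normalizer (V : Set M)) =
          ⟨f' a ha, hnorm (hfL a ha).2⟩ * ⟨f' c hc, hnorm (hfL c hc).2⟩ := A.eq_inj (by
        rw [heqmem, map_mul, A.u_add a ha c hc, hf' a ha, hf' c hc,
          show (⟨a * c, U_le_NV F (U.mul_mem ha hc)⟩ : Subgroup.normalizer (V : Set M)) =
            ⟨a, U_le_NV F ha⟩ * ⟨c, U_le_NV F hc⟩ from rfl, map_mul, mul_inv_rev]
        calc (j ⟨c, U_le_NV F hc⟩)⁻¹ * (j ⟨a, U_le_NV F ha⟩)⁻¹ *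
              (j ⟨a, U_le_NV F ha⟩ * A.eq ⟨f' a ha, hnorm (hfL a ha).2⟩ *
                (j ⟨c, U_le_NV F hc⟩ * A.eq ⟨f' c hc, hnorm (hfL c hc).2⟩))
            = (j ⟨c, U_le_NV F hc⟩)⁻¹ * (A.eq ⟨f' a ha, hnorm (hfL a ha).2⟩ * j ⟨c, U_le_NV F hc⟩) *
                A.eq ⟨f' c hc, hnorm (hfL c hc).2⟩ := by group
          _ = _ := by rw [hcommL c hc _ (hfL a ha)]; group)
      exact congrArg Subtype.val h)
    (fun a ha => by
      rw [hφ a ha.1]
      have h1 : A.u1 a = j ⟨a, U_le_NV F ha.1⟩ := by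
        rw [A.u_L a ha.1 ha.2]
        refine (A.theta_inj F (hjM _) (A.a1_mem_M1 F _) ?_).symm
        rw [hjn, A.flipH_apply, A.a_diag]
      have h2 := heqmem a ha.1
      rw [h1, inv_mul_cancel, ← map_one A.eq] at h2
      exact congrArg Subtype.val (A.eq_inj h2))
    (fun g hg a ha => by
      have hga : g * a * g⁻¹ ∈ U := (Subgroup.mem_normalizer_iff.mp hg.1 a).mp ha
      rw [hφ _ hga, hφ a ha]
      have hgl : g * f' a ha * g⁻¹ ∈ V := (Subgroup.mem_normalizer_iff.mp hg.2 _).mp (hfL a ha).2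
      have hconjeq : ∀ (w : M) (hw : w ∈ Subgroup.normalizer (V : Set M))
          (hw' : g * w * g⁻¹ ∈ Subgroup.normalizer (V : Set M)),
          A.eq ⟨g * w * g⁻¹, hw'⟩ = A.eq ⟨g, hg.2⟩ * A.eq ⟨w, hw⟩ * (A.eq ⟨g, hg.2⟩)⁻¹ := fun w hw hw' => by
        rw [← map_inv, ← map_mul, ← map_mul]
        rfl
      have h : (⟨f' _ hga, hnorm (hfL _ _).2⟩ : Subgroup.normalizer (V : Set M)) = ⟨g * f' a ha * g⁻¹, hnorm hgl⟩ :=
        A.eq_inj (by
          rw [heqmem, hconjeq _ (hnorm (hfL a ha).2), heqmem]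
          have hju : j ⟨g * a * g⁻¹, U_le_NV F hga⟩ = A.eq ⟨g, hg.2⟩ * j ⟨a, U_le_NV F ha⟩ * (A.eq ⟨g, hg.2⟩)⁻¹ := by
            refine A.theta_inj F (hjM _) (A.conj_M1 F _ (hjM _)) ?_
            rw [hjn, map_mul, map_mul, map_inv, A.flipH_eq, hconjeq a (U_le_NV F ha), ← hjn ⟨a, U_le_NV F ha⟩]
            group
          rw [hju, ← A.u_equiv ⟨g, hg.2⟩ hg.1 a ha]
          group)
      exact congrArg Subtype.val h)
  intro a ha
  have h := hzero a ha
  rw [hφ a ha] at h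
  rw [hf' a ha]
  have h2 : (⟨f' a ha, Subgroup.le_normalizer (hfL a ha).2⟩ : Subgroup.normalizer (V : Set M)) = 1 := Subtype.ext h
  rw [h2, map_one, mul_one]

end Halves

end Cfsg.Lib.StdWreath
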