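import Cfsg.Agent.StdWreath.Twisted
import Cfsg.Agent.StdWreath.Halves
import Cfsg.Agent.StdWreath.Odd

/-!
The normaliser of the doubled module modulo the odd part of its centraliser satisfies the conditions for splitting.
-/

set_option autoImplicit false
set_option linter.unusedSectionVars false

namespace Cfsg.Lib.StdWreath

universe u v

theorem mem_normalizer_of_conj_le {H : Type*} [Group H] [Finite H] {W : Subgroup H} {g : H}
    (h : ∀ w ∈ W, g * w * g⁻¹ ∈ W) : g ∈ Subgroup.normalizer (W : Set H) := by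
  refine Subgroup.mem_normalizer_iff.mpr fun w => ⟨h w, fun hw => ?_⟩
  obtain ⟨v, hv⟩ := Finite.surjective_of_injective (f := fun v : W => (⟨g * v * g⁻¹, h v v.2⟩ : W))
    (fun a c hac => Subtype.ext (mul_left_cancel (mul_right_cancel (congrArg Subtype.val hac)))) ⟨_, hw⟩
  have : (v : H) = w := mul_left_cancel (mul_right_cancel (congrArg Subtype.val hv))
  exact this ▸ v.2

variable {G : Type u} {M : Type v} [Group G] [Group M] [Finite G] [Finite M] {C : Cfg G M} {V U S : Subgroup M}
  {z : M}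

namespace Dbl

variable (B : Dbl C V) (F : Frame V U S z)

theorem W_sq (hV : Cfsg.IsElementaryAbelian 2 V) {w : G} (hw : w ∈ B.W hV) : w * w = 1 := by
  obtain ⟨a, ha, c, hc, rfl⟩ := hw
  calc B.s a * C.e c * (B.s a * C.e c) = B.s a * (C.e c * B.s a) * C.e c := by group
    _ = B.s a * B.s a * (C.e c * C.e c) := by rw [← B.X_comm a ha c hc]; group
    _ = 1 := by rw [B.sq a ha, sq_e hV hc, mul_one]

theorem W_comm (hV : Cfsg.IsElementaryAbelian 2 V) {v w : G} (hv : v ∈ B.W hV) (hw : w ∈ B.W hV) : v * w = w * v := by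
  have h := B.W_sq hV ((B.W hV).mul_mem hv hw)
  calc v * w = v * (v * w * (v * w)) * w := by rw [h, mul_one]
    _ = v * v * (w * v) * (w * w) := by group
    _ = _ := by rw [B.W_sq hV hv, B.W_sq hV hw, one_mul, mul_one]

/-- The odd part of the centraliser of the doubled module. -/
theorem exists_oddPart (hV : TCtx C V) :
    ∃ O : Subgroup G, Odd (Nat.card O) ∧
      (∀ g, g ∈ O ↔ g ∈ Subgroup.centralizer (B.W hV.elem : Set G) ∧ Odd (orderOf g)) ∧
      ∀ g ∈ Subgroup.centralizer (B.W hV.elem : Set G), ∃ w ∈ B.W hV.elem, ∃ o ∈ O, g = w * o := by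
  set W := B.W hV.elem
  set Z := Subgroup.centralizer (W : Set G)
  have hWZ : W ≤ Z := fun w hw => Subgroup.mem_centralizer_iff.mpr fun v hv => B.W_comm hV.elem hv hw
  haveI : (W.subgroupOf Z).Normal := ⟨fun w hw g => by
    rw [Subgroup.mem_subgroupOf] at hw ⊢
    have : (g : G) * w * (g : G)⁻¹ = w := by
      rw [← Subgroup.mem_centralizer_iff.mp g.2 w hw, mul_inv_cancel_right]
    show (g : G) * w * (g : G)⁻¹ ∈ W
    rwa [this]⟩
  haveI : Fact (Nat.Prime 2) := ⟨Nat.prime_two⟩
  have hW2 : IsPGroup 2 (W.subgroupOf Z) := fun x => ⟨1, Subtype.ext (Subtype.ext (by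
    simp only [pow_one, pow_two, Subgroup.coe_mul, Subgroup.coe_one]
    exact B.W_sq hV.elem x.2))⟩
  have hidx : ¬ 2 ∣ (W.subgroupOf Z).index := by
    obtain ⟨P, hP⟩ := hW2.exists_le_sylow
    have hPW : (P : Subgroup Z) = W.subgroupOf Z := by
      refine le_antisymm (fun p hp => ?_) hP
      obtain ⟨k, hk⟩ := P.isPGroup' ⟨p, hp⟩
      have hk' : (p : G) ^ 2 ^ k = 1 := by
        have := congrArg (fun q : (P : Subgroup Z) => ((q : Z) : G)) hk
        simpa using this
      exact B.mem_W_of_centralizes hV hk' (fun w hw => (Subgroup.mem_centralizer_iff.mp p.2 w hw).symm)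
    rw [← hPW]; exact P.not_dvd_index
  have hcop : Nat.Coprime (Nat.card (W.subgroupOf Z)) (W.subgroupOf Z).index := by
    obtain ⟨k, hk⟩ := IsPGroup.iff_card.mp hW2
    rw [hk]
    exact Nat.Coprime.pow_left _ ((Nat.Prime.coprime_iff_not_dvd Nat.prime_two).mpr hidx)
  obtain ⟨O0, hO0⟩ := Subgroup.exists_right_complement'_of_coprime hcop
  have hO0odd : Odd (Nat.card O0) := by
    rw [← hO0.symm.index_eq_card, Nat.odd_iff]
    omega
  refine ⟨O0.map Z.subtype, by rwa [Subgroup.card_map_of_injective Z.subtype_injective], fun g => ?_, fun g hg => ?_⟩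
  · constructor
    · rintro ⟨o, ho, rfl⟩
      refine ⟨o.2, ?_⟩
      refine Odd.of_dvd_nat hO0odd ?_
      show orderOf (o : G) ∣ _
      rw [Subgroup.orderOf_coe, ← Subgroup.orderOf_mk o ho]
      exact orderOf_dvd_natCard _
    · rintro ⟨hg, hgodd⟩
      obtain ⟨⟨⟨w, hw⟩, ⟨o, ho⟩⟩, he, -⟩ := Subgroup.isComplement_iff_existsUnique.mp hO0 ⟨g, hg⟩
      have he' : (w : G) * o = g := congrArg Subtype.val he
      have hcomm : Commute (w : G) (o : G) := Subgroup.mem_centralizer_iff.mp o.2 w hw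
      obtain ⟨k, hk⟩ := hgodd
      have hpow : (w : G) ^ (2 * k + 1) * (o : G) ^ (2 * k + 1) = 1 := by
        rw [← hcomm.mul_pow, he', ← hk, pow_orderOf_eq_one]
      have hw1 : (w : G) ^ (2 * k + 1) = w := by
        have hwsq : (w : G) * w = 1 := B.W_sq hV.elem hw
        rw [pow_succ, pow_mul, pow_two, hwsq, one_pow, one_mul]
      rw [hw1] at hpow
      have hwO : w ∈ O0 := by
        have : w = (o ^ (2 * k + 1))⁻¹ := Subtype.ext (by simpa using eq_inv_of_mul_eq_one_left hpow)
        rw [this]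
        exact O0.inv_mem (pow_mem ho _)
      have hw2 : w = 1 := by
        have hd := hO0.disjoint
        rw [Subgroup.disjoint_def] at hd
        exact hd hw hwO
      refine ⟨o, ho, ?_⟩
      rw [← he', hw2, Subgroup.coe_one, one_mul]
      rfl
  · obtain ⟨⟨⟨w, hw⟩, ⟨o, ho⟩⟩, he, -⟩ := Subgroup.isComplement_iff_existsUnique.mp hO0 ⟨g, hg⟩
    exact ⟨w, hw, o, ⟨o, ho, rfl⟩, (congrArg Subtype.val he).symm⟩

end Dbl

namespace Link

variable (K : Link C V U) (F : Frame V U S z)
include F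

/-- The doubled module over `V`. -/
abbrev WV : Subgroup G := K.BV.W F.elemV

/-- Its normaliser. -/
abbrev NW : Subgroup G := Subgroup.normalizer ((K.WV F : Subgroup G) : Set G)

theorem mem_NW {g : G} (hs : ∀ a ∈ V, g * K.BV.s a * g⁻¹ ∈ K.WV F) (he : ∀ a ∈ V, g * C.e a * g⁻¹ ∈ K.WV F) :
    g ∈ K.NW F := by
  refine mem_normalizer_of_conj_le ?_
  rintro _ ⟨a, ha, c, hc, rfl⟩
  rw [show g * (K.BV.s a * C.e c) * g⁻¹ = g * K.BV.s a * g⁻¹ * (g * C.e c * g⁻¹) by group]
  exact (K.WV F).mul_mem (hs a ha) (he c hc)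

theorem t_mem_NW : C.t ∈ K.NW F := by
  refine K.mem_NW F (fun a ha => ?_) (fun a ha => ?_)
  · rw [C.t_inv, K.BV.flip ha]; exact ⟨a, ha, a, ha, rfl⟩
  · rw [C.t_conj]; exact K.BV.e_mem_W F.elemV ha

theorem e_mem_NW (n : Subgroup.normalizer (V : Set M)) : C.e (n : M) ∈ K.NW F := by
  have hn : ∀ a ∈ V, (n : M) * a * (n : M)⁻¹ ∈ V := fun a ha => (Subgroup.mem_normalizer_iff.mp n.2 a).mp ha
  refine K.mem_NW F (fun a ha => ?_) (fun a ha => ?_)
  · rw [K.BV.equiv n n.2 a ha]; exact K.BV.s_mem_W F.elemV (hn a ha)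
  · rw [C.e_conj]; exact K.BV.e_mem_W F.elemV (hn a ha)

theorem sV_mem_NW {x : M} (hx : x ∈ V) : K.BV.s x ∈ K.NW F := Subgroup.le_normalizer (K.BV.s_mem_W F.elemV hx)

theorem sU_conj_sV (hp : K.IsProd) {u x : M} (hu : u ∈ U) (hx : x ∈ V) :
    K.BU.s u * K.BV.s x * (K.BU.s u)⁻¹ = K.BV.s (u * x * u⁻¹) := by
  have hn := comm_mem F hx hu
  have h := hp x hx u hu
  rw [br] at h
  rw [U_conj_V F hx hu, K.BV.add x hx _ hn.2, ← h, K.BU.s_inv hu]
  calc K.BU.s u * K.BV.s x * K.BU.s u = 1 * (K.BU.s u * K.BV.s x * K.BU.s u) := (one_mul _).symm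
    _ = _ := by rw [← K.BV.sq x hx]; group

theorem sU_mem_NW (hp : K.IsProd) {u : M} (hu : u ∈ U) : K.BU.s u ∈ K.NW F := by
  refine K.mem_NW F (fun a ha => ?_) (fun a ha => ?_)
  · rw [K.sU_conj_sV F hp hu ha]
    exact K.BV.s_mem_W F.elemV ((Subgroup.mem_normalizer_iff.mp (U_le_NV F hu) a).mp ha)
  · rw [K.BU.s_inv hu, K.sU_e_sU F ha hu]
    exact (K.WV F).mul_mem (K.BV.e_mem_W F.elemV ha) (K.BV.s_mem_W F.elemV (comm_mem F ha hu).2)

variable (E : LocExact C V U)
include E

theorem exists_halves (hp : K.IsProd) (hV : TCtx C V) :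
    ∃ (O : Subgroup G) (hOle : O ≤ K.NW F) (hn : (O.subgroupOf (K.NW F)).Normal),
      Odd (Nat.card O) ∧
      ∃ A : Halves (K.NW F ⧸ O.subgroupOf (K.NW F)) V U,
        A.tq = QuotientGroup.mk ⟨C.t, K.t_mem_NW F⟩ ∧
        (∀ n, A.eq n = QuotientGroup.mk ⟨C.e (n : M), K.e_mem_NW F n⟩) ∧
        (∀ u (hu : u ∈ U), A.u1 u = QuotientGroup.mk ⟨K.BU.s u, K.sU_mem_NW F hp hu⟩) ∧
        (∀ x : V, A.a1 x = QuotientGroup.mk ⟨K.BV.s x, K.sV_mem_NW F x.2⟩) ∧
        ∀ o ∈ O, ∀ w ∈ K.WV F, o * w = w * o := by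
  classical
  obtain ⟨O, hOodd, hOmem, hZ⟩ := K.BV.exists_oddPart hV
  have hOle : O ≤ K.NW F := fun g hg => Subgroup.centralizer_le_normalizer _ ((hOmem g).mp hg).1
  have hOn : (O.subgroupOf (K.NW F)).Normal := ⟨fun o ho h => by
    rw [Subgroup.mem_subgroupOf] at ho ⊢
    obtain ⟨hoc, hoo⟩ := (hOmem _).mp ho
    refine (hOmem _).mpr ⟨Subgroup.mem_centralizer_iff.mpr fun w hw => ?_, ?_⟩
    · have hw' : (h : G)⁻¹ * w * h ∈ K.WV F := (Subgroup.mem_normalizer_iff''.mp h.2 w).mp hw
      have h1 := Subgroup.mem_centralizer_iff.mp hoc _ hw'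
      show w * ((h : G) * o * (h : G)⁻¹) = (h : G) * o * (h : G)⁻¹ * w
      calc w * ((h : G) * o * (h : G)⁻¹) = (h : G) * ((h : G)⁻¹ * w * h * o) * (h : G)⁻¹ := by group
        _ = _ := by rw [h1]; group
    · show Odd (orderOf ((h : G) * o * (h : G)⁻¹))
      rwa [show (h : G) * o * (h : G)⁻¹ = MulAut.conj (h : G) o from rfl, MulEquiv.orderOf_eq]⟩
  refine ⟨O, hOle, hOn, hOodd, ?_⟩
  haveI := hOn
  let π : K.NW F →* K.NW F ⧸ O.subgroupOf (K.NW F) := QuotientGroup.mk' _
  have hker : ∀ g : K.NW F, π g = 1 ↔ (g : G) ∈ O := fun g => by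
    rw [← MonoidHom.mem_ker, QuotientGroup.ker_mk', Subgroup.mem_subgroupOf]
  have hOW : ∀ g ∈ O, g * g = 1 → g = 1 := fun g hg h => eq_one_of_sq hOodd hg h
  have hWO : ∀ g : K.NW F, (g : G) ∈ K.WV F → π g = 1 → g = 1 := fun g hg h =>
    Subtype.ext (hOW _ ((hker g).mp h) (K.BV.W_sq F.elemV hg))
  let tH : K.NW F := ⟨C.t, K.t_mem_NW F⟩
  have htH : tH * tH = 1 := Subtype.ext C.t_sq
  let eH : Subgroup.normalizer (V : Set M) →* K.NW F :=
    MonoidHom.mk' (fun n => ⟨C.e (n : M), K.e_mem_NW F n⟩) fun a c => Subtype.ext (map_mul C.e _ _)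
  let sH : V →* K.NW F :=
    MonoidHom.mk' (fun x => ⟨K.BV.s x, K.sV_mem_NW F x.2⟩) fun a c => Subtype.ext (K.BV.add a a.2 c c.2)
  let bH : M → K.NW F := fun u => if hu : u ∈ U then ⟨K.BU.s u, K.sU_mem_NW F hp hu⟩ else 1
  have hbH : ∀ u, u ∈ U → (bH u : G) = K.BU.s u := fun u hu => by simp only [bH, dif_pos hu]
  let A : Halves (K.NW F ⧸ O.subgroupOf (K.NW F)) V U :=
    { tq := π tH
      tq_sq := by rw [← map_mul, htH, map_one]
      eq := π.comp eH
      a1 := π.comp sH
      u1 := fun u => π (bH u)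
      a_comm := fun x y => by
        simp only [MonoidHom.comp_apply, ← map_mul]
        refine congrArg π (Subtype.ext ?_)
        show K.BV.s x * (C.t * K.BV.s y * C.t) = C.t * K.BV.s y * C.t * K.BV.s x
        rw [K.BV.flip y.2]
        exact K.BV.W_comm F.elemV (K.BV.s_mem_W F.elemV x.2) ⟨y, y.2, y, y.2, rfl⟩
      a_diag := fun x => by
        simp only [MonoidHom.comp_apply, ← map_mul]
        refine congrArg π (Subtype.ext ?_)
        show K.BV.s x * (C.t * K.BV.s x * C.t) = C.e x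
        rw [K.BV.flip x.2, ← mul_assoc, K.BV.sq x x.2, one_mul]
      a_inj := fun x y h => by
        simp only [MonoidHom.comp_apply, ← map_mul] at h
        have hW : K.BV.s x * (C.t * K.BV.s y * C.t) ∈ K.WV F := by
          rw [K.BV.flip y.2]
          exact (K.WV F).mul_mem (K.BV.s_mem_W F.elemV x.2) ⟨y, y.2, y, y.2, rfl⟩
        have h1 : K.BV.s x * (C.t * K.BV.s y * C.t) = 1 := congrArg Subtype.val (hWO _ hW h)
        rw [K.BV.flip y.2, ← mul_assoc, ← K.BV.add x x.2 y y.2] at h1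
        have h2 := K.BV.coord_eq F.elemV (V.mul_mem x.2 y.2) y.2 V.one_mem V.one_mem
          (by rw [h1, K.BV.s_one, map_one, one_mul])
        refine ⟨Subtype.ext ?_, Subtype.ext h2.2⟩
        have h3 := h2.1
        rwa [h2.2, mul_one] at h3
      a_equiv := fun n x y h => by
        simp only [MonoidHom.comp_apply, ← map_mul, ← map_inv]
        refine congrArg π (Subtype.ext ?_)
        show C.e n * K.BV.s x * C.e ((n⁻¹ : Subgroup.normalizer (V : Set M)) : M) = K.BV.s y
        rw [Subgroup.coe_inv, map_inv, K.BV.equiv n n.2 x x.2, h]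
      eq_t := fun n => by
        simp only [MonoidHom.comp_apply, ← map_mul]
        exact congrArg π (Subtype.ext (C.t_comm n).symm)
      eq_inj := by
        intro m n h
        rw [← mul_inv_eq_one]
        have h1 : π (eH (m * n⁻¹)) = 1 := by
          rw [map_mul, map_inv, map_mul, map_inv]; exact mul_inv_eq_one.mpr h
        obtain ⟨hc, hodd⟩ := (hOmem _).mp ((hker _).mp h1)
        have hV' : ((m * n⁻¹ : Subgroup.normalizer (V : Set M)) : M) ∈ V := by
          refine (SetLike.ext_iff.mp F.centralizer_V _).mp (Subgroup.mem_centralizer_iff.mpr fun x hx => C.inj ?_)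
          rw [map_mul C.e x, map_mul C.e _ x]
          exact Subgroup.mem_centralizer_iff.mp hc _ (K.BV.e_mem_W F.elemV hx)
        have h2 := hOW _ ((hker _).mp h1) (Dbl.sq_e F.elemV hV')
        exact Subtype.ext (C.inj (h2.trans (map_one C.e).symm))
      cent_W := fun q h1 h2 => by
        obtain ⟨g, rfl⟩ : ∃ g, π g = q := QuotientGroup.mk_surjective q
        have hcom : ∀ w : K.NW F, (w : G) ∈ K.WV F → π g * π w = π w * π g → (g : G) * w = w * g := by
          intro w hw hc
          have hc' : π (g * w * g⁻¹ * w⁻¹) = 1 := by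
            rw [map_mul, map_mul, map_mul, map_inv, map_inv, hc]; group
          have hW : ((g * w * g⁻¹ * w⁻¹ : K.NW F) : G) ∈ K.WV F :=
            (K.WV F).mul_mem ((Subgroup.mem_normalizer_iff.mp g.2 _).mp hw) ((K.WV F).inv_mem hw)
          have h3 : (g : G) * w * (g : G)⁻¹ * (w : G)⁻¹ = 1 := congrArg Subtype.val (hWO _ hW hc')
          calc (g : G) * w = (g : G) * w * (g : G)⁻¹ * (w : G)⁻¹ * (w * g) := by group
            _ = _ := by rw [h3, one_mul]
        have hs : ∀ x : V, (g : G) * K.BV.s x = K.BV.s x * g := fun x =>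
          hcom (sH x) (K.BV.s_mem_W F.elemV x.2) (h1 x)
        have hgZ : (g : G) ∈ Subgroup.centralizer (K.WV F : Set G) := by
          refine Subgroup.mem_centralizer_iff.mpr ?_
          rintro _ ⟨a, ha, c, hc, rfl⟩
          have hfl := hcom (tH * sH ⟨c, hc⟩ * tH) (by
              show C.t * K.BV.s c * C.t ∈ K.WV F
              rw [K.BV.flip hc]; exact ⟨c, hc, c, hc, rfl⟩) (by
              simpa only [map_mul, MonoidHom.comp_apply] using h2 ⟨c, hc⟩)
          have hfl' : (g : G) * (K.BV.s c * C.e c) = K.BV.s c * C.e c * g := by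
            rw [← K.BV.flip hc]; exact hfl
          have hec : (g : G) * C.e c = C.e c * g := by
            have he : C.e c = K.BV.s c * (K.BV.s c * C.e c) := by rw [← mul_assoc, K.BV.sq c hc, one_mul]
            rw [he, ← mul_assoc (g : G), hs ⟨c, hc⟩, mul_assoc, hfl', ← mul_assoc]
          rw [mul_assoc, ← hec, ← mul_assoc, ← hs ⟨a, ha⟩, mul_assoc]
        obtain ⟨w, hw, o, ho, hgwo⟩ := hZ _ hgZ
        obtain ⟨a, ha, c, hc, rfl⟩ := hw
        refine ⟨⟨a * c, V.mul_mem ha hc⟩, ⟨c, hc⟩, ?_⟩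
        simp only [MonoidHom.comp_apply, ← map_mul]
        refine mul_inv_eq_one.mp ?_
        rw [← map_inv, ← map_mul, hker]
        show (g : G) * (K.BV.s (a * c) * (C.t * K.BV.s c * C.t))⁻¹ ∈ O
        rw [K.BV.flip hc, K.BV.add a ha c hc, hgwo]
        have he : K.BV.s a * K.BV.s c * (K.BV.s c * C.e c) = K.BV.s a * C.e c := by
          rw [← mul_assoc, mul_assoc (K.BV.s a), K.BV.sq c hc, mul_one]
        rw [he]
        have hc' : K.BV.s a * C.e c * o = o * (K.BV.s a * C.e c) :=
          Subgroup.mem_centralizer_iff.mp ((hOmem o).mp ho).1 _ ⟨a, ha, c, hc, rfl⟩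
        rw [hc', mul_inv_cancel_right]
        exact ho
      cent_t := fun q hq => by
        obtain ⟨g, rfl⟩ : ∃ g, π g = q := QuotientGroup.mk_surjective q
        have hq' : π g * π tH = π tH * π g := hq
        -- adjust `g` inside its coset to commute with `t`
        set o : K.NW F := g * tH * g⁻¹ * tH with hodef
        have ho : (o : G) ∈ O := (hker o).mp (by
          rw [hodef, map_mul, map_mul, map_mul, map_inv, hq', mul_inv_cancel_right, ← map_mul, htH, map_one])
        have hto : C.t * (o : G) * C.t = (o : G)⁻¹ := by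
          refine eq_inv_of_mul_eq_one_left ?_
          show C.t * ((g : G) * C.t * (g : G)⁻¹ * C.t) * C.t * ((g : G) * C.t * (g : G)⁻¹ * C.t) = 1
          calc C.t * ((g : G) * C.t * (g : G)⁻¹ * C.t) * C.t * ((g : G) * C.t * (g : G)⁻¹ * C.t)
              = (C.t * (g : G) * C.t * (g : G)⁻¹) * (C.t * C.t) * ((g : G) * C.t * (g : G)⁻¹ * C.t) := by group
            _ = (C.t * (g : G) * C.t * (g : G)⁻¹) * ((g : G) * C.t * (g : G)⁻¹ * C.t) := by rw [C.t_sq, mul_one]
            _ = C.t * ((g : G) * (C.t * C.t) * (g : G)⁻¹) * C.t := by group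
            _ = 1 := by rw [C.t_sq, mul_one, mul_inv_cancel, mul_one, C.t_sq]
        obtain ⟨j, hj⟩ := odd_sqrt hOodd ho
        set r := (o : G) ^ j with hr
        have hrO : r ∈ O := pow_mem ho j
        have hrt : C.t * r * C.t = r⁻¹ := by
          have h := conj_pow (i := j) (a := C.t) (b := (o : G))
          rw [C.t_inv, hto, inv_pow] at h
          exact h.symm
        set g' : K.NW F := ⟨r, hOle hrO⟩⁻¹ * g with hg'
        have hg't : (g' : G) * C.t = C.t * g' := by
          show r⁻¹ * (g : G) * C.t = C.t * (r⁻¹ * g)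
          have h1 : (g : G) * C.t = r * r * C.t * g := by
            rw [hj]
            show (g : G) * C.t = (g : G) * C.t * (g : G)⁻¹ * C.t * C.t * g
            rw [mul_assoc _ C.t C.t, C.t_sq, mul_one, inv_mul_cancel_right]
          rw [mul_assoc r⁻¹, h1]
          calc r⁻¹ * (r * r * C.t * g) = r * C.t * g := by group
            _ = C.t * (C.t * r * C.t) * g := by rw [← mul_assoc C.t (C.t * r) C.t, C.tt]
            _ = _ := by rw [hrt]; group
        have hπg : π g = π g' := by
          rw [hg', map_mul, map_inv, (hker ⟨r, hOle hrO⟩).mpr hrO, inv_one, one_mul]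
        obtain ⟨m, d, hd, hmd⟩ := E.cent_t _ hg't (Or.inl fun x hx => by
          obtain ⟨a, ha, c, hc, hac⟩ := (Subgroup.mem_normalizer_iff.mp g'.2 _).mp (K.BV.e_mem_W F.elemV hx)
          have h2 : C.t * ((g' : G) * C.e x * (g' : G)⁻¹) * C.t = (g' : G) * C.e x * (g' : G)⁻¹ := by
            have hg : Commute C.t (g' : G) := hg't.symm
            rw [((hg.mul_right (C.t_comm x)).mul_right hg.inv_right).eq, mul_assoc, C.t_sq, mul_one]
          rw [hac, K.BV.t_flip_mk ha, mul_assoc, ← map_mul] at h2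
          have h3 : a = 1 := mul_eq_right.mp (K.BV.coord_eq F.elemV ha (V.mul_mem ha hc) ha hc h2).2
          rw [h3, K.BV.s_one, one_mul] at hac
          exact ⟨c, hc, hac⟩)
        have hdW : d ∈ Subgroup.centralizer (K.WV F : Set G) := by
          refine Subgroup.mem_centralizer_iff.mpr ?_
          rintro _ ⟨a, ha, c, hc, rfl⟩
          rw [mul_assoc, ← C.D_comm d hd c, ← mul_assoc, ← K.BV.D_comm a ha d hd, mul_assoc]
        have hdO : d ∈ O := (hOmem d).mpr ⟨hdW, by
          refine Odd.of_dvd_nat C.D_odd ?_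
          rw [← Subgroup.orderOf_mk d hd]
          exact orderOf_dvd_natCard _⟩
        have hmN : m ∈ Subgroup.normalizer (V : Set M) := by
          refine mem_normalizer_of_conj_le fun x hx => ?_
          have hx1 : (g' : G) * C.e x * (g' : G)⁻¹ = C.e (m * x * m⁻¹) := by
            rcases hmd with h | h <;> rw [h]
            · calc C.e m * d * C.e x * (C.e m * d)⁻¹ = C.e m * (d * C.e x * d⁻¹) * (C.e m)⁻¹ := by group
                _ = _ := by rw [C.D_comm d hd, mul_inv_cancel_right, C.e_conj]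
            · calc C.e m * C.t * d * C.e x * (C.e m * C.t * d)⁻¹
                  = C.e m * (C.t * (d * C.e x * d⁻¹) * C.t⁻¹) * (C.e m)⁻¹ := by group
                _ = _ := by rw [C.D_comm d hd, mul_inv_cancel_right, C.t_conj, C.e_conj]
          obtain ⟨a, ha, c, hc, hac⟩ := (Subgroup.mem_normalizer_iff.mp g'.2 _).mp (K.BV.e_mem_W F.elemV hx)
          rw [hx1] at hac
          have h2 : C.t * C.e (m * x * m⁻¹) * C.t = C.e (m * x * m⁻¹) := e_mul_t C _
          rw [hac, K.BV.t_flip_mk ha, mul_assoc, ← map_mul] at h2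
          have h3 : a = 1 := mul_eq_right.mp (K.BV.coord_eq F.elemV ha (V.mul_mem ha hc) ha hc h2).2
          rw [h3, K.BV.s_one, one_mul] at hac
          rw [C.inj hac]
          exact hc
        refine ⟨⟨m, hmN⟩, ?_⟩
        have hπd : π ⟨d, hOle hdO⟩ = 1 := (hker _).mpr hdO
        rcases hmd with h | h
        · left
          show π g = π (eH ⟨m, hmN⟩)
          rw [hπg, show g' = eH ⟨m, hmN⟩ * ⟨d, hOle hdO⟩ from Subtype.ext h, map_mul, hπd, mul_one]
        · right
          show π g = π (eH ⟨m, hmN⟩) * π tH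
          rw [hπg, show g' = eH ⟨m, hmN⟩ * tH * ⟨d, hOle hdO⟩ from Subtype.ext h, map_mul, hπd, mul_one, map_mul]
      u_add := fun a ha c hc => by
        rw [← map_mul]
        refine congrArg π (Subtype.ext ?_)
        rw [Subgroup.coe_mul, hbH a ha, hbH c hc, hbH _ (U.mul_mem ha hc)]
        exact K.BU.add a ha c hc
      u_comm := fun a ha c hc => by
        simp only [← map_mul]
        refine congrArg π (Subtype.ext ?_)
        show (bH a : G) * (C.t * bH c * C.t) = C.t * bH c * C.t * bH a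
        rw [hbH a ha, hbH c hc, K.BU.flip hc, ← mul_assoc, K.BU.comm a ha c hc, mul_assoc, K.BU.X_comm a ha c hc,
          ← mul_assoc]
      u_diag := fun a ha h => by
        simp only [MonoidHom.comp_apply, ← map_mul]
        refine congrArg π (Subtype.ext ?_)
        show (bH a : G) * (C.t * bH a * C.t) = C.e a
        rw [hbH a ha, K.BU.flip ha, ← mul_assoc, K.BU.sq a ha, one_mul]
      u_act := fun a ha x y h => by
        simp only [MonoidHom.comp_apply, ← map_mul, ← map_inv]
        refine congrArg π (Subtype.ext ?_)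
        show (bH a : G) * K.BV.s x * (bH a : G)⁻¹ = K.BV.s y
        rw [hbH a ha, K.sU_conj_sV F hp ha x.2, h]
      u_triv := fun a ha x => by
        simp only [MonoidHom.comp_apply, ← map_mul]
        refine congrArg π (Subtype.ext ?_)
        show (bH a : G) * (C.t * K.BV.s x * C.t) = C.t * K.BV.s x * C.t * bH a
        rw [hbH a ha, K.BV.flip x.2]
        have hn := comm_mem F x.2 ha
        have h1 := K.sU_conj_sV F hp ha x.2
        rw [K.BU.s_inv ha, U_conj_V F x.2 ha, K.BV.add x x.2 _ hn.2] at h1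
        have h2 := K.sU_e_sU F x.2 ha
        have hb := K.BU.sq a ha
        have hc1 := K.BV.X_comm _ hn.2 (x : M) x.2
        calc K.BU.s a * (K.BV.s x * C.e x)
            = (K.BU.s a * K.BV.s x * K.BU.s a) * (K.BU.s a * C.e x * K.BU.s a) * K.BU.s a := by
              rw [show K.BU.s a * K.BV.s x * K.BU.s a * (K.BU.s a * C.e x * K.BU.s a) * K.BU.s a =
                K.BU.s a * K.BV.s x * (K.BU.s a * K.BU.s a) * C.e x * (K.BU.s a * K.BU.s a) by group,
                hb, mul_one, mul_one, mul_assoc]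
          _ = K.BV.s x * (K.BV.s (comm x a) * C.e x) * K.BV.s (comm x a) * K.BU.s a := by rw [h1, h2]; group
          _ = K.BV.s x * C.e x * (K.BV.s (comm x a) * K.BV.s (comm x a)) * K.BU.s a := by rw [hc1]; group
          _ = _ := by rw [K.BV.sq _ hn.2, mul_one]
      u_L := fun a ha h => by
        simp only [MonoidHom.comp_apply]
        refine congrArg π (Subtype.ext ?_)
        rw [hbH a ha]
        exact K.link a ⟨ha, h⟩
      u_equiv := fun n hn a ha => by
        simp only [MonoidHom.comp_apply, ← map_mul, ← map_inv]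
        refine congrArg π (Subtype.ext ?_)
        show C.e n * bH a * C.e ((n⁻¹ : Subgroup.normalizer (V : Set M)) : M) = bH _
        rw [hbH a ha, hbH _ ((Subgroup.mem_normalizer_iff.mp hn a).mp ha), Subgroup.coe_inv, map_inv,
          K.BU.equiv n hn a ha] }
  refine ⟨A, rfl, fun n => rfl, fun u hu => ?_, fun x => rfl,
    fun o ho w hw => (Subgroup.mem_centralizer_iff.mp ((hOmem o).mp ho).1 w hw).symm⟩
  show π (bH u) = _
  exact congrArg π (Subtype.ext (hbH u hu))

end Link

end Cfsg.Lib.StdWreath
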