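import Cfsg.Agent.StdWreath.Defs
import Cfsg.Prelude.Def_Transfer

/-!
The basic configuration: an involution `t` centralising an embedded copy of `M`, with the odd part `D` of its
centraliser, and the conditions under which the translation group over an elementary abelian `X ≤ M` is built.
-/

set_option autoImplicit false

namespace Cfsg.Lib.StdWreath

universe u v

/-- An involution `t` of `G` centralising the image of `M`, and an odd subgroup `D` centralising both. -/
structure Cfg (G : Type u) (M : Type v) [Group G] [Group M] where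
  e : M →* G
  inj : Function.Injective e
  t : G
  t_sq : t * t = 1
  t_not : ∀ m, e m ≠ t
  t_comm : ∀ m, t * e m = e m * t
  D : Subgroup G
  D_odd : Odd (Nat.card D)
  D_comm : ∀ d ∈ D, ∀ m, d * e m = e m * d
  D_t : ∀ d ∈ D, d * t = t * d

/-- What is needed to build the translation group over `X`. -/
structure TCtx {G : Type u} {M : Type v} [Group G] [Group M] (C : Cfg G M) (X : Subgroup M) : Prop where
  elem : Cfsg.IsElementaryAbelian 2 X
  card : 4 ≤ Nat.card X
  span : ∀ x ∈ X, x ≠ 1 → X ≤ Subgroup.closure {y | ∃ n ∈ Subgroup.normalizer (X : Set M), n * x * n⁻¹ = y}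
  cobDual : CobDual X
  cobEnd : CobEnd X
  wedge : WedgeZero X
  endS : EndScalar X
  quad : QuadZero X
  cent : ∀ c, c * C.t = C.t * c → (∀ x ∈ X, c * C.e x = C.e x * c) →
    ∃ x ∈ X, ∃ d ∈ C.D, c = C.e x * d ∨ c = C.e x * C.t * d
  trans : ∀ x ∈ X, ∃ g : G, (∀ y ∈ X, g * C.e y = C.e y * g) ∧ g * C.t * g⁻¹ = C.t * C.e x

namespace Cfg

variable {G : Type u} {M : Type v} [Group G] [Group M] (C : Cfg G M)

theorem t_inv : C.t⁻¹ = C.t := inv_eq_of_mul_eq_one_right C.t_sq

theorem t_ne : C.t ≠ 1 := fun h => C.t_not 1 (by rw [map_one, h])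

theorem t_conj (m : M) : C.t * C.e m * C.t⁻¹ = C.e m := by
  rw [C.t_comm, mul_inv_cancel_right]

theorem tt (g : G) : C.t * (C.t * g) = g := by rw [← mul_assoc, C.t_sq, one_mul]

theorem e_conj (n x : M) : C.e n * C.e x * (C.e n)⁻¹ = C.e (n * x * n⁻¹) := by
  simp [map_mul, map_inv]

theorem D_eq_one {d : G} (hd : d ∈ C.D) [Finite G] {k : ℕ} (h : d ^ 2 ^ k = 1) : d = 1 := by
  have h1 : orderOf (⟨d, hd⟩ : C.D) ∣ Nat.card C.D := orderOf_dvd_natCard _
  rw [Subgroup.orderOf_mk] at h1
  have h2 : orderOf d ∣ 2 ^ k := orderOf_dvd_of_pow_eq_one h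
  have hc : Nat.Coprime (Nat.card C.D) (2 ^ k) :=
    Nat.Coprime.pow_right _ (Nat.coprime_two_right.mpr C.D_odd)
  exact orderOf_eq_one_iff.mp (Nat.eq_one_of_dvd_coprimes hc h1 h2)

theorem D_sq_eq_one {d : G} (hd : d ∈ C.D) [Finite G] (h : d * d = 1) : d = 1 :=
  C.D_eq_one hd (k := 1) (by rw [pow_one, pow_two, h])

end Cfg

end Cfsg.Lib.StdWreath
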