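import Cfsg.Agent.StdWreath.Pull

/-!
Preparations inside `M`: conjugating a 2-subgroup of full order onto a given Sylow subgroup of a centraliser, and
the 2-subgroups of `C(α)` obtained by projecting conjugated centralisers.
-/

set_option autoImplicit false
set_option linter.unusedSectionVars false

namespace Cfsg.Lib.StdWreath

universe u v

theorem sylow_conj_of_card {H : Type v} [Group H] [Finite H] {Q R : Subgroup H} (hQ : IsPGroup 2 Q)
    (hR : IsPGroup 2 R) (hodd : ¬ 2 ∣ R.index) (hcard : Nat.card Q = Nat.card R) :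
    ∃ c : H, ∀ q ∈ Q, c * q * c⁻¹ ∈ R := by
  obtain ⟨Q', hQ'⟩ := hQ.exists_le_sylow
  let R' : Sylow 2 H := hR.toSylow hodd
  have hR' : (R' : Subgroup H) = R := rfl
  obtain ⟨c, hc⟩ := MulAction.exists_smul_eq H Q' R'
  refine ⟨c, fun q hq => ?_⟩
  have h1 : c * q * c⁻¹ ∈ (c • Q' : Sylow 2 H).1 := by
    rw [Sylow.coe_subgroup_smul]
    exact Subgroup.smul_mem_pointwise_smul _ _ _ (hQ' hq)
  rw [hc] at h1
  exact h1

theorem relIndex_conj {M : Type v} [Group M] [Finite M] {H Q R : Subgroup M} (hQH : Q ≤ H) (hRH : R ≤ H)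
    (hQ : IsPGroup 2 Q) (hR : IsPGroup 2 R) (hodd : ¬ 2 ∣ R.relIndex H) (hcard : Nat.card Q = Nat.card R) :
    ∃ c ∈ H, ∀ r ∈ R, ∃ q ∈ Q, c * q * c⁻¹ = r := by
  have hQ' : IsPGroup 2 (Q.subgroupOf H) := hQ.comap_subtype
  have hR' : IsPGroup 2 (R.subgroupOf H) := hR.comap_subtype
  have hc1 := Nat.card_congr (Subgroup.subgroupOfEquivOfLe hQH).toEquiv
  have hc2 := Nat.card_congr (Subgroup.subgroupOfEquivOfLe hRH).toEquiv
  obtain ⟨c, hc⟩ := sylow_conj_of_card hQ' hR' hodd (hc1.trans (hcard.trans hc2.symm))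
  refine ⟨c, c.2, fun r hr => ?_⟩
  let f : Q → R := fun q => ⟨(c : M) * q * (c : M)⁻¹, by
    have := hc ⟨q, hQH q.2⟩ q.2
    simpa [Subgroup.mem_subgroupOf] using this⟩
  have hf : Function.Injective f := fun a b h => Subtype.ext (by
    have := congrArg Subtype.val h
    simpa [f] using this)
  obtain ⟨q, hq⟩ := ((Nat.bijective_iff_injective_and_card f).mpr ⟨hf, hcard⟩).2 ⟨r, hr⟩
  exact ⟨q, q.2, congrArg Subtype.val hq⟩

variable {G : Type u} {M : Type v} [Group G] [Group M] [Finite G] [Finite M] {C : Cfg G M} (E : Exact C)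

include E in
/-- Projection of `g⁻¹ · g' · g` for `g'` in `M` commuting with `g t g⁻¹`. -/
theorem projection {g : G} {u α : M} (hg : g * C.t * g⁻¹ = C.t * C.e u)
    (hα : g⁻¹ * C.t * g = C.t * C.e α) (Q : Subgroup M) (hQ : ∀ q ∈ Q, q * u = u * q) (hQ2 : IsPGroup 2 Q) :
    ∃ P : Subgroup M, IsPGroup 2 P ∧ Nat.card P = Nat.card Q ∧ (∀ p ∈ P, p * α = α * p) ∧
      ∀ X : Subgroup M, g * C.t * g⁻¹ ∈ tSup C X → Q ≤ Subgroup.normalizer (X : Set M) →
        P ≤ Subgroup.normalizer (pull C X g : Set M) := by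
  have hct : ∀ q : Q, g⁻¹ * C.e q * g * C.t = C.t * (g⁻¹ * C.e q * g) := fun q => by
    have h1 : C.e q * (g * C.t * g⁻¹) = g * C.t * g⁻¹ * C.e q := by
      rw [hg, ← mul_assoc, ← C.t_comm, mul_assoc, ← map_mul, hQ q q.2, map_mul, ← mul_assoc]
    calc g⁻¹ * C.e q * g * C.t = g⁻¹ * (C.e q * (g * C.t * g⁻¹)) * g := by group
      _ = g⁻¹ * ((g * C.t * g⁻¹) * C.e q) * g := by rw [h1]
      _ = _ := by group
  let π : Q →* M :=
    { toFun := fun q => mPart C (g⁻¹ * C.e q * g)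
      map_one' := by
        have : g⁻¹ * C.e ((1 : Q) : M) * g = C.e 1 := by simp
        rw [this, E.mPart_e]
      map_mul' := fun a b => by
        rw [← E.mPart_mul (hct a) (hct b)]
        congr 1
        rw [Subgroup.coe_mul, map_mul]; group }
  have hπ : Function.Injective π := by
    refine (injective_iff_map_eq_one π).mpr fun q hq => ?_
    obtain ⟨k, hk⟩ := hQ2 q
    have hk' : (g⁻¹ * C.e q * g) ^ 2 ^ k = 1 := by
      have h1 : (q : M) ^ 2 ^ k = 1 := by
        have := congrArg Subtype.val hk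
        simpa using this
      calc (g⁻¹ * C.e q * g) ^ 2 ^ k = (g⁻¹ * C.e q * g⁻¹⁻¹) ^ 2 ^ k := by rw [inv_inv]
        _ = g⁻¹ * C.e q ^ 2 ^ k * g⁻¹⁻¹ := conj_pow
        _ = 1 := by rw [← map_pow, h1, map_one]; group
    rcases E.eq_of_mPart_one (hct q) hq hk' with h | h
    · refine Subtype.ext (C.inj ?_)
      rw [Subgroup.coe_one, map_one]
      calc C.e q = g * (g⁻¹ * C.e q * g) * g⁻¹ := by group
        _ = 1 := by rw [h]; group
    · exact absurd (show g * C.t * g⁻¹ = C.e q by rw [← h]; group) (E.not_conj q g)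
  refine ⟨π.range, hQ2.of_surjective π.rangeRestrict π.rangeRestrict_surjective,
    (Nat.card_congr (MonoidHom.ofInjective hπ).toEquiv).symm, ?_, fun X hX hQX => ?_⟩
  · rintro p ⟨q, rfl⟩
    show mPart C (g⁻¹ * C.e q * g) * α = α * mPart C (g⁻¹ * C.e q * g)
    have h1 := E.conj_e (hct q) α
    have h2 : (g⁻¹ * C.e q * g) * (C.t * C.e α) = (C.t * C.e α) * (g⁻¹ * C.e q * g) := by
      rw [← hα]
      calc g⁻¹ * C.e q * g * (g⁻¹ * C.t * g) = g⁻¹ * (C.e q * C.t) * g := by group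
        _ = g⁻¹ * (C.t * C.e q) * g := by rw [C.t_comm]
        _ = _ := by group
    have h3 : (g⁻¹ * C.e q * g) * C.e α = C.e α * (g⁻¹ * C.e q * g) := by
      rw [← mul_assoc, hct q, mul_assoc C.t, mul_assoc C.t (C.e α)] at h2
      exact mul_left_cancel h2
    rw [h3, mul_inv_cancel_right] at h1
    have h4 := C.inj h1
    conv_rhs => rw [h4]
    group
  · rintro p ⟨q, rfl⟩
    have hmap : ∀ r : Q, ∀ m ∈ pull C X g, π r * m * (π r)⁻¹ ∈ pull C X g := by
      intro r m hm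
      rw [mem_pull]
      show g * C.e (mPart C (g⁻¹ * C.e r * g) * m * (mPart C (g⁻¹ * C.e r * g))⁻¹) * g⁻¹ ∈ _
      rw [← E.conj_e (hct r) m]
      have h2 := (Subgroup.mem_normalizer_iff.mp (e_normalizes_tSup C (hQX r.2)) _).mp (mem_pull.mp hm)
      convert h2 using 1; group
    refine Subgroup.mem_normalizer_iff.mpr fun m => ⟨hmap q m, fun hm => ?_⟩
    have := hmap q⁻¹ _ hm
    rw [map_inv] at this
    convert this using 1; group

end Cfsg.Lib.StdWreath
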