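import Cfsg.Agent.StdWreath.EndStar

/-!
The end game, last part: the two classes commute elementwise, against a simple normal subgroup containing `M`.
-/

set_option autoImplicit false
set_option linter.unusedSectionVars false

namespace Cfsg.Lib.StdWreath

universe u v

variable {G : Type u} {M : Type v} [Group G] [Group M] {C : Cfg G M} {S : Subgroup M}

theorem refl_pow_conj {x y : G} (hx : x * x = 1) (hy : y * y = 1) (j : ℕ) :
    ((x * y) ^ j)⁻¹ * x * (x * y) ^ j = x * (x * y) ^ (2 * j) := by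
  have h1 : x * (x * y) * x⁻¹ = (x * y)⁻¹ := by
    rw [mul_inv_rev, inv_eq_of_mul_eq_one_right hy, inv_eq_of_mul_eq_one_right hx, ← mul_assoc x x, hx, one_mul]
  have h2 : (x * (x * y) * x⁻¹) ^ j = x * (x * y) ^ j * x⁻¹ := conj_pow
  rw [h1, inv_pow] at h2
  rw [h2, two_mul, pow_add]
  group

namespace Wreath

variable {W : Wreath C S} {V U : Subgroup M} {z b : M} [Finite M] [Finite G] {G0 : Subgroup G}

namespace Even

variable (H : W.Even G0) (F : Facts24 V U S z b) (E : Exact C)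
include H F

theorem cl1_props {x : G} (hx : CW G0 (W.z1 F) x) : x ∈ G0 ∧ x * x = 1 := by
  obtain ⟨g, -, rfl⟩ := hx
  refine ⟨H.conj_mem (H.T0_le (W.z1_mem F)) g, ?_⟩
  calc g * W.z1 F * g⁻¹ * (g * W.z1 F * g⁻¹) = g * (W.z1 F * W.z1 F) * g⁻¹ := by group
    _ = 1 := by rw [H.z1_sq F]; group

theorem cl2_flip {x : G} (hx : CW G0 (W.z2 F) x) : CW G0 (W.z1 F) (C.t * x * C.t) := by
  have h := H.flip_cw hx
  rwa [W.t_z2 F] at h

theorem cl2_props {x : G} (hx : CW G0 (W.z2 F) x) : x ∈ G0 ∧ x * x = 1 := by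
  obtain ⟨g, hg, rfl⟩ := hx
  have hsq : W.z2 F * W.z2 F = 1 := by rw [z2, ← map_mul, Prod.mk_mul_mk, F.zS_sq, one_mul, ← Prod.one_eq_mk, map_one]
  refine ⟨H.conj_mem (H.T0_le (W.z2_mem F)) g, ?_⟩
  calc g * W.z2 F * g⁻¹ * (g * W.z2 F * g⁻¹) = g * (W.z2 F * W.z2 F) * g⁻¹ := by group
    _ = 1 := by rw [hsq]; group

/-- A product of two commuting conjugates of `z₁` has type `(γ, 1)`. -/
theorem pair1 {x x' : G} (hx : CW G0 (W.z1 F) x) (hx' : CW G0 (W.z1 F) x') (hcomm : x * x' = x' * x) (hne : x ≠ x') :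
    ∃ γ : S, γ * γ = 1 ∧ γ ≠ 1 ∧ CW G0 (x * x') (W.ι (γ, 1)) := by
  obtain ⟨hxG, hxx⟩ := H.cl1_props F hx
  obtain ⟨hxG', hxx'⟩ := H.cl1_props F hx'
  obtain ⟨g, hg, p, q, hp, hq⟩ := H.conj_pair F.S_two hxG hxG' hxx hxx' hcomm
  have h1 := H.type_z1 F (hx.trans ⟨g, hg, hp⟩)
  have h2 := H.type_z1 F (hx'.trans ⟨g, hg, hq⟩)
  have he : g * (x * x') * g⁻¹ = W.ι (p.1 * q.1, 1) := by
    calc g * (x * x') * g⁻¹ = (g * x * g⁻¹) * (g * x' * g⁻¹) := by group
      _ = _ := by rw [hp, hq, ← map_mul]; exact congrArg W.ι (Prod.ext rfl (by simp [h1.2, h2.2]))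
  refine ⟨p.1 * q.1, ?_, fun h => hne ?_, g, hg, he⟩
  · have h3 : W.ι (p.1 * q.1, 1) * W.ι (p.1 * q.1, 1) = 1 := by
      rw [← he]
      calc g * (x * x') * g⁻¹ * (g * (x * x') * g⁻¹) = g * (x * (x' * x) * x') * g⁻¹ := by group
        _ = g * ((x * x) * (x' * x')) * g⁻¹ := by rw [← hcomm]; group
        _ = 1 := by rw [hxx, hxx', one_mul, mul_one, mul_inv_cancel]
    rw [← map_mul, ← map_one W.ι] at h3
    exact congrArg Prod.fst (W.inj h3)
  · rw [h, ← Prod.one_eq_mk, map_one] at he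
    have h4 : x * x' = 1 := by
      calc x * x' = g⁻¹ * (g * (x * x') * g⁻¹) * g := by group
        _ = 1 := by rw [he]; group
    exact mul_left_cancel (hxx.trans h4.symm)

theorem pair2 {x x' : G} (hx : CW G0 (W.z2 F) x) (hx' : CW G0 (W.z2 F) x') (hcomm : x * x' = x' * x) (hne : x ≠ x') :
    ∃ δ : S, δ * δ = 1 ∧ δ ≠ 1 ∧ CW G0 (x * x') (W.ι (1, δ)) := by
  have ht : ∀ a c : G, C.t * a * C.t * (C.t * c * C.t) = C.t * (a * c) * C.t := fun a c => by
    rw [mul_assoc C.t c C.t, mul_assoc (C.t * a), C.tt]; group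
  obtain ⟨δ, h1, h2, h3⟩ := H.pair1 F (H.cl2_flip F hx) (H.cl2_flip F hx') (by rw [ht, ht, hcomm])
    (fun h => hne (mul_left_cancel (mul_right_cancel h)))
  refine ⟨δ, h1, h2, ?_⟩
  have h4 := H.flip_cw h3
  rw [ht, W.flip, show C.t * (C.t * (x * x') * C.t) * C.t = x * x' by
    rw [← mul_assoc C.t (C.t * (x * x')) C.t, C.tt, mul_assoc, C.t_sq, mul_one]] at h4
  exact h4

include E

/-- Conjugates of `z₁` and `z₂` commute. -/
theorem classes_commute {x y : G} (hx : CW G0 (W.z1 F) x) (hy : CW G0 (W.z2 F) y) : x * y = y * x := by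
  obtain ⟨hxG, hxx⟩ := H.cl1_props F hx
  obtain ⟨hyG, hyy⟩ := H.cl2_props F hy
  set u := x * y with hu
  have huG : u ∈ G0 := G0.mul_mem hxG hyG
  have hA : ∀ j : ℕ, CW G0 (W.z1 F) (x * u ^ (2 * j)) := fun j =>
    hx.trans ⟨(u ^ j)⁻¹, G0.inv_mem (pow_mem huG j), by rw [inv_inv, hu, refl_pow_conj hxx hyy]⟩
  have hB : ∀ j : ℕ, CW G0 (W.z2 F) (y * (y * x) ^ (2 * j)) := fun j =>
    hy.trans ⟨((y * x) ^ j)⁻¹, G0.inv_mem (pow_mem (G0.mul_mem hyG hxG) j),
      by rw [inv_inv, refl_pow_conj hyy hxx]⟩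
  have hyx : y * x = u⁻¹ := by rw [hu, mul_inv_rev, inv_eq_of_mul_eq_one_right hxx, inv_eq_of_mul_eq_one_right hyy]
  rcases Nat.even_or_odd (orderOf u) with ⟨n, hn⟩ | ⟨n, hn⟩
  · set i := u ^ n with hi
    have hii : i * i = 1 := by rw [hi, ← pow_add, ← hn, pow_orderOf_eq_one]
    have hiinv : i⁻¹ = i := inv_eq_of_mul_eq_one_right hii
    have hyxn : (y * x) ^ n = i := by rw [hyx, inv_pow, ← hi, hiinv]
    have hi1 : i ≠ 1 := fun h => by
      have h1 := orderOf_dvd_of_pow_eq_one (x := u) (n := n) (by rw [← hi, h])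
      have h2 := orderOf_pos u
      have h3 := Nat.le_of_dvd (by omega) h1
      omega
    have hiu : u * i = i * u := by rw [hi, ← pow_succ', ← pow_succ]
    have hix : x * i = i * x := by
      have h1 : x * u * x⁻¹ = u⁻¹ := by
        rw [hu, mul_inv_rev, inv_eq_of_mul_eq_one_right hyy, inv_eq_of_mul_eq_one_right hxx, ← mul_assoc, hxx, one_mul]
      have h2 : (x * u * x⁻¹) ^ n = x * i * x⁻¹ := conj_pow
      rw [h1, inv_pow, ← hi, hiinv] at h2
      exact mul_inv_eq_iff_eq_mul.mp h2.symm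
    have hiy : y * i = i * y := by
      have h1 : y = x * u := by rw [hu, ← mul_assoc, hxx, one_mul]
      rw [h1, mul_assoc, hiu, ← mul_assoc, hix, mul_assoc]
    rcases Nat.even_or_odd n with ⟨j, hj⟩ | ⟨j, hj⟩
    · -- both `x i` and `y i` are conjugate to their partners
      exfalso
      have hn2 : n = 2 * j := by omega
      have h1 : CW G0 (W.z1 F) (x * i) := by rw [hi, hn2]; exact hA j
      have h2 : CW G0 (W.z2 F) (y * i) := by rw [← hyxn, hn2]; exact hB j
      have hne : ∀ w : G, w ≠ w * i := fun w h => hi1 (mul_eq_left.mp h.symm)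
      have hpr : ∀ w : G, w * w = 1 → w * (w * i) = i := fun w hw => by rw [← mul_assoc, hw, one_mul]
      obtain ⟨γ, hγ, hγ1, hγc⟩ := H.pair1 F hx h1 (by rw [mul_assoc, ← hix]) (hne x)
      obtain ⟨δ, hδ, hδ1, hδc⟩ := H.pair2 F hy h2 (by rw [mul_assoc, ← hiy]) (hne y)
      rw [hpr x hxx] at hγc
      rw [hpr y hyy] at hδc
      exact H.not_cross_types F hγ hγ1 hδ hδ1 (hγc.symm.trans hδc)
    · -- `x i` is conjugate to `y`
      have h1 : CW G0 (W.z1 F) (y * i) := by
        have h := hA (j + 1)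
        rw [show 2 * (j + 1) = n + 1 by omega, pow_succ, ← hi, hu] at h
        convert h using 1
        rw [← mul_assoc, hix, ← mul_assoc, mul_assoc i x x, hxx, mul_one, hiy]
      have h2 : CW G0 (W.z2 F) (x * i) := by
        have h := hB (j + 1)
        rw [show 2 * (j + 1) = n + 1 by omega, pow_succ, hyxn] at h
        convert h using 1
        rw [← mul_assoc, hiy, ← mul_assoc, mul_assoc i y y, hyy, mul_one, hix]
      have hyi : y * (y * i) = y * i * y := by rw [mul_assoc, ← hiy]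
      obtain ⟨g, hg, p, q, hp, hq⟩ := H.conj_pair F.S_two hyG (G0.mul_mem hyG (pow_mem huG n)) hyy
        (by calc y * i * (y * i) = y * (i * y) * i := by group
              _ = (y * y) * (i * i) := by rw [← hiy]; group
              _ = 1 := by rw [hyy, hii, one_mul]) hyi
      have tp := H.type_z2 F (hy.trans ⟨g, hg, hp⟩)
      have tq := H.type_z1 F (h1.trans ⟨g, hg, hq⟩)
      have he : g * i * g⁻¹ = W.ι (q.1, p.2) := by
        calc g * i * g⁻¹ = g * (y * y * i) * g⁻¹ := by rw [hyy, one_mul]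
          _ = (g * y * g⁻¹) * (g * (y * i) * g⁻¹) := by group
          _ = _ := by rw [hp, hq, ← map_mul]; exact congrArg W.ι (Prod.ext (by simp [tp.1]) (by simp [tq.2]))
      have hsq : ((q.1, p.2) : S × S) * (q.1, p.2) = 1 := W.inj (by
        rw [map_mul, map_one, ← he]
        calc g * i * g⁻¹ * (g * i * g⁻¹) = g * (i * i) * g⁻¹ := by group
          _ = 1 := by rw [hii]; group)
      obtain ⟨k, hk, hki⟩ := (CW.trans ⟨g, hg, he⟩ (H.cw_of_fuse (congrArg Prod.fst hsq) (congrArg Prod.snd hsq)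
        (a' := F.zS) (c' := F.zS) tq.1 tp.2) : CW G0 i (W.za F))
      have hcx : ∀ w : G, w * i = i * w → k * w * k⁻¹ * W.za F = W.za F * (k * w * k⁻¹) := fun w hw => by
        rw [← hki]
        calc k * w * k⁻¹ * (k * i * k⁻¹) = k * (w * i) * k⁻¹ := by group
          _ = k * (i * w) * k⁻¹ := by rw [hw]
          _ = _ := by group
      have hmul : ∀ w : G, k * (w * i) * k⁻¹ = k * w * k⁻¹ * W.za F := fun w => by rw [← hki]; group
      have hconjz : ∀ {c w : G}, CW G0 c w → CW G0 c (k * w * k⁻¹) := fun h => h.trans ⟨k, hk, rfl⟩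
      have hX : k * x * k⁻¹ = W.z1 F :=
        H.unique F E (hconjz hx) (hcx x hix) (hmul x ▸ hconjz h2)
      have hY : C.t * (k * y * k⁻¹) * C.t = W.z1 F := by
        refine H.unique F E (H.cl2_flip F (hconjz hy)) ?_ ?_
        · conv_lhs => rw [← W.t_za F]
          conv_rhs => rw [← W.t_za F]
          rw [mul_assoc C.t (W.za F) C.t, mul_assoc (C.t * (k * y * k⁻¹)), C.tt,
            mul_assoc C.t (k * y * k⁻¹) C.t, mul_assoc C.t (W.za F * C.t), mul_assoc (W.za F), C.tt,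
            mul_assoc C.t, ← mul_assoc (k * y * k⁻¹), hcx y hiy, mul_assoc]
        · have h3 := H.flip_cw (hmul y ▸ hconjz h1)
          rw [W.t_z1 F] at h3
          convert h3 using 1
          conv_lhs => rw [← W.t_za F]
          rw [mul_assoc C.t (W.za F) C.t, mul_assoc (C.t * (k * y * k⁻¹)), C.tt]; group
      have hY2 : k * y * k⁻¹ = W.z2 F := by
        rw [← W.t_z1 F, ← hY, ← mul_assoc C.t (C.t * (k * y * k⁻¹)) C.t, C.tt, mul_assoc (k * y * k⁻¹), C.t_sq,
          mul_one]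
      have hcomm : k * x * k⁻¹ * (k * y * k⁻¹) = k * y * k⁻¹ * (k * x * k⁻¹) := by
        rw [hX, hY2, z1, z2, ← map_mul, ← map_mul]; simp
      calc x * y = k⁻¹ * (k * x * k⁻¹ * (k * y * k⁻¹)) * k := by group
        _ = k⁻¹ * (k * y * k⁻¹ * (k * x * k⁻¹)) * k := by rw [hcomm]
        _ = _ := by group
  · exfalso
    refine H.z1_not_cw_z2 F ?_
    have h := hA (n + 1)
    rw [show 2 * (n + 1) = orderOf u + 1 by omega, pow_succ, pow_orderOf_eq_one, one_mul, hu, ← mul_assoc, hxx,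
      one_mul] at h
    exact h.trans hy.symm

/-- No such configuration sits in a group with a simple normal subgroup containing `M`. -/
theorem false_of_simple (L0 : Subgroup G) (hn : L0.Normal) (hs : IsSimpleGroup L0) (hna : ¬ IsMulCommutative L0)
    (hM : ∀ m, C.e m ∈ L0) : False := by
  let K1 : Subgroup G := Subgroup.closure {x | CW G0 (W.z1 F) x}
  let K2 : Subgroup G := Subgroup.closure {x | CW G0 (W.z2 F) x}
  have hcomm : ∀ a ∈ K1, ∀ c ∈ K2, a * c = c * a := by
    intro a ha c hc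
    have h1 : K1 ≤ Subgroup.centralizer (K2 : Set G) := by
      rw [Subgroup.closure_le]
      intro x hx
      rw [SetLike.mem_coe, Subgroup.centralizer_closure, Subgroup.mem_centralizer_iff]
      exact fun y hy => (H.classes_commute F E hx hy).symm
    exact (Subgroup.mem_centralizer_iff.mp (h1 ha) c hc).symm
  have hconj : ∀ g ∈ G0, ∀ a ∈ K1, g * a * g⁻¹ ∈ K1 := by
    intro g hg a ha
    have hle : K1 ≤ K1.comap (MulAut.conj g).toMonoidHom := by
      rw [Subgroup.closure_le]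
      exact fun x hx => Subgroup.subset_closure (hx.trans ⟨g, hg, rfl⟩)
    exact hle ha
  have hflip : ∀ a ∈ K1, C.t * a * C.t ∈ K2 := by
    intro a ha
    have hle : K1 ≤ K2.comap (MulAut.conj C.t).toMonoidHom := by
      rw [Subgroup.closure_le]
      intro x hx
      have h := H.flip_cw hx
      rw [W.t_z1 F] at h
      refine Subgroup.subset_closure ?_
      show CW G0 (W.z2 F) (C.t * x * C.t⁻¹)
      rwa [C.t_inv]
    have := hle ha
    rwa [Subgroup.mem_comap, MulEquiv.coe_toMonoidHom, MulAut.conj_apply, C.t_inv] at this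
  have hez : C.e z ≠ 1 := fun h => F.z_ne_one (C.inj (h.trans (map_one _).symm))
  have hL0 : L0 ≤ G0 := by
    haveI := hs
    haveI := H.normal
    rcases Subgroup.Normal.eq_bot_or_eq_top (inferInstance : (G0.subgroupOf L0).Normal) with h | h
    · exfalso
      have h2 : (⟨C.e z, hM z⟩ : L0) ∈ G0.subgroupOf L0 := H.e_mem F z
      rw [h, Subgroup.mem_bot] at h2
      exact hez (congrArg Subtype.val h2)
    · exact Subgroup.subgroupOf_eq_top.mp h
  have hK : (K1.subgroupOf L0).Normal := ⟨fun a ha g => by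
    rw [Subgroup.mem_subgroupOf] at ha ⊢
    exact hconj g (hL0 g.2) a ha⟩
  haveI := hs
  rcases hK.eq_bot_or_eq_top with h | h
  · -- `z₁` centralises `L0`, hence so does `z₁ z₂`
    have hz1 : ∀ l ∈ L0, W.z1 F * l = l * W.z1 F := by
      intro l hl
      have h1 : W.z1 F ∈ K1 := Subgroup.subset_closure (CW.refl _ _)
      have hm : W.z1 F * l * (W.z1 F)⁻¹ * l⁻¹ ∈ K1 := by
        have := K1.mul_mem h1 (hconj l (hL0 hl) _ (K1.inv_mem h1))
        convert this using 1; group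
      have hmL : W.z1 F * l * (W.z1 F)⁻¹ * l⁻¹ ∈ L0 := L0.mul_mem (hn.conj_mem l hl _) (L0.inv_mem hl)
      have h2 : (⟨_, hmL⟩ : L0) ∈ K1.subgroupOf L0 := hm
      rw [h, Subgroup.mem_bot] at h2
      have h3 : W.z1 F * l * (W.z1 F)⁻¹ * l⁻¹ = 1 := congrArg Subtype.val h2
      calc W.z1 F * l = (W.z1 F * l * (W.z1 F)⁻¹ * l⁻¹) * l * W.z1 F := by group
        _ = _ := by rw [h3, one_mul]
    have hz2 : ∀ l ∈ L0, W.z2 F * l = l * W.z2 F := by
      intro l hl
      have hl' : C.t * l * C.t ∈ L0 := by have := hn.conj_mem l hl C.t; rwa [C.t_inv] at this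
      rw [← W.t_z1 F]
      calc C.t * W.z1 F * C.t * l = C.t * (W.z1 F * (C.t * l * C.t)) * C.t := by
            rw [← mul_assoc (W.z1 F), mul_assoc C.t (W.z1 F * (C.t * l) * C.t)]
            rw [mul_assoc (W.z1 F * (C.t * l)) C.t C.t, C.t_sq, mul_one]; group
        _ = C.t * ((C.t * l * C.t) * W.z1 F) * C.t := by rw [hz1 _ hl']
        _ = (C.t * C.t) * l * (C.t * W.z1 F * C.t) := by group
        _ = _ := by rw [C.t_sq, one_mul]
    have hc : z ∈ Subgroup.center M := Subgroup.mem_center_iff.mpr fun x => C.inj (by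
      rw [map_mul, map_mul, ← W.za_eq F, ← W.z1_mul_z2 F, mul_assoc, hz2 _ (hM x), ← mul_assoc (W.z1 F),
        hz1 _ (hM x), mul_assoc])
    rw [E.center, Subgroup.mem_bot] at hc
    exact F.z_ne_one hc
  · refine hna ⟨⟨fun a c => Subtype.ext ?_⟩⟩
    have hL1 : L0 ≤ K1 := Subgroup.subgroupOf_eq_top.mp h
    refine hcomm a (hL1 a.2) c ?_
    have hc' : C.t * (c : G) * C.t ∈ L0 := by
      have := hn.conj_mem (c : G) c.2 C.t; rwa [C.t_inv] at this
    have := hflip _ (hL1 hc')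
    rwa [← mul_assoc C.t (C.t * (c : G)) C.t, C.tt, mul_assoc, C.t_sq, mul_one] at this

end Even

/-- The end game. -/
theorem not_exists (E : Exact C) (F : Facts24 V U S z b) (W : Wreath C S) (L0 : Subgroup G) (hn : L0.Normal)
    (hs : IsSimpleGroup L0) (hna : ¬ IsMulCommutative L0) (hM : ∀ m, C.e m ∈ L0) : False := by
  obtain ⟨G0, H⟩ := W.exists_even E F
  exact H.false_of_simple F E L0 hn hs hna hM

end Wreath

end Cfsg.Lib.StdWreath
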