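import Cfsg.Agent.StdWreath.Lift
import Cfsg.Agent.StdWreath.End

/-!
The degree-24 configuration with fused involution cannot sit in a group with a simple normal subgroup containing `M`.
-/

set_option autoImplicit false
set_option linter.unusedSectionVars false

namespace Cfsg.Lib.StdWreath

universe u v

variable {G : Type u} {M : Type v} [Group G] [Group M] [Finite G] [Finite M] {C : Cfg G M} {V U S : Subgroup M}
  {z b : M}

theorem Facts24.U_fusion (F : Facts24 V U S z b) :
    ∀ u ∈ U, ∀ u' ∈ U, IsConj u u' → ∃ g ∈ Subgroup.normalizer (U : Set M), g * u * g⁻¹ = u' := by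
  intro u hu u' hu' huu
  by_cases hu1 : u = 1
  · subst hu1
    refine ⟨1, Subgroup.one_mem _, ?_⟩
    obtain ⟨k, hk⟩ := isConj_iff.mp huu
    rw [← hk]; group
  have hu1' : u' ≠ 1 := fun h => hu1 (by
    obtain ⟨k, hk⟩ := isConj_iff.mp huu
    rw [h] at hk
    calc u = k⁻¹ * (k * u * k⁻¹) * k := by group
      _ = 1 := by rw [hk]; group)
  obtain ⟨n, hn, h⟩ := F.U_orbits u hu hu1
  obtain ⟨m, hm, h'⟩ := F.U_orbits u' hu' hu1'
  have key : n * u * n⁻¹ = m * u' * m⁻¹ := by
    have hc : IsConj (n * u * n⁻¹) (m * u' * m⁻¹) :=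
      (isConj_iff.mpr ⟨n, rfl⟩ : IsConj u (n * u * n⁻¹)).symm.trans
        (huu.trans (isConj_iff.mpr ⟨m, rfl⟩ : IsConj u' (m * u' * m⁻¹)))
    rcases h with h | h <;> rcases h' with h' | h' <;> rw [h, h'] at hc ⊢
    · exact absurd hc.symm F.b_not_conj
    · exact absurd hc F.b_not_conj
  refine ⟨m⁻¹ * n, Subgroup.mul_mem _ (Subgroup.inv_mem _ hm) hn, ?_⟩
  calc m⁻¹ * n * u * (m⁻¹ * n)⁻¹ = m⁻¹ * (n * u * n⁻¹) * m := by group
    _ = u' := by rw [key]; group

/-- No exact configuration over degree 24 with fused involution inside a simple normal subgroup. -/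
theorem false_twentyFour (E : Exact C) (F : Facts24 V U S z b) (hfus : ∃ m, m ≠ 1 ∧ Fused C m) (L0 : Subgroup G)
    (hn : L0.Normal) (hs : IsSimpleGroup L0) (hna : ¬ IsMulCommutative L0) (hM : ∀ m, C.e m ∈ L0) : False := by
  have hV := ctx_V E F hfus
  obtain ⟨K, hK⟩ := exists_prod E.loc F.toFrame hV
  obtain ⟨W⟩ := K.exists_wreath F.toFrame E.loc hK hV F.U_fusion
  exact W.not_exists E F L0 hn hs hna hM

end Cfsg.Lib.StdWreath
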