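import Cfsg.Agent.StdWreath.TranslThree

/-!
The doubled module `{s a · e b}` over `X`: the translation group, once it is elementary, split equivariantly.
-/

set_option autoImplicit false
set_option linter.unusedSectionVars false

namespace Cfsg.Lib.StdWreath

universe u v

variable {G : Type u} {M : Type v} [Group G] [Group M]

/-- An equivariant elementary section `s` of the translations over `X`: `t` maps `s x` to `s x · e x`. -/
structure Dbl (C : Cfg G M) (X : Subgroup M) where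
  s : M → G
  add : AddOn X s
  sq : ∀ x ∈ X, s x * s x = 1
  tau : ∀ x ∈ X, s x * C.t * (s x)⁻¹ = C.t * C.e x
  comm : ∀ x ∈ X, ∀ y ∈ X, s x * s y = s y * s x
  X_comm : ∀ x ∈ X, ∀ y ∈ X, s x * C.e y = C.e y * s x
  D_comm : ∀ x ∈ X, ∀ d ∈ C.D, d * s x = s x * d
  equiv : ∀ n ∈ Subgroup.normalizer (X : Set M), ∀ x ∈ X, C.e n * s x * (C.e n)⁻¹ = s (n * x * n⁻¹)

namespace Dbl

variable {C : Cfg G M} {X : Subgroup M} (B : Dbl C X)

theorem s_inv {x : M} (hx : x ∈ X) : (B.s x)⁻¹ = B.s x := inv_eq_of_mul_eq_one_right (B.sq x hx)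

theorem s_one : B.s 1 = 1 := by
  have h := B.add 1 X.one_mem 1 X.one_mem
  rw [one_mul] at h
  exact mul_eq_left.mp h.symm

theorem flip {x : M} (hx : x ∈ X) : C.t * B.s x * C.t = B.s x * C.e x := by
  have h := B.tau x hx
  rw [B.s_inv hx] at h
  calc C.t * B.s x * C.t = C.t * (B.s x * C.t) * (B.s x * B.s x) := by rw [B.sq x hx, mul_one, mul_assoc]
    _ = C.t * (B.s x * C.t * B.s x) * B.s x := by group
    _ = C.e x * B.s x := by rw [h, C.tt]
    _ = B.s x * C.e x := (B.X_comm x hx x hx).symm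

theorem sq_e (hX : Cfsg.IsElementaryAbelian 2 X) {x : M} (hx : x ∈ X) : C.e x * C.e x = 1 := by
  rw [← map_mul, ← pow_two, hX.2 x hx, map_one]

/-- The other section `x ↦ s x · e x`. -/
def swap (hX : Cfsg.IsElementaryAbelian 2 X) : Dbl C X where
  s x := B.s x * C.e x
  add := fun x hx y hy => by
    show B.s (x * y) * C.e (x * y) = B.s x * C.e x * (B.s y * C.e y)
    rw [B.add x hx y hy, map_mul]
    calc B.s x * B.s y * (C.e x * C.e y) = B.s x * (B.s y * C.e x) * C.e y := by group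
      _ = B.s x * C.e x * (B.s y * C.e y) := by rw [B.X_comm y hy x hx]; group
  sq := fun x hx => by
    calc B.s x * C.e x * (B.s x * C.e x) = B.s x * (C.e x * B.s x) * C.e x := by group
      _ = B.s x * B.s x * (C.e x * C.e x) := by rw [← B.X_comm x hx x hx]; group
      _ = 1 := by rw [B.sq x hx, sq_e hX hx, mul_one]
  tau := fun x hx => by
    have h1 : C.e x * C.t * (C.e x)⁻¹ = C.t := by rw [← C.t_comm, mul_inv_cancel_right]
    calc B.s x * C.e x * C.t * (B.s x * C.e x)⁻¹ = B.s x * (C.e x * C.t * (C.e x)⁻¹) * (B.s x)⁻¹ := by group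
      _ = C.t * C.e x := by rw [h1, B.tau x hx]
  comm := fun x hx y hy => by
    have hxy : C.e x * C.e y = C.e y * C.e x := by
      rw [← map_mul, ← map_mul]
      exact congrArg C.e (congrArg Subtype.val (hX.1.is_comm.comm (⟨x, hx⟩ : X) ⟨y, hy⟩))
    calc B.s x * C.e x * (B.s y * C.e y) = B.s x * (C.e x * B.s y) * C.e y := by group
      _ = B.s x * B.s y * (C.e x * C.e y) := by rw [← B.X_comm y hy x hx]; group
      _ = B.s y * (B.s x * C.e y) * C.e x := by rw [B.comm x hx y hy, hxy]; group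
      _ = _ := by rw [B.X_comm x hx y hy]; group
  X_comm := fun x hx y hy => by
    have hxy : C.e x * C.e y = C.e y * C.e x := by
      rw [← map_mul, ← map_mul]
      exact congrArg C.e (congrArg Subtype.val (hX.1.is_comm.comm (⟨x, hx⟩ : X) ⟨y, hy⟩))
    rw [mul_assoc, hxy, ← mul_assoc, B.X_comm x hx y hy, mul_assoc]
  D_comm := fun x hx d hd => by
    rw [← mul_assoc, B.D_comm x hx d hd, mul_assoc, C.D_comm d hd, ← mul_assoc]
  equiv := fun n hn x hx => by
    rw [← C.e_conj, ← B.equiv n hn x hx]; group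

theorem swap_s (hX : Cfsg.IsElementaryAbelian 2 X) (x : M) : (B.swap hX).s x = B.s x * C.e x := rfl

/-- The doubled module as a subgroup. -/
def W (hX : Cfsg.IsElementaryAbelian 2 X) : Subgroup G where
  carrier := {g | ∃ a ∈ X, ∃ b ∈ X, g = B.s a * C.e b}
  one_mem' := ⟨1, X.one_mem, 1, X.one_mem, by rw [B.s_one, map_one, mul_one]⟩
  mul_mem' := by
    rintro g k ⟨a, ha, b, hb, rfl⟩ ⟨a', ha', b', hb', rfl⟩
    refine ⟨a * a', X.mul_mem ha ha', b * b', X.mul_mem hb hb', ?_⟩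
    rw [B.add a ha a' ha', map_mul]
    calc B.s a * C.e b * (B.s a' * C.e b') = B.s a * (C.e b * B.s a') * C.e b' := by group
      _ = _ := by rw [← B.X_comm a' ha' b hb]; group
  inv_mem' := by
    rintro g ⟨a, ha, b, hb, rfl⟩
    refine ⟨a, ha, b, hb, ?_⟩
    rw [mul_inv_rev, B.s_inv ha, inv_eq_of_mul_eq_one_right (sq_e hX hb), B.X_comm a ha b hb]

theorem mem_W (hX : Cfsg.IsElementaryAbelian 2 X) {g : G} :
    g ∈ B.W hX ↔ ∃ a ∈ X, ∃ b ∈ X, g = B.s a * C.e b := Iff.rfl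

theorem s_mem_W (hX : Cfsg.IsElementaryAbelian 2 X) {a : M} (ha : a ∈ X) : B.s a ∈ B.W hX :=
  ⟨a, ha, 1, X.one_mem, by rw [map_one, mul_one]⟩

theorem e_mem_W (hX : Cfsg.IsElementaryAbelian 2 X) {b : M} (hb : b ∈ X) : C.e b ∈ B.W hX :=
  ⟨1, X.one_mem, b, hb, by rw [B.s_one, one_mul]⟩

theorem t_flip_mk {a b : M} (ha : a ∈ X) : C.t * (B.s a * C.e b) * C.t = B.s a * C.e a * C.e b := by
  calc C.t * (B.s a * C.e b) * C.t = C.t * B.s a * (C.e b * C.t) := by group
    _ = C.t * B.s a * C.t * C.e b := by rw [← C.t_comm]; group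
    _ = _ := by rw [B.flip ha]

theorem coord_eq (hX : Cfsg.IsElementaryAbelian 2 X) {a b a' b' : M} (ha : a ∈ X) (hb : b ∈ X) (ha' : a' ∈ X)
    (hb' : b' ∈ X) (h : B.s a * C.e b = B.s a' * C.e b') : a = a' ∧ b = b' := by
  have key : ∀ p ∈ X, ∀ q : M, B.s p * C.e q * C.t * (B.s p * C.e q)⁻¹ = C.t * C.e p := fun p hp q => by
    have h1 : C.e q * C.t * (C.e q)⁻¹ = C.t := by rw [← C.t_comm, mul_inv_cancel_right]
    calc B.s p * C.e q * C.t * (B.s p * C.e q)⁻¹ = B.s p * (C.e q * C.t * (C.e q)⁻¹) * (B.s p)⁻¹ := by group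
      _ = _ := by rw [h1, B.tau p hp]
  have hA : a = a' := by
    have h1 := key a ha b
    rw [h, key a' ha' b'] at h1
    exact (C.inj (mul_left_cancel h1)).symm
  exact ⟨hA, C.inj (mul_left_cancel (a := B.s a) (by rw [h, hA]))⟩

/-- 2-elements centralising the doubled module lie in it. -/
theorem mem_W_of_centralizes [Finite G] (h : TCtx C X) {g : G} {k : ℕ} (hgk : g ^ 2 ^ k = 1)
    (hgc : ∀ w ∈ B.W h.elem, g * w = w * g) : g ∈ B.W h.elem := by
  classical
  set W := B.W h.elem with hW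
  have hWsq : ∀ w ∈ W, w * w = 1 := by
    rintro w ⟨a, ha, b, hb, rfl⟩
    calc B.s a * C.e b * (B.s a * C.e b) = B.s a * (C.e b * B.s a) * C.e b := by group
      _ = B.s a * B.s a * (C.e b * C.e b) := by rw [← B.X_comm a ha b hb]; group
      _ = 1 := by rw [B.sq a ha, sq_e h.elem hb, mul_one]
  set H := Subgroup.normalizer (W : Set G) with hH
  have htH : C.t ∈ H := by
    have hh : ∀ w ∈ W, C.t * w * C.t⁻¹ ∈ W := by
      rintro w ⟨a, ha, b, hb, rfl⟩
      rw [C.t_inv, B.t_flip_mk ha, mul_assoc]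
      exact W.mul_mem (B.s_mem_W h.elem ha) (W.mul_mem (B.e_mem_W h.elem ha) (B.e_mem_W h.elem hb))
    refine Subgroup.mem_normalizer_iff.mpr fun w => ⟨hh w, fun hw => ?_⟩
    have := hh _ hw
    rw [C.t_inv] at this
    have he : C.t * (C.t * w * C.t) * C.t = w := by rw [← mul_assoc, C.tt, mul_assoc, C.t_sq, mul_one]
    rwa [he] at this
  haveI : (W.subgroupOf H).Normal := Subgroup.normal_in_normalizer
  have hWH : W ≤ H := Subgroup.le_normalizer
  have hW2 : IsPGroup 2 (W.subgroupOf H) := fun x => ⟨1, Subtype.ext (Subtype.ext (by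
    simp only [pow_one, pow_two, Subgroup.coe_mul, Subgroup.coe_one]
    exact hWsq _ x.2))⟩
  have ht2 : IsPGroup 2 (Subgroup.zpowers (⟨C.t, htH⟩ : H)) := by
    apply IsPGroup.of_card (n := 1)
    rw [Nat.card_zpowers, pow_one]
    exact orderOf_eq_prime (Subtype.ext (by rw [pow_two]; exact C.t_sq)) fun h1 => C.t_ne (congrArg Subtype.val h1)
  obtain ⟨Q, hQ⟩ := (IsPGroup.to_sup_of_normal_left hW2 ht2).exists_le_sylow
  have hgH : g ∈ H := Subgroup.mem_normalizer_iff.mpr fun w => by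
    constructor
    · intro hw; rw [hgc w hw, mul_inv_cancel_right]; exact hw
    · intro hw
      have := hgc _ hw
      have he : g * (g * w * g⁻¹) * g⁻¹ = g * w * g⁻¹ := by rw [this, mul_inv_cancel_right]
      have : w = g * w * g⁻¹ := by
        have h2 := congrArg (fun x => g⁻¹ * x * g) he
        simpa [mul_assoc] using h2.symm
      rwa [this]
  have hg2 : IsPGroup 2 (Subgroup.zpowers (⟨g, hgH⟩ : H)) := by
    rintro ⟨x, hx⟩
    obtain ⟨i, rfl⟩ := Subgroup.mem_zpowers_iff.mp hx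
    refine ⟨k, Subtype.ext (Subtype.ext ?_)⟩
    simp only [Subgroup.coe_pow, Subgroup.coe_zpow, Subgroup.coe_one]
    rw [← zpow_natCast, ← zpow_mul, mul_comm, zpow_mul, zpow_natCast, hgk, one_zpow]
  obtain ⟨R, hR⟩ := hg2.exists_le_sylow
  obtain ⟨⟨c, hcH⟩, hc⟩ := MulAction.exists_smul_eq H R Q
  have hgQ : (⟨c, hcH⟩ : H) * ⟨g, hgH⟩ * (⟨c, hcH⟩ : H)⁻¹ ∈ (Q : Subgroup H) := by
    rw [← hc, Sylow.coe_subgroup_smul]
    exact Subgroup.smul_mem_pointwise_smul _ _ _ (hR (Subgroup.mem_zpowers _))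
  suffices hP : ∀ x : H, x ∈ (Q : Subgroup H) → (∀ w ∈ W, (x : G) * w = w * x) → (x : G) ∈ W by
    have hcW : ∀ w ∈ W, c * g * c⁻¹ * w = w * (c * g * c⁻¹) := fun w hw => by
      have hw' : c⁻¹ * w * c ∈ W := (Subgroup.mem_normalizer_iff''.mp hcH w).mp hw
      calc c * g * c⁻¹ * w = c * (g * (c⁻¹ * w * c)) * c⁻¹ := by group
        _ = c * ((c⁻¹ * w * c) * g) * c⁻¹ := by rw [hgc _ hw']
        _ = _ := by group
    exact (Subgroup.mem_normalizer_iff.mp hcH g).mpr (hP _ hgQ hcW)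
  intro x hxQ hxc
  by_contra hxW
  have htQ : (⟨C.t, htH⟩ : H) ∈ (Q : Subgroup H) :=
    hQ (Subgroup.mem_sup_right (Subgroup.mem_zpowers _))
  have hWQ : ∀ w (hw : w ∈ W), (⟨w, hWH hw⟩ : H) ∈ (Q : Subgroup H) := fun w hw =>
    hQ (Subgroup.mem_sup_left hw)
  -- a coset fixed by `t`
  obtain ⟨y, hyQ, hyc, hyW, hyfix⟩ : ∃ y : H, y ∈ (Q : Subgroup H) ∧ (∀ w ∈ W, (y : G) * w = w * y) ∧
      (y : G) ∉ W ∧ (y : G)⁻¹ * (C.t * y * C.t) ∈ W := by
    by_cases h1 : (x : G)⁻¹ * (C.t * x * C.t) ∈ W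
    · exact ⟨x, hxQ, hxc, hxW, h1⟩
    set y : H := x⁻¹ * (⟨C.t, htH⟩ * x * ⟨C.t, htH⟩) with hy
    have hyv : (y : G) = (x : G)⁻¹ * (C.t * x * C.t) := rfl
    have hyQ : y ∈ (Q : Subgroup H) := mul_mem (inv_mem hxQ) (mul_mem (mul_mem htQ hxQ) htQ)
    have hyinv : C.t * (y : G) * C.t = (y : G)⁻¹ := by
      rw [hyv, mul_inv_rev, mul_inv_rev, mul_inv_rev, inv_inv, C.t_inv]
      calc C.t * ((x : G)⁻¹ * (C.t * x * C.t)) * C.t = C.t * (x : G)⁻¹ * C.t * x * (C.t * C.t) := by group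
        _ = _ := by rw [C.t_sq]; group
    have hxc' : ∀ w ∈ W, (y : G) * w = w * y := fun w hw => by
      have htw : C.t * w * C.t ∈ W := by
        have := (Subgroup.mem_normalizer_iff.mp htH w).mp hw
        rwa [C.t_inv] at this
      have h2 := hxc _ htw
      have h3 : (x : G)⁻¹ * w = w * (x : G)⁻¹ := by
        rw [← mul_inv_eq_iff_eq_mul, inv_inv, mul_assoc, ← hxc w hw, inv_mul_cancel_left]
      rw [hyv]
      calc (x : G)⁻¹ * (C.t * x * C.t) * w = (x : G)⁻¹ * (C.t * x * (C.t * w * C.t)) * C.t := by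
            have := C.t_sq; calc _ = (x : G)⁻¹ * (C.t * x * (C.t * w)) * (C.t * C.t) := by rw [this]; group
              _ = _ := by group
        _ = (x : G)⁻¹ * (C.t * (C.t * w * C.t) * x) * C.t := by rw [mul_assoc C.t (x : G), h2]; group
        _ = (x : G)⁻¹ * w * (C.t * x * C.t) := by
            rw [show C.t * (C.t * w * C.t) = w * C.t by rw [← mul_assoc, C.tt]]; group
        _ = _ := by rw [h3, mul_assoc]
    obtain ⟨N, hN⟩ := Q.isPGroup' ⟨y, hyQ⟩
    have hyN : (y : G) ^ 2 ^ N = 1 := by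
      have := congrArg (fun z : (Q : Subgroup H) => ((z : H) : G)) hN
      simpa using this
    have hex : ∃ i, (y : G) ^ 2 ^ i ∈ W := ⟨N, by rw [hyN]; exact W.one_mem⟩
    obtain ⟨i, hi, hmin⟩ : ∃ i, (y : G) ^ 2 ^ i ∈ W ∧ ∀ j < i, (y : G) ^ 2 ^ j ∉ W :=
      ⟨Nat.find hex, Nat.find_spec hex, fun j hj => Nat.find_min hex hj⟩
    rcases i with _ | i
    · rw [pow_zero, pow_one] at hi; exact absurd hi h1
    refine ⟨y ^ 2 ^ i, pow_mem hyQ _, fun w hw => ?_, hmin i (Nat.lt_succ_self i), ?_⟩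
    · exact Commute.pow_left (hxc' w hw) _
    · have hconj : C.t * (y : G) ^ 2 ^ i * C.t = ((y : G) ^ 2 ^ i)⁻¹ := by
        have h4 : (C.t * (y : G) * C.t⁻¹) ^ 2 ^ i = C.t * (y : G) ^ 2 ^ i * C.t⁻¹ := conj_pow
        rw [C.t_inv, hyinv, inv_pow] at h4
        exact h4.symm
      show ((y : G) ^ 2 ^ i)⁻¹ * (C.t * (y : G) ^ 2 ^ i * C.t) ∈ W
      rw [hconj, ← mul_inv_rev, ← pow_add, ← two_mul, ← pow_succ']
      exact W.inv_mem hi
  -- the fixed coset gives an element of `C(t)`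
  obtain ⟨a, ha, b, hb, hw⟩ := hyfix
  have h1 : C.t * ((y : G)⁻¹ * (C.t * y * C.t)) * C.t = ((y : G)⁻¹ * (C.t * y * C.t))⁻¹ := by
    rw [mul_inv_rev, mul_inv_rev, mul_inv_rev, inv_inv, C.t_inv]
    calc C.t * ((y : G)⁻¹ * (C.t * y * C.t)) * C.t = C.t * (y : G)⁻¹ * C.t * y * (C.t * C.t) := by group
      _ = _ := by rw [C.t_sq]; group
  have hinvW : (B.s a * C.e b)⁻¹ = B.s a * C.e b :=
    inv_eq_of_mul_eq_one_right (hWsq _ ⟨a, ha, b, hb, rfl⟩)
  rw [hw, B.t_flip_mk ha, hinvW, mul_assoc, ← map_mul] at h1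
  have ha1 : a = 1 := mul_eq_right.mp (B.coord_eq h.elem ha (X.mul_mem ha hb) ha hb h1).2
  rw [ha1, B.s_one, one_mul] at hw
  set z := (y : G) * B.s b with hz
  have hzW : z ∉ W := fun hzW => hyW (by
    have := W.mul_mem hzW (B.s_mem_W h.elem hb)
    rwa [hz, mul_assoc, B.sq b hb, mul_one] at this)
  have htz : C.t * z * C.t = z := by
    have h2 : C.t * (y : G) * C.t = y * C.e b := by rw [← hw, mul_inv_cancel_left]
    calc C.t * z * C.t = C.t * (y : G) * (C.t * C.t) * B.s b * C.t := by rw [C.t_sq, mul_one, hz]; group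
      _ = (C.t * (y : G) * C.t) * (C.t * B.s b * C.t) := by group
      _ = (y : G) * (C.e b * B.s b) * C.e b := by rw [h2, B.flip hb]; group
      _ = z := by rw [← B.X_comm b hb b hb, hz, mul_assoc, mul_assoc, sq_e h.elem hb, mul_one]
  have hzc : ∀ w ∈ W, z * w = w * z := fun w hw => by
    have hsw : B.s b * w = w * B.s b := by
      obtain ⟨p, hp, q, hq, rfl⟩ := hw
      rw [← mul_assoc, B.comm b hb p hp, mul_assoc, B.X_comm b hb q hq, ← mul_assoc]
    rw [hz, mul_assoc, hsw, ← mul_assoc, hyc w hw, mul_assoc]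
  have hzt : z * C.t = C.t * z := by
    calc z * C.t = C.t * z * C.t * C.t := by rw [htz]
      _ = _ := by rw [mul_assoc, C.t_sq, mul_one]
  obtain ⟨p, hp, d, hd, hzd⟩ := h.cent z hzt (fun w hw => hzc _ (B.e_mem_W h.elem hw))
  rcases hzd with hzd | hzd
  · -- the `D`-part of a 2-element is trivial
    have hzQ : (y * ⟨B.s b, hWH (B.s_mem_W h.elem hb)⟩ : H) ∈ (Q : Subgroup H) :=
      mul_mem hyQ (hWQ _ (B.s_mem_W h.elem hb))
    obtain ⟨N, hN⟩ := Q.isPGroup' ⟨_, hzQ⟩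
    have hzN : z ^ 2 ^ N = 1 := by
      have := congrArg (fun q : (Q : Subgroup H) => ((q : H) : G)) hN
      simpa [hz] using this
    have hd1 : d = 1 := by
      refine C.D_eq_one hd (k := N + 1) ?_
      have hc' : Commute (C.e p) d := (C.D_comm d hd p).symm
      have h3 : z ^ 2 ^ (N + 1) = 1 := by rw [pow_succ, pow_mul, hzN, one_pow]
      rw [hzd, hc'.mul_pow, pow_succ', pow_mul (C.e p), pow_two, sq_e h.elem hp, one_pow, one_mul,
        ← pow_succ'] at h3
      exact h3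
    rw [hd1, mul_one] at hzd
    exact hzW (hzd ▸ B.e_mem_W h.elem hp)
  · obtain ⟨x0, hx0, hx01⟩ : ∃ x ∈ X, x ≠ 1 := by
      obtain ⟨n, -, x, hx, hne⟩ := h.exists_moved
      exact ⟨x, hx, fun h0 => hne (by rw [h0]; group)⟩
    have h2 := hzc _ (B.s_mem_W h.elem hx0)
    rw [hzd] at h2
    have h3 : C.e p * C.t * B.s x0 = B.s x0 * (C.e p * C.t) := by
      have hc : d * B.s x0 = B.s x0 * d := B.D_comm x0 hx0 d hd
      have : C.e p * C.t * B.s x0 * d = B.s x0 * (C.e p * C.t) * d := by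
        rw [mul_assoc _ (B.s x0), ← hc, ← mul_assoc, h2, ← mul_assoc]
      exact mul_right_cancel this
    rw [← mul_assoc (B.s x0), B.X_comm x0 hx0 p hp, mul_assoc, mul_assoc] at h3
    have h4 : C.t * B.s x0 = B.s x0 * C.t := mul_left_cancel h3
    have h5 := B.flip hx0
    rw [h4, mul_assoc, C.t_sq, mul_one] at h5
    exact hx01 (C.inj (by rw [map_one]; exact mul_eq_left.mp h5.symm))

end Dbl

end Cfsg.Lib.StdWreath
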