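import Cfsg.Agent.StdWreath.EndTypes

/-!
The end game, fifth part: no conjugacy between the two coordinates.
-/

set_option autoImplicit false
set_option linter.unusedSectionVars false

namespace Cfsg.Lib.StdWreath

universe u v

variable {G : Type u} {M : Type v} [Group G] [Group M] {C : Cfg G M} {S : Subgroup M}

theorem exists_sylow_with [Finite G] {H0 P : Subgroup G} {k : G} (hP : IsPGroup 2 P) (hPH : P ≤ H0) (hk : k ∈ H0)
    (hk2 : ∃ n : ℕ, k ^ 2 ^ n = 1) :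
    ∃ R : Subgroup G, IsPGroup 2 R ∧ R ≤ H0 ∧ P ≤ R ∧ ∃ c ∈ H0, c * k * c⁻¹ ∈ R := by
  obtain ⟨n, hn⟩ := hk2
  have hQ : IsPGroup 2 (Subgroup.zpowers k) := by
    rintro ⟨w, hw⟩
    obtain ⟨i, rfl⟩ := Subgroup.mem_zpowers_iff.mp hw
    refine ⟨n, Subtype.ext ?_⟩
    simp only [Subgroup.coe_pow, Subgroup.coe_one]
    rw [← zpow_natCast, ← zpow_mul, mul_comm, zpow_mul, zpow_natCast, hn, one_zpow]
  obtain ⟨P', hP'⟩ := (hP.comap_subtype (H := P) (K := H0)).exists_le_sylow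
  obtain ⟨Q', hQ'⟩ := (hQ.comap_subtype (H := Subgroup.zpowers k) (K := H0)).exists_le_sylow
  obtain ⟨c, hc⟩ := MulAction.exists_smul_eq H0 Q' P'
  refine ⟨(P' : Subgroup H0).map H0.subtype, P'.isPGroup'.map _, Subgroup.map_subtype_le _,
    fun p hp => ⟨⟨p, hPH hp⟩, hP' (show (⟨p, hPH hp⟩ : H0) ∈ P.subgroupOf H0 from hp), rfl⟩, c, c.2,
    ⟨c * ⟨k, hk⟩ * c⁻¹, ?_, rfl⟩⟩
  rw [← hc, Sylow.coe_subgroup_smul]
  exact Subgroup.smul_mem_pointwise_smul _ _ _
    (hQ' (show (⟨k, hk⟩ : H0) ∈ (Subgroup.zpowers k).subgroupOf H0 from Subgroup.mem_zpowers k))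

namespace Wreath

variable {W : Wreath C S} {V U : Subgroup M} {z b : M} [Finite M] [Finite G] {G0 : Subgroup G}

namespace Even

variable (H : W.Even G0) (F : Facts24 V U S z b)
include H F

theorem no_big {P : Subgroup G} (hP : IsPGroup 2 P) (hPG : P ≤ G0)
    (hc : ∀ p ∈ P, p * W.ι (F.bS, 1) = W.ι (F.bS, 1) * p) : Nat.card P < 2 ^ 20 := by
  by_contra hge
  push Not at hge
  set s := W.ι (F.bS, 1) with hs
  have hss : s * s = 1 := by rw [hs, ← map_mul, Prod.mk_mul_mk, F.bS_sq, one_mul, ← Prod.one_eq_mk, map_one]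
  have hs2 : IsPGroup 2 (Subgroup.zpowers s) := by
    rintro ⟨w, hw⟩
    obtain ⟨i, rfl⟩ := Subgroup.mem_zpowers_iff.mp hw
    exact ⟨1, Subtype.ext (by
      rw [pow_one, pow_two, Subgroup.coe_mul, ← (Commute.refl s).mul_zpow, hss, one_zpow, Subgroup.coe_one])⟩
  have hn : Subgroup.zpowers s ≤ Subgroup.normalizer (P : Set G) :=
    (Subgroup.zpowers_le).mpr ((Subgroup.centralizer_le_normalizer _) (Subgroup.mem_centralizer_iff.mpr hc))
  have hsG : Subgroup.zpowers s ≤ G0 := (Subgroup.zpowers_le).mpr (H.T0_le ⟨_, rfl⟩)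
  set P1 := Subgroup.zpowers s ⊔ P with hP1
  have hP12 : IsPGroup 2 P1 := IsPGroup.to_sup_of_normal_right' hs2 hP hn
  have hP1c : ∀ p ∈ P1, p * s = s * p := by
    have hle : P1 ≤ Subgroup.centralizer ({s} : Set G) := sup_le
      ((Subgroup.zpowers_le).mpr (Subgroup.mem_centralizer_singleton_iff.mpr rfl))
      (fun p hp => Subgroup.mem_centralizer_singleton_iff.mpr (hc p hp))
    exact fun p hp => Subgroup.mem_centralizer_singleton_iff.mp (hle hp)
  obtain ⟨k, hk, hkP⟩ := H.conj_into F.S_two hP12 (sup_le hsG hPG)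
  let f : P1 → W.T0 := fun q => ⟨k * q * k⁻¹, hkP q q.2⟩
  have hfi : Function.Injective f := fun a c h =>
    Subtype.ext (mul_left_cancel (mul_right_cancel (congrArg Subtype.val h)))
  have hT0c : Nat.card W.T0 = 2 ^ 20 := by rw [← W.pr_self, W.card_pr le_rfl le_rfl, F.card_S]; norm_num
  have hbij := (Nat.bijective_iff_injective_and_card f).mpr ⟨hfi, le_antisymm (Nat.card_le_card_of_injective f hfi)
    (hT0c.trans_le (hge.trans (Subgroup.card_le_of_le le_sup_right)))⟩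
  have hsP1 : s ∈ P1 := Subgroup.mem_sup_left (Subgroup.mem_zpowers s)
  rcases W.central F (hkP s hsP1) (fun h hh => by
      obtain ⟨q, hq⟩ := hbij.2 ⟨h, hh⟩
      have hqh : k * (q : G) * k⁻¹ = h := congrArg Subtype.val hq
      rw [← hqh]
      calc k * (q : G) * k⁻¹ * (k * s * k⁻¹) = k * ((q : G) * s) * k⁻¹ := by group
        _ = k * (s * q) * k⁻¹ := by rw [hP1c q q.2]
        _ = _ := by group) with h | h
  · refine F.bS_ne (congrArg Prod.fst (W.inj (a₁ := (F.bS, 1)) (a₂ := 1) ?_))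
    rw [map_one, ← hs]
    calc s = k⁻¹ * (k * s * k⁻¹) * k := by group
      _ = 1 := by rw [h]; group
  · exact H.b_not_central F (Or.inl rfl) h (CW.symm ⟨k, hk, rfl⟩)

theorem not_cross : ¬ CW G0 (W.ι (F.bS, 1)) (W.ι (1, F.bS)) := by
  rintro ⟨g, hg, hge⟩
  set s := W.ι (F.bS, 1) with hs
  set h := C.t * g with hh
  have hhs : h * s * h⁻¹ = s := by
    calc h * s * h⁻¹ = C.t * (g * s * g⁻¹) * C.t⁻¹ := by rw [hh]; group
      _ = s := by rw [hge, C.t_inv, W.flip]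
  have hhn : h ∉ G0 := fun hm => H.t_not ((G0.mul_mem_cancel_right hg).mp hm)
  obtain ⟨a, m, hm, hN⟩ := Nat.exists_eq_two_pow_mul_odd (orderOf_pos h).ne'
  obtain ⟨j, rfl⟩ := hm
  have hkn : h ^ (2 * j + 1) ∉ G0 := fun hm => hhn (by
    have h1 : (h * h) ^ j ∈ G0 := pow_mem (Subgroup.mul_self_mem_of_index_two H.index h) j
    rw [pow_succ, pow_mul, pow_two] at hm
    exact (G0.mul_mem_cancel_left h1).mp hm)
  have hkc : h ^ (2 * j + 1) ∈ Subgroup.centralizer ({s} : Set G) :=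
    pow_mem (Subgroup.mem_centralizer_singleton_iff.mpr (mul_inv_eq_iff_eq_mul.mp hhs)) _
  have hsc := H.comm_C0 F (y := 1) (Or.inl rfl)
  obtain ⟨R, hR2, hRs, hCR, c, hc, hcR⟩ := exists_sylow_with (H0 := Subgroup.centralizer ({s} : Set G))
    (W.pr_two F.S_two _ S) (fun p hp => Subgroup.mem_centralizer_singleton_iff.mpr (hsc p hp)) hkc
    ⟨a, by rw [← pow_mul, mul_comm, ← hN, pow_orderOf_eq_one]⟩
  set r := c * h ^ (2 * j + 1) * c⁻¹
  have hrn : r ∉ G0 := fun hm => hkn (by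
    have := H.conj_mem hm c⁻¹
    convert this using 1; simp only [r]; group)
  obtain ⟨Q, hQ⟩ := hR2.exists_le_sylow
  obtain ⟨k, hk⟩ := MulAction.exists_smul_eq G Q ((W.TT_two F.S_two).toSylow
    (show ¬ 2 ∣ W.TT.index from fun hd => by
      refine H.sylow ?_
      have h3 : W.T0.relIndex G0 * G0.index = W.T0.index := Subgroup.relIndex_mul_index H.T0_le
      have h4 : W.T0.relIndex W.TT * W.TT.index = W.T0.index := Subgroup.relIndex_mul_index W.T0_le_TT
      rw [W.relIndex_TT, ← h3, H.index, mul_comm] at h4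
      rwa [← mul_right_cancel₀ two_ne_zero h4]))
  have hkR : ∀ p ∈ R, k * p * k⁻¹ ∈ W.TT := fun p hp => by
    have h1 : k * p * k⁻¹ ∈ (k • Q : Sylow 2 G).1 := by
      rw [Sylow.coe_subgroup_smul]
      exact Subgroup.smul_mem_pointwise_smul _ _ _ (hQ hp)
    rw [hk] at h1
    exact h1
  have hTG : ∀ p ∈ W.TT, p ∈ G0 → p ∈ W.T0 := fun p hp hpG => hp.resolve_right fun h2 =>
    H.t_not ((G0.mul_mem_cancel_left hpG).mp (H.T0_le h2))
  have hsR : s ∈ R := hCR (W.mem_pr.mpr ⟨F.bS, 1,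
    ⟨F.U_le F.b_mem, Subgroup.mem_centralizer_singleton_iff.mpr rfl⟩, S.one_mem, rfl⟩)
  have hsT : k * s * k⁻¹ ∈ W.T0 := hTG _ (hkR s hsR) (H.conj_mem (H.T0_le ⟨_, rfl⟩) k)
  obtain ⟨⟨α, β⟩, hαβ⟩ := hsT
  set A := S ⊓ Subgroup.centralizer ({(α : M)} : Set M)
  set B := S ⊓ Subgroup.centralizer ({(β : M)} : Set M)
  have hDc := W.card_C0 F
  have hlow : 2 ^ 19 ≤ Nat.card (W.pr A B) := by
    rw [← hDc]
    refine Nat.card_le_card_of_injective (fun p : W.C0 (b := b) => (⟨k * p * k⁻¹, ?_⟩ : W.pr A B))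
      (fun p q hpq => Subtype.ext (mul_left_cancel (mul_right_cancel (congrArg Subtype.val hpq))))
    obtain ⟨⟨x, y⟩, hxy⟩ := hTG _ (hkR _ (hCR p.2)) (H.conj_mem (H.T0_le (W.pr_le _ _ p.2)) k)
    have h2 : W.ι (x, y) * W.ι (α, β) = W.ι (α, β) * W.ι (x, y) := by
      rw [hxy, hαβ]
      calc k * (p : G) * k⁻¹ * (k * s * k⁻¹) = k * ((p : G) * s) * k⁻¹ := by group
        _ = k * (s * p) * k⁻¹ := by rw [hsc p p.2]
        _ = _ := by group
    rw [← map_mul, ← map_mul] at h2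
    exact W.mem_pr.mpr ⟨x, y,
      ⟨x.2, Subgroup.mem_centralizer_singleton_iff.mpr (congrArg (fun q : S × S => (q.1 : M)) (W.inj h2))⟩,
      ⟨y.2, Subgroup.mem_centralizer_singleton_iff.mpr (congrArg (fun q : S × S => (q.2 : M)) (W.inj h2))⟩, hxy⟩
  have hup : Nat.card (W.pr A B) < 2 ^ 20 := by
    rw [← cmap_card k⁻¹]
    refine H.no_big F ((W.pr_two F.S_two A B).map (MulAut.conj k⁻¹).toMonoidHom) ?_ ?_
    · intro p hp
      obtain ⟨q, hq, rfl⟩ := mem_cmap.mp hp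
      exact H.conj_mem (H.T0_le (W.pr_le _ _ hq)) _
    · intro p hp
      obtain ⟨q, hq, rfl⟩ := mem_cmap.mp hp
      obtain ⟨x, y, hx, hy, rfl⟩ := W.mem_pr.mp hq
      have h2 : W.ι (x, y) * (k * s * k⁻¹) = k * s * k⁻¹ * W.ι (x, y) := by
        rw [← hαβ, ← map_mul, ← map_mul]
        exact congrArg W.ι (Prod.ext (Subtype.ext (Subgroup.mem_centralizer_singleton_iff.mp hx.2))
          (Subtype.ext (Subgroup.mem_centralizer_singleton_iff.mp hy.2)))
      calc k⁻¹ * W.ι (x, y) * k⁻¹⁻¹ * s = k⁻¹ * (W.ι (x, y) * (k * s * k⁻¹)) * k := by group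
        _ = k⁻¹ * (k * s * k⁻¹ * W.ι (x, y)) * k := by rw [h2]
        _ = _ := by rw [← hs]; group
  -- the two coordinates are conjugate in `S`
  obtain ⟨⟨x, y⟩, hxy⟩ : k * r * k⁻¹ * C.t ∈ W.T0 := (hkR r hcR).resolve_left fun h2 => hrn (by
    have := H.conj_mem (H.T0_le h2) k⁻¹
    convert this using 1; group)
  have hconj : (x : M) * β = α * x := by
    have hrs : r * s = s * r := Subgroup.mem_centralizer_singleton_iff.mp (hRs hcR)
    have h1 : W.ι (x, y) * W.ι (β, α) = W.ι (α, β) * W.ι (x, y) := by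
      rw [← W.flip α β, hxy, hαβ]
      calc k * r * k⁻¹ * C.t * (C.t * (k * s * k⁻¹) * C.t) = k * r * k⁻¹ * (C.t * (C.t * (k * s * k⁻¹))) * C.t := by
            group
        _ = k * (r * s) * k⁻¹ * C.t := by rw [C.tt]; group
        _ = _ := by rw [hrs]; group
    rw [← map_mul, ← map_mul] at h1
    exact congrArg (fun q : S × S => (q.1 : M)) (W.inj h1)
  have hAB : Nat.card A = Nat.card B := by
    rw [← cmap_card (x : M) B]
    refine congrArg (fun K : Subgroup M => Nat.card K) (Subgroup.ext fun w => ?_)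
    constructor
    · rintro ⟨hwS, hwc⟩
      refine mem_cmap.mpr ⟨(x : M)⁻¹ * w * x, ⟨S.mul_mem (S.mul_mem (S.inv_mem x.2) hwS) x.2,
        Subgroup.mem_centralizer_singleton_iff.mpr ?_⟩, by group⟩
      calc (x : M)⁻¹ * w * x * β = (x : M)⁻¹ * w * (x * β) := by group
        _ = (x : M)⁻¹ * (w * α) * x := by rw [hconj]; group
        _ = (x : M)⁻¹ * (α * w) * x := by rw [Subgroup.mem_centralizer_singleton_iff.mp hwc]
        _ = (x : M)⁻¹ * (x * β) * (x : M)⁻¹ * w * x := by rw [hconj]; group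
        _ = _ := by group
    · intro hw
      obtain ⟨v, ⟨hvS, hvc⟩, rfl⟩ := mem_cmap.mp hw
      refine ⟨S.mul_mem (S.mul_mem x.2 hvS) (S.inv_mem x.2), Subgroup.mem_centralizer_singleton_iff.mpr ?_⟩
      calc (x : M) * v * (x : M)⁻¹ * α = x * v * ((x : M)⁻¹ * (α * x)) * (x : M)⁻¹ := by group
        _ = x * (v * β) * (x : M)⁻¹ := by rw [← hconj]; group
        _ = x * (β * v) * (x : M)⁻¹ := by rw [Subgroup.mem_centralizer_singleton_iff.mp hvc]
        _ = (x : M) * β * v * (x : M)⁻¹ := by group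
        _ = _ := by rw [hconj]; group
  obtain ⟨i, hi⟩ := IsPGroup.iff_card.mp (F.S_two.to_le (inf_le_left : A ≤ S))
  rw [W.card_pr inf_le_left inf_le_left, ← hAB, hi, ← pow_add] at hlow hup
  have := (Nat.pow_le_pow_iff_right (by norm_num : 1 < 2)).mp hlow
  have := (Nat.pow_lt_pow_iff_right (by norm_num : 1 < 2)).mp hup
  omega

/-- An involution of type `(γ, 1)` is not conjugate to one of type `(1, δ)`. -/
theorem not_cross_types {γ δ : S} (hγ : γ * γ = 1) (hγ1 : γ ≠ 1) (hδ : δ * δ = 1) (hδ1 : δ ≠ 1) :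
    ¬ CW G0 (W.ι (γ, 1)) (W.ι (1, δ)) := by
  intro h
  obtain ⟨r, hr, hγr⟩ := F.exists_rep hγ
  obtain ⟨r', hr', hδr⟩ := F.exists_rep hδ
  have h2 := ((H.cw_of_fuse hγ (one_mul 1) hγr (IsConj.refl _)).symm.trans h).trans
    (H.cw_of_fuse (one_mul 1) hδ (IsConj.refl _) hδr)
  have hne : ∀ {x q : S}, x ≠ 1 → IsConj (x : M) q → q ≠ 1 := by
    intro x q hx hc hq
    obtain ⟨k, hk⟩ := isConj_iff.mp hc
    rw [hq, Subgroup.coe_one] at hk
    refine hx (Subtype.ext ?_)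
    calc (x : M) = k⁻¹ * (k * x * k⁻¹) * k := by group
      _ = 1 := by rw [hk]; group
  rcases hr with rfl | rfl | rfl
  · exact hne hγ1 hγr rfl
  · rcases hr' with rfl | rfl | rfl
    · exact hne hδ1 hδr rfl
    · exact H.z1_not_cw_z2 F h2
    · exact H.flip_not_central F (Or.inl rfl) (Or.inl rfl) h2
  · rcases hr' with rfl | rfl | rfl
    · exact hne hδ1 hδr rfl
    · exact H.b_not_central F (Or.inl rfl) (Or.inr (Or.inl rfl)) h2.symm
    · exact H.not_cross F h2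

end Even

end Wreath

end Cfsg.Lib.StdWreath
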