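import Cfsg.Agent.StdWreath.EndSylow

/-!
The end game, second part: the subgroup of index 2, conjugacy inside it and the types of its involutions.
-/

set_option autoImplicit false
set_option linter.unusedSectionVars false

namespace Cfsg.Lib.StdWreath

universe u v

variable {G : Type u} {M : Type v} [Group G] [Group M] {C : Cfg G M} {S : Subgroup M}

/-- Conjugacy by an element of `H`. -/
def CW (H : Subgroup G) (x y : G) : Prop := ∃ h ∈ H, h * x * h⁻¹ = y

theorem CW.refl (H : Subgroup G) (x : G) : CW H x x := ⟨1, H.one_mem, by group⟩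

theorem CW.symm {H : Subgroup G} {x y : G} (h : CW H x y) : CW H y x := by
  obtain ⟨g, hg, rfl⟩ := h
  exact ⟨g⁻¹, H.inv_mem hg, by group⟩

theorem CW.trans {H : Subgroup G} {x y w : G} (h : CW H x y) (h' : CW H y w) : CW H x w := by
  obtain ⟨g, hg, rfl⟩ := h
  obtain ⟨k, hk, rfl⟩ := h'
  exact ⟨k * g, H.mul_mem hk hg, by group⟩

theorem CW.conj {H : Subgroup G} {x y : G} (h : CW H x y) {g : G} (hH : ∀ k ∈ H, g * k * g⁻¹ ∈ H) :
    CW H (g * x * g⁻¹) (g * y * g⁻¹) := by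
  obtain ⟨k, hk, rfl⟩ := h
  exact ⟨g * k * g⁻¹, hH k hk, by group⟩

namespace Wreath

/-- The subgroup of index 2. -/
structure Even (W : Wreath C S) (G0 : Subgroup G) : Prop where
  normal : G0.Normal
  index : G0.index = 2
  t_not : C.t ∉ G0
  T0_le : W.T0 ≤ G0
  sylow : ¬ 2 ∣ W.T0.relIndex G0

variable {W : Wreath C S} [Finite G] [Finite M] {V U : Subgroup M} {z b : M} (E : Exact C)
  (F : Facts24 V U S z b)

include E F in
theorem exists_even : ∃ G0 : Subgroup G, W.Even G0 := by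
  have hP := W.TT_two F.S_two
  have hodd := W.TT_sylow E F
  obtain ⟨G0, hn, hi, ht⟩ : ∃ G0 : Subgroup G, G0.Normal ∧ G0.index = 2 ∧ C.t ∉ G0 := by
    refine (Cfsg.Agent.S0111.result (hP.toSylow hodd) W.T0 W.T0_le_TT W.relIndex_TT C.t ?_ W.t_mem_TT
      W.t_not_T0).resolve_right ?_
    · exact orderOf_eq_prime (by rw [pow_two, C.t_sq]) C.t_ne
    · rintro ⟨g, hg⟩
      exact W.not_conj_t E F hg rfl
  -- the first coordinates landing in `G0`
  have hle : W.T0 ≤ G0 := by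
    let K : Subgroup M := ((G0.comap W.ι).comap (MonoidHom.inl S S)).map S.subtype
    have hK : ∀ x : S, (x : M) ∈ K ↔ W.ι (x, 1) ∈ G0 := fun x => by
      refine ⟨fun h => ?_, fun h => ⟨x, h, rfl⟩⟩
      obtain ⟨y, hy, hyx⟩ := h
      rw [← show y = x from Subtype.ext hyx]
      exact hy
    have hconj : ∀ x y : S, x * x = 1 → IsConj (x : M) y → (x : M) ∈ K → (y : M) ∈ K := by
      intro x y hx hxy hxK
      obtain ⟨g, -, hge⟩ := W.fuse x 1 y 1 hx (one_mul 1) hxy (IsConj.refl _)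
      exact (hK y).mpr (hge ▸ hn.conj_mem _ ((hK x).mp hxK) g)
    have hzK : z ∈ K := by
      obtain ⟨c, hc, d, hd, -, -, hcd⟩ := F.z_comm
      have h2 := Subgroup.mul_self_mem_of_index_two hi (W.ι ((⟨c, hc⟩ : S) * ⟨d, hd⟩, 1))
      rw [← map_mul] at h2
      refine ⟨(⟨c, hc⟩ : S) * ⟨d, hd⟩ * ((⟨c, hc⟩ : S) * ⟨d, hd⟩), by simpa using h2, ?_⟩
      simp [← mul_assoc, hcd]
    have hU : U ≤ K := (F.U_span z F.z_mem.1 F.z_ne_one).trans <| by
      rw [Subgroup.closure_le]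
      rintro _ ⟨n, hn', rfl⟩
      refine hconj ⟨z, F.U_le F.z_mem.1⟩ ⟨n * z * n⁻¹, F.U_le ((Subgroup.mem_normalizer_iff.mp hn' z).mp F.z_mem.1)⟩
        (Subtype.ext (by rw [Subgroup.coe_mul, Subgroup.coe_one, ← pow_two]; exact F.elemU.2 z F.z_mem.1)) ?_ hzK
      exact isConj_iff.mpr ⟨n, rfl⟩
    have hS : S ≤ K := F.S_gen.trans <| by
      rw [Subgroup.closure_le]
      rintro x ⟨hx, hxx⟩
      obtain ⟨n, -, hnU⟩ := F.fuse x hx hxx
      refine hconj ⟨n * x * n⁻¹, F.U_le hnU⟩ ⟨x, hx⟩ (Subtype.ext ?_) (isConj_iff.mpr ⟨n⁻¹, ?_⟩) (hU hnU)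
      · show n * x * n⁻¹ * (n * x * n⁻¹) = 1
        rw [← pow_two, conj_pow, pow_two, hxx, mul_one, mul_inv_cancel]
      · show n⁻¹ * (n * x * n⁻¹) * n⁻¹⁻¹ = x
        group
    rintro _ ⟨⟨x, y⟩, rfl⟩
    rw [show ((x, y) : S × S) = (x, 1) * (1, y) by simp, map_mul]
    refine G0.mul_mem ((hK x).mp (hS x.2)) ?_
    rw [← W.flip y 1]
    have := hn.conj_mem _ ((hK y).mp (hS y.2)) C.t
    rwa [C.t_inv] at this
  refine ⟨G0, hn, hi, ht, hle, fun h2 => hodd ?_⟩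
  have h3 : W.T0.relIndex G0 * G0.index = W.T0.index := Subgroup.relIndex_mul_index hle
  have h4 : W.T0.relIndex W.TT * W.TT.index = W.T0.index := Subgroup.relIndex_mul_index W.T0_le_TT
  rw [W.relIndex_TT, ← h3, hi, mul_comm] at h4
  rwa [← mul_right_cancel₀ two_ne_zero h4] at h2

namespace Even

variable {G0 : Subgroup G} (H : W.Even G0)
include H

theorem conj_mem {k : G} (hk : k ∈ G0) (g : G) : g * k * g⁻¹ ∈ G0 := H.normal.conj_mem k hk g

theorem evenElem_mem {g : G} (hg : EvenElem g) : g ∈ G0 := res2_le_of_index_two H.index hg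

theorem conj_t_not_mem (g : G) : g * C.t * g⁻¹ ∉ G0 := fun h => H.t_not (by
  have := H.conj_mem h g⁻¹
  convert this using 1; group)

theorem mem_or (g : G) : g ∈ G0 ∨ C.t * g ∈ G0 := by
  by_cases hg : g ∈ G0
  · exact Or.inl hg
  · exact Or.inr ((Subgroup.mul_mem_iff_of_index_two H.index).mpr (iff_of_false H.t_not hg))

theorem flip_cw {x y : G} (h : CW G0 x y) : CW G0 (C.t * x * C.t) (C.t * y * C.t) := by
  have := h.conj (g := C.t) fun k hk => H.conj_mem hk C.t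
  rwa [C.t_inv] at this


/-- A 2-subgroup containing no element outside `G0` is conjugate in `G0` into `T₀`. -/
theorem conj_into (hS : IsPGroup 2 S) {P : Subgroup G} (hP : IsPGroup 2 P) (hPG : P ≤ G0) :
    ∃ g ∈ G0, ∀ p ∈ P, g * p * g⁻¹ ∈ W.T0 := by
  let R : Sylow 2 G0 := ((W.T0_two hS).comap_subtype (H := W.T0) (K := G0)).toSylow H.sylow
  have hR : (R : Subgroup G0) = W.T0.subgroupOf G0 := rfl
  obtain ⟨Q, hQ⟩ := (hP.comap_subtype (H := P) (K := G0)).exists_le_sylow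
  obtain ⟨c, hc⟩ := MulAction.exists_smul_eq G0 Q R
  refine ⟨c, c.2, fun p hp => ?_⟩
  have h1 : c * (⟨p, hPG hp⟩ : G0) * c⁻¹ ∈ (c • Q : Sylow 2 G0).1 := by
    rw [Sylow.coe_subgroup_smul]
    exact Subgroup.smul_mem_pointwise_smul _ _ _ (hQ (show (⟨p, hPG hp⟩ : G0) ∈ P.subgroupOf G0 from hp))
  rw [hc] at h1
  simpa [hR, Subgroup.mem_subgroupOf] using h1


theorem cw_of_fuse {a c a' c' : S} (ha : a * a = 1) (hc : c * c = 1) (h1 : IsConj (a : M) a')
    (h2 : IsConj (c : M) c') : CW G0 (W.ι (a, c)) (W.ι (a', c')) := by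
  obtain ⟨g, hg, he⟩ := W.fuse a c a' c' ha hc h1 h2
  exact ⟨g, H.evenElem_mem hg, he⟩

/-- Two commuting involutions of `G0` go into `T₀` together. -/
theorem conj_pair (hS : IsPGroup 2 S) {x y : G} (hx : x ∈ G0) (hy : y ∈ G0) (hxx : x * x = 1) (hyy : y * y = 1)
    (hxy : x * y = y * x) :
    ∃ g ∈ G0, ∃ p q : S × S, g * x * g⁻¹ = W.ι p ∧ g * y * g⁻¹ = W.ι q := by
  have hx2 : IsPGroup 2 (Subgroup.zpowers x) := by
    rintro ⟨w, hw⟩
    obtain ⟨i, rfl⟩ := Subgroup.mem_zpowers_iff.mp hw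
    exact ⟨1, Subtype.ext (by
      rw [pow_one, pow_two, Subgroup.coe_mul, ← (Commute.refl x).mul_zpow, hxx, one_zpow, Subgroup.coe_one])⟩
  have hy2 : IsPGroup 2 (Subgroup.zpowers y) := by
    rintro ⟨w, hw⟩
    obtain ⟨i, rfl⟩ := Subgroup.mem_zpowers_iff.mp hw
    exact ⟨1, Subtype.ext (by
      rw [pow_one, pow_two, Subgroup.coe_mul, ← (Commute.refl y).mul_zpow, hyy, one_zpow, Subgroup.coe_one])⟩
  have hn : Subgroup.zpowers x ≤ Subgroup.normalizer (Subgroup.zpowers y : Set G) := by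
    refine (Subgroup.zpowers_le).mpr ((Subgroup.centralizer_le_normalizer _) ?_)
    refine Subgroup.mem_centralizer_iff.mpr fun w hw => ?_
    obtain ⟨i, rfl⟩ := Subgroup.mem_zpowers_iff.mp hw
    exact ((show Commute x y from hxy).zpow_right i).eq.symm
  obtain ⟨g, hg, hgP⟩ := H.conj_into hS (IsPGroup.to_sup_of_normal_right' hx2 hy2 hn)
    (sup_le ((Subgroup.zpowers_le).mpr hx) ((Subgroup.zpowers_le).mpr hy))
  obtain ⟨p, hp⟩ := hgP x (Subgroup.mem_sup_left (Subgroup.mem_zpowers x))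
  obtain ⟨q, hq⟩ := hgP y (Subgroup.mem_sup_right (Subgroup.mem_zpowers y))
  exact ⟨g, hg, p, q, hp.symm, hq.symm⟩

end Even

end Wreath

end Cfsg.Lib.StdWreath
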