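import Cfsg.Agent.StdWreath.EndEven

/-!
The end game, third part: counting square roots separates `z₁`, `z₂` and their product.
-/

set_option autoImplicit false
set_option linter.unusedSectionVars false

namespace Cfsg.Lib.StdWreath

universe u v

variable {G : Type u} {M : Type v} [Group G] [Group M] {C : Cfg G M} {S : Subgroup M}

/-- The number of square roots of `c` in `P`. -/
noncomputable def roots {H : Type*} [Group H] (P : Subgroup H) (c : H) : ℕ := Nat.card {s : H // s ∈ P ∧ s * s = c}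

theorem roots_conj [Finite G] {P : Subgroup G} {n : G} (hn : ∀ p ∈ P, n * p * n⁻¹ ∈ P) (c : G) :
    roots P (n * c * n⁻¹) = roots P c := by
  have hinv : ∀ p ∈ P, n⁻¹ * p * n ∈ P := by
    intro p hp
    obtain ⟨q, hq⟩ := Finite.surjective_of_injective (f := fun q : P => (⟨n * q * n⁻¹, hn q q.2⟩ : P))
      (fun a c h => Subtype.ext (mul_left_cancel (mul_right_cancel (congrArg Subtype.val h)))) ⟨p, hp⟩
    have h2 : n * (q : G) * n⁻¹ = p := congrArg Subtype.val hq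
    rw [← h2]
    convert q.2 using 1
    group
  have h1 : ∀ q : G, q * q = c → n * q * n⁻¹ * (n * q * n⁻¹) = n * c * n⁻¹ := fun q hq => by
    rw [← hq]; group
  have h2 : ∀ q : G, q * q = n * c * n⁻¹ → n⁻¹ * q * n * (n⁻¹ * q * n) = c := fun q hq => by
    calc n⁻¹ * q * n * (n⁻¹ * q * n) = n⁻¹ * (q * q) * n := by group
      _ = c := by rw [hq]; group
  exact (Nat.card_congr
    { toFun := fun s : {s : G // s ∈ P ∧ s * s = c} =>
        (⟨n * s.1 * n⁻¹, hn _ s.2.1, h1 _ s.2.2⟩ : {s : G // s ∈ P ∧ s * s = n * c * n⁻¹})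
      invFun := fun s => ⟨n⁻¹ * s.1 * n, hinv _ s.2.1, h2 _ s.2.2⟩
      left_inv := fun s => Subtype.ext (by show n⁻¹ * (n * s.1 * n⁻¹) * n = s.1; group)
      right_inv := fun s => Subtype.ext (by show n * (n⁻¹ * s.1 * n) * n⁻¹ = s.1; group) }).symm

namespace Facts24

variable {V U : Subgroup M} {z b : M} (F : Facts24 V U S z b)
include F

/-- `z` in `S`. -/
def zS : S := ⟨z, F.U_le F.z_mem.1⟩

/-- `b` in `S`. -/
def bS : S := ⟨b, F.U_le F.b_mem⟩

theorem coe_zS : ((F.zS : S) : M) = z := rfl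

theorem coe_bS : ((F.bS : S) : M) = b := rfl

theorem zS_sq : F.zS * F.zS = 1 :=
  Subtype.ext (by rw [Subgroup.coe_mul, Subgroup.coe_one, ← pow_two]; exact F.elemU.2 z F.z_mem.1)

theorem bS_sq : F.bS * F.bS = 1 :=
  Subtype.ext (by rw [Subgroup.coe_mul, Subgroup.coe_one, ← pow_two]; exact F.elemU.2 b F.b_mem)

theorem roots_S_z : roots S z = 96 := F.roots_z

theorem roots_S_one : roots S 1 = 192 := F.roots_one

variable [Finite M]

theorem zS_ne : F.zS ≠ 1 := fun h => F.z_ne_one (congrArg Subtype.val h)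

theorem bS_ne : F.bS ≠ 1 := fun h => F.b_ne_one (congrArg Subtype.val h)

theorem b_ne_z : b ≠ z := fun h => F.b_not_conj (h ▸ IsConj.refl b)

/-- An element of `S` squaring to `1` is conjugate to `1`, `z` or `b`. -/
theorem exists_rep {x : S} (hx : x * x = 1) : ∃ r : S, (r = 1 ∨ r = F.zS ∨ r = F.bS) ∧ IsConj (x : M) r := by
  by_cases h1 : x = 1
  · exact ⟨1, Or.inl rfl, h1 ▸ IsConj.refl _⟩
  have ho : orderOf (x : M) = 2 := orderOf_eq_prime (by rw [pow_two]; exact congrArg Subtype.val hx)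
    fun h => h1 (Subtype.ext h)
  rcases F.classes _ ho with h | h
  · exact ⟨F.zS, Or.inr (Or.inl rfl), h⟩
  · exact ⟨F.bS, Or.inr (Or.inr rfl), h⟩

end Facts24

namespace Wreath

variable (W : Wreath C S)

theorem roots_pr {A B : Subgroup M} (hA : A ≤ S) (hB : B ≤ S) (x y : S) :
    roots (W.pr A B) (W.ι (x, y)) = roots A (x : M) * roots B (y : M) := by
  rw [roots, roots, roots, ← Nat.card_prod]
  refine (Nat.card_congr (Equiv.ofBijective
    (fun p : {s : M // s ∈ A ∧ s * s = x} × {s : M // s ∈ B ∧ s * s = y} =>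
      (⟨W.ι (⟨p.1.1, hA p.1.2.1⟩, ⟨p.2.1, hB p.2.2.1⟩), W.mem_pr.mpr ⟨_, _, p.1.2.1, p.2.2.1, rfl⟩, by
        rw [← map_mul]
        exact congrArg W.ι (Prod.ext (Subtype.ext p.1.2.2) (Subtype.ext p.2.2.2))⟩ :
        {s : G // s ∈ W.pr A B ∧ s * s = W.ι (x, y)})) ⟨?_, ?_⟩)).symm
  · rintro ⟨a, c⟩ ⟨a', c'⟩ h
    have h2 := W.inj (congrArg Subtype.val h)
    exact Prod.ext (Subtype.ext (congrArg (fun q : S × S => (q.1 : M)) h2))
      (Subtype.ext (congrArg (fun q : S × S => (q.2 : M)) h2))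
  · rintro ⟨s, hs, hss⟩
    obtain ⟨p, q, hp, hq, rfl⟩ := W.mem_pr.mp hs
    rw [← map_mul] at hss
    have h2 := W.inj hss
    exact ⟨(⟨p, hp, congrArg (fun r : S × S => (r.1 : M)) h2⟩, ⟨q, hq, congrArg (fun r : S × S => (r.2 : M)) h2⟩), rfl⟩

theorem central_pr {A B : Subgroup M} {x y : S} (hc : ∀ g ∈ W.pr A B, g * W.ι (x, y) = W.ι (x, y) * g) :
    (∀ s ∈ A, s ∈ S → s * (x : M) = x * s) ∧ ∀ s ∈ B, s ∈ S → s * (y : M) = y * s := by
  constructor
  · intro s hs hsS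
    have h := hc _ (W.mem_pr.mpr ⟨⟨s, hsS⟩, 1, hs, by simp, rfl⟩)
    rw [← map_mul, ← map_mul] at h
    exact congrArg (fun r : S × S => (r.1 : M)) (W.inj h)
  · intro s hs hsS
    have h := hc _ (W.mem_pr.mpr ⟨1, ⟨s, hsS⟩, by simp, hs, rfl⟩)
    rw [← map_mul, ← map_mul] at h
    exact congrArg (fun r : S × S => (r.2 : M)) (W.inj h)

variable {V U : Subgroup M} {z b : M} (F : Facts24 V U S z b)

/-- `z₁`. -/
def z1 : G := W.ι (F.zS, 1)

/-- `z₂`. -/
def z2 : G := W.ι (1, F.zS)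

/-- `z₁ z₂`. -/
def za : G := W.ι (F.zS, F.zS)

theorem za_eq : W.za F = C.e z := W.diag F.zS

theorem z1_mul_z2 : W.z1 F * W.z2 F = W.za F := by rw [z1, z2, za, ← map_mul]; simp

theorem t_z1 : C.t * W.z1 F * C.t = W.z2 F := W.flip _ _

theorem t_z2 : C.t * W.z2 F * C.t = W.z1 F := W.flip _ _

theorem t_za : C.t * W.za F * C.t = W.za F := W.flip _ _

theorem z1_mem : W.z1 F ∈ W.T0 := ⟨_, rfl⟩

theorem z2_mem : W.z2 F ∈ W.T0 := ⟨_, rfl⟩

theorem za_mem : W.za F ∈ W.T0 := ⟨_, rfl⟩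

theorem central {g : G} (hg : g ∈ W.T0) (hc : ∀ h ∈ W.T0, h * g = g * h) :
    g = 1 ∨ g = W.z1 F ∨ g = W.z2 F ∨ g = W.za F := by
  obtain ⟨⟨x, y⟩, rfl⟩ := hg
  obtain ⟨hx, hy⟩ := W.central_pr (A := S) (B := S) (fun h hh => hc h (W.pr_le S S hh))
  have h1 : (x : M) = 1 ∨ (x : M) = z := (F.center_S x).mp ⟨x.2, fun s hs => hx s hs hs⟩
  have h2 : (y : M) = 1 ∨ (y : M) = z := (F.center_S y).mp ⟨y.2, fun s hs => hy s hs hs⟩
  rcases h1 with h1 | h1 <;> rcases h2 with h2 | h2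
  · left; rw [show x = 1 from Subtype.ext h1, show y = 1 from Subtype.ext h2, ← Prod.one_eq_mk, map_one]
  · right; right; left; rw [show x = 1 from Subtype.ext h1, show y = F.zS from Subtype.ext h2]; rfl
  · right; left; rw [show x = F.zS from Subtype.ext h1, show y = 1 from Subtype.ext h2]; rfl
  · right; right; right; rw [show x = F.zS from Subtype.ext h1, show y = F.zS from Subtype.ext h2]; rfl

theorem comm_T0 {g : G} (hg : g = W.z1 F ∨ g = W.z2 F ∨ g = W.za F) : ∀ h ∈ W.T0, h * g = g * h := by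
  rintro h ⟨⟨p, q⟩, rfl⟩
  have hz : ∀ s : S, s * F.zS = F.zS * s := fun s =>
    Subtype.ext (((F.center_S z).mpr (Or.inr rfl)).2 s s.2)
  rcases hg with rfl | rfl | rfl <;> simp only [z1, z2, za, ← map_mul, Prod.mk_mul_mk, hz, mul_one, one_mul]

theorem roots_z1 : roots W.T0 (W.z1 F) = 18432 := by
  rw [← W.pr_self, z1, W.roots_pr le_rfl le_rfl, F.coe_zS, Subgroup.coe_one, F.roots_S_z, F.roots_S_one]

theorem roots_z2 : roots W.T0 (W.z2 F) = 18432 := by
  rw [← W.pr_self, z2, W.roots_pr le_rfl le_rfl, F.coe_zS, Subgroup.coe_one, F.roots_S_z, F.roots_S_one]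

theorem roots_za : roots W.T0 (W.za F) = 9216 := by
  rw [← W.pr_self, za, W.roots_pr le_rfl le_rfl, F.coe_zS, F.roots_S_z]

variable [Finite M]

theorem z1_ne_one : W.z1 F ≠ 1 := fun h => F.zS_ne (congrArg Prod.fst (W.inj (h.trans (map_one _).symm)))

theorem z2_ne_one : W.z2 F ≠ 1 := fun h => F.zS_ne (congrArg Prod.snd (W.inj (h.trans (map_one _).symm)))

theorem z1_ne_z2 : W.z1 F ≠ W.z2 F := fun h => F.zS_ne (congrArg Prod.fst (W.inj h))

namespace Even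

variable {W} {G0 : Subgroup G} (H : W.Even G0) [Finite G] (E : Exact C)
include H

theorem relIndex_le {H0 : Subgroup G} (h1 : W.T0 ≤ H0) (h2 : H0 ≤ G0) : ¬ 2 ∣ W.T0.relIndex H0 := fun h =>
  H.sylow (h.trans (Dvd.intro _ (Subgroup.relIndex_mul_relIndex _ _ _ h1 h2)))

theorem card_le_T0 (hS : IsPGroup 2 S) {P : Subgroup G} (hP : IsPGroup 2 P) (hPG : P ≤ G0) :
    Nat.card P ≤ Nat.card W.T0 := by
  obtain ⟨g, -, hgP⟩ := H.conj_into hS hP hPG
  exact Nat.card_le_card_of_injective (fun p : P => (⟨g * p * g⁻¹, hgP p p.2⟩ : W.T0))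
    (fun a c h => Subtype.ext (mul_left_cancel (mul_right_cancel (congrArg Subtype.val h))))

theorem burnside (hS : IsPGroup 2 S) {c c' : G} (hc : c ∈ W.T0) (hcc : ∀ h ∈ W.T0, h * c = c * h)
    (hcc' : ∀ h ∈ W.T0, h * c' = c' * h) (h : CW G0 c c') :
    ∃ n ∈ G0, (∀ p ∈ W.T0, n * p * n⁻¹ ∈ W.T0) ∧ n * c' * n⁻¹ = c := by
  obtain ⟨g, hg, hgc⟩ := h
  set H0 := G0 ⊓ Subgroup.centralizer ({c'} : Set G) with hH0
  have h1 : W.T0 ≤ H0 := fun p hp => ⟨H.T0_le hp, Subgroup.mem_centralizer_singleton_iff.mpr (hcc' p hp)⟩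
  have h2 : cmap g W.T0 ≤ H0 := fun p hp => by
    obtain ⟨q, hq, rfl⟩ := mem_cmap.mp hp
    refine ⟨H.conj_mem (H.T0_le hq) g, Subgroup.mem_centralizer_singleton_iff.mpr ?_⟩
    rw [← hgc]
    calc g * q * g⁻¹ * (g * c * g⁻¹) = g * (q * c) * g⁻¹ := by group
      _ = g * (c * q) * g⁻¹ := by rw [hcc q hq]
      _ = _ := by group
  obtain ⟨k, hk, hkR⟩ := relIndex_conj h2 h1 ((W.T0_two hS).map (MulAut.conj g).toMonoidHom) (W.T0_two hS)
    (H.relIndex_le h1 inf_le_left) (cmap_card g W.T0)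
  refine ⟨(k * g)⁻¹, G0.inv_mem (G0.mul_mem hk.1 hg), fun p hp => ?_, ?_⟩
  · obtain ⟨q, hq, hqp⟩ := hkR p hp
    obtain ⟨r, hr, rfl⟩ := mem_cmap.mp hq
    rw [← hqp]
    convert hr using 1; group
  · have h3 : k⁻¹ * c' * k = c' := by
      rw [mul_assoc, ← Subgroup.mem_centralizer_singleton_iff.mp hk.2]; group
    calc (k * g)⁻¹ * c' * (k * g)⁻¹⁻¹ = g⁻¹ * (k⁻¹ * c' * k) * g := by group
      _ = c := by rw [h3, ← hgc]; group

include F

theorem za_not_cw {c : G} (hc : c = W.z1 F ∨ c = W.z2 F) : ¬ CW G0 (W.za F) c := by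
  intro h
  obtain ⟨n, -, hn, hnc⟩ := H.burnside F.S_two (W.za_mem F) (W.comm_T0 F (Or.inr (Or.inr rfl)))
    (W.comm_T0 F (hc.elim Or.inl fun h => Or.inr (Or.inl h))) h
  have := roots_conj hn c
  rw [hnc, W.roots_za F] at this
  rcases hc with rfl | rfl
  · rw [W.roots_z1 F] at this; omega
  · rw [W.roots_z2 F] at this; omega

theorem z1_not_cw_z2 : ¬ CW G0 (W.z1 F) (W.z2 F) := by
  intro h
  obtain ⟨n, hnG, hn, hn2⟩ := H.burnside F.S_two (W.z1_mem F) (W.comm_T0 F (Or.inl rfl))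
    (W.comm_T0 F (Or.inr (Or.inl rfl))) h
  have hsurj : ∀ p ∈ W.T0, ∃ q ∈ W.T0, n * q * n⁻¹ = p := by
    intro p hp
    obtain ⟨q, hq⟩ := Finite.surjective_of_injective (f := fun q : W.T0 => (⟨n * q * n⁻¹, hn q q.2⟩ : W.T0))
      (fun a c h => Subtype.ext (mul_left_cancel (mul_right_cancel (congrArg Subtype.val h)))) ⟨p, hp⟩
    exact ⟨q, q.2, congrArg Subtype.val hq⟩
  have hn1 : n * W.z1 F * n⁻¹ = W.z2 F := by
    have hcen : ∀ p ∈ W.T0, p * (n * W.z1 F * n⁻¹) = n * W.z1 F * n⁻¹ * p := by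
      intro p hp
      obtain ⟨q, hq, rfl⟩ := hsurj p hp
      have := W.comm_T0 F (Or.inl rfl) q hq
      calc n * q * n⁻¹ * (n * W.z1 F * n⁻¹) = n * (q * W.z1 F) * n⁻¹ := by group
        _ = n * (W.z1 F * q) * n⁻¹ := by rw [this]
        _ = _ := by group
    have hr := roots_conj hn (W.z1 F)
    rw [W.roots_z1 F] at hr
    rcases W.central F (hn _ (W.z1_mem F)) hcen with h1 | h1 | h1 | h1
    · refine absurd ?_ (W.z1_ne_one F)
      calc W.z1 F = n⁻¹ * (n * W.z1 F * n⁻¹) * n := by group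
        _ = 1 := by rw [h1]; group
    · refine absurd ?_ (W.z1_ne_z2 F)
      exact mul_left_cancel (mul_right_cancel (h1.trans hn2.symm))
    · exact h1
    · rw [h1, W.roots_za F] at hr; omega
  obtain ⟨a, m, hm, hN⟩ := Nat.exists_eq_two_pow_mul_odd (orderOf_pos n).ne'
  obtain ⟨j, rfl⟩ := hm
  have hfix : ∀ i : ℕ, n ^ (2 * i) * W.z1 F * (n ^ (2 * i))⁻¹ = W.z1 F := by
    intro i
    induction i with
    | zero => simp
    | succ i ih =>
      calc n ^ (2 * (i + 1)) * W.z1 F * (n ^ (2 * (i + 1)))⁻¹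
          = n * (n * (n ^ (2 * i) * W.z1 F * (n ^ (2 * i))⁻¹) * n⁻¹) * n⁻¹ := by
            rw [show 2 * (i + 1) = 1 + (1 + 2 * i) by ring, pow_add, pow_add, pow_one]; group
        _ = _ := by rw [ih, hn1, hn2]
  set k := n ^ (2 * j + 1) with hk
  have hk2 : k ^ 2 ^ a = 1 := by rw [hk, ← pow_mul, mul_comm, ← hN, pow_orderOf_eq_one]
  have hknorm : k ∈ Subgroup.normalizer (W.T0 : Set G) := by
    refine pow_mem (Subgroup.mem_normalizer_iff.mpr fun p => ⟨hn p, fun hp => ?_⟩) _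
    obtain ⟨q, hq, hqp⟩ := hsurj _ hp
    rwa [← mul_left_cancel (mul_right_cancel hqp)]
  have hk2' : IsPGroup 2 (Subgroup.zpowers k) := by
    rintro ⟨w, hw⟩
    obtain ⟨i, rfl⟩ := Subgroup.mem_zpowers_iff.mp hw
    refine ⟨a, Subtype.ext ?_⟩
    simp only [Subgroup.coe_pow, Subgroup.coe_one]
    rw [← zpow_natCast, ← zpow_mul, mul_comm, zpow_mul, zpow_natCast, hk2, one_zpow]
  have hle := H.card_le_T0 F.S_two
    (IsPGroup.to_sup_of_normal_right' hk2' (W.T0_two F.S_two) ((Subgroup.zpowers_le).mpr hknorm))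
    (sup_le ((Subgroup.zpowers_le).mpr (pow_mem hnG _)) H.T0_le)
  have heq := Subgroup.eq_of_le_of_card_ge (le_sup_right (a := Subgroup.zpowers k)) hle
  have hkT : k ∈ W.T0 := heq ▸ Subgroup.mem_sup_left (Subgroup.mem_zpowers k)
  refine W.z1_ne_z2 F ?_
  have h1 := W.comm_T0 F (Or.inl rfl) k hkT
  calc W.z1 F = k * W.z1 F * k⁻¹ := by rw [h1, mul_inv_cancel_right]
    _ = n * (n ^ (2 * j) * W.z1 F * (n ^ (2 * j))⁻¹) * n⁻¹ := by
        rw [hk, add_comm, pow_add, pow_one]; group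
    _ = W.z2 F := by rw [hfix, hn1]

/-- Elements centralising `z₁` lie in `G0`. -/
theorem cent_z1 {g : G} (hg : g * W.z1 F = W.z1 F * g) : g ∈ G0 := by
  refine (H.mem_or g).resolve_right fun h => ?_
  refine H.z1_not_cw_z2 F ⟨C.t * g, h, ?_⟩
  calc C.t * g * W.z1 F * (C.t * g)⁻¹ = C.t * (g * W.z1 F * g⁻¹) * C.t⁻¹ := by group
    _ = _ := by rw [hg, mul_inv_cancel_right, C.t_inv, W.t_z1 F]

end Even

end Wreath

end Cfsg.Lib.StdWreath
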