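import Cfsg.Agent.StdWreath.EndCross
import Cfsg.Agent.StdWreath.Odd
import Cfsg.Agent.S0215

/-!
The end game, sixth part: in the centraliser of `z₁ z₂` the only conjugate of `z₁` with the right partner is `z₁`.
-/

set_option autoImplicit false
set_option linter.unusedSectionVars false

namespace Cfsg.Lib.StdWreath

universe u v

variable {G : Type u} {M : Type v} [Group G] [Group M] {C : Cfg G M} {S : Subgroup M}

namespace Wreath

variable {W : Wreath C S} {V U : Subgroup M} {z b : M} [Finite M] [Finite G] {G0 : Subgroup G}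

theorem perfect_M (F : Facts24 V U S z b) : commutator M = ⊤ := by
  haveI := F.simple
  rcases Subgroup.Normal.eq_bot_or_eq_top (inferInstance : (commutator M).Normal) with h | h
  · exfalso
    have hb := F.inv_derived z F.order_z
    have : ⁅Subgroup.centralizer ({z} : Set M), Subgroup.centralizer ({z} : Set M)⁆ ≤ ⊥ := by
      rw [← h, commutator_def]
      exact Subgroup.commutator_mono le_top le_top
    exact F.z_ne_one (Subgroup.mem_bot.mp (this hb))
  · exact h

namespace Even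

variable (H : W.Even G0) (F : Facts24 V U S z b)
include H F

theorem e_mem (m : M) : C.e m ∈ G0 := by
  suffices h : (⊤ : Subgroup M) ≤ G0.comap C.e from h (Subgroup.mem_top m)
  rw [← perfect_M F, commutator_def, Subgroup.commutator_le]
  intro a _ c _
  rw [Subgroup.mem_comap, commutatorElement_def, map_mul, map_mul, map_mul, map_inv, map_inv, Subgroup.mul_mem_iff_of_index_two H.index,
    Subgroup.mul_mem_iff_of_index_two H.index, Subgroup.mul_mem_iff_of_index_two H.index, inv_mem_iff, inv_mem_iff]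
  tauto

/-- `C_{G0}(z₁ z₂)`. -/
theorem T0_le_H0 : W.T0 ≤ G0 ⊓ Subgroup.centralizer ({W.za F} : Set G) := fun h hh =>
  ⟨H.T0_le hh, Subgroup.mem_centralizer_singleton_iff.mpr (W.comm_T0 F (Or.inr (Or.inr rfl)) h hh)⟩

theorem absorb {k : G} (hk : k ∈ G0) (hka : k * W.za F = W.za F * k) (hkk : k * k = 1) :
    ∃ c, c ∈ G0 ∧ c * W.za F = W.za F * c ∧ c * k * c⁻¹ ∈ W.T0 := by
  obtain ⟨R, hR2, hRH, hTR, c, hc, hcR⟩ := exists_sylow_with (W.T0_two F.S_two) (H.T0_le_H0 F)
    (show k ∈ G0 ⊓ Subgroup.centralizer ({W.za F} : Set G) from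
      ⟨hk, Subgroup.mem_centralizer_singleton_iff.mpr hka⟩) ⟨1, by rw [pow_one, pow_two, hkk]⟩
  refine ⟨c, hc.1, Subgroup.mem_centralizer_singleton_iff.mp hc.2, ?_⟩
  rwa [Subgroup.eq_of_le_of_card_ge hTR (H.card_le_T0 F.S_two hR2 (hRH.trans inf_le_left))]

theorem z1_sq : W.z1 F * W.z1 F = 1 := by
  rw [z1, ← map_mul, Prod.mk_mul_mk, F.zS_sq, one_mul, ← Prod.one_eq_mk, map_one]

theorem z2_eq : W.z2 F = W.z1 F * W.za F := by
  rw [← W.z1_mul_z2 F, ← mul_assoc, H.z1_sq F, one_mul]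

theorem isolated {g : G} (hg : g ∈ G0) (hga : g * W.za F = W.za F * g) (hgT : g * W.z1 F * g⁻¹ ∈ W.T0) :
    g * W.z1 F * g⁻¹ = W.z1 F := by
  obtain ⟨p, hp⟩ := hgT
  obtain ⟨-, h2⟩ := H.type_z1 F (p := p) ⟨g, hg, hp.symm⟩
  have h3 : g * W.z2 F * g⁻¹ = W.ι (p.1 * F.zS, F.zS) := by
    rw [H.z2_eq F]
    calc g * (W.z1 F * W.za F) * g⁻¹ = g * W.z1 F * g⁻¹ * (g * W.za F * g⁻¹) := by group
      _ = W.ι p * W.za F := by rw [hp, hga, mul_inv_cancel_right]
      _ = _ := by rw [za, ← map_mul]; exact congrArg W.ι (Prod.ext rfl (by simp [h2]))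
  have h4 : p.1 * F.zS = 1 := (H.type_z2 F ⟨g, hg, h3⟩).1
  have h5 : p.1 = F.zS := by
    have h6 : p.1 * F.zS * F.zS = F.zS := by rw [h4, one_mul]
    rwa [mul_assoc, F.zS_sq, mul_one] at h6
  rw [← hp, z1]
  exact congrArg W.ι (Prod.ext h5 h2)

variable (E : Exact C)
include E

/-- `z₁` centralises an odd normal subgroup of `C(z₁ z₂)` invariant under `t`. -/
theorem cent_odd {N : Subgroup G} (hN : Odd (Nat.card N)) (hNa : ∀ n ∈ N, n * W.za F = W.za F * n)
    (hconj : ∀ h ∈ G0, h * W.za F = W.za F * h → ∀ n ∈ N, h * n * h⁻¹ ∈ N) (hNt : ∀ n ∈ N, C.t * n * C.t ∈ N) :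
    ∀ n ∈ N, W.z1 F * n = n * W.z1 F := by
  have hT : ∀ p : S × S, ∀ n ∈ N, W.ι p * n * (W.ι p)⁻¹ ∈ N := fun p n hn =>
    hconj _ (H.T0_le ⟨p, rfl⟩) (W.comm_T0 F (Or.inr (Or.inr rfl)) _ ⟨p, rfl⟩) n hn
  have hinv : ∀ p : S × S, p * p = 1 → (W.ι p)⁻¹ = W.ι p := fun p hp =>
    inv_eq_of_mul_eq_one_right (by rw [← map_mul, hp, map_one])
  -- fixed points of `t` centralise `M`
  have hfixM : ∀ n ∈ N, n * C.t = C.t * n → ∀ x : M, n * C.e x = C.e x * n := by
    intro n hn hnt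
    let Nt := N ⊓ Subgroup.centralizer ({C.t} : Set G)
    let π : Nt →* M :=
      { toFun := fun q => mPart C q
        map_one' := by
          show mPart C ((1 : Nt) : G) = 1
          rw [Subgroup.coe_one, ← map_one C.e, E.mPart_e]
        map_mul' := fun p q => E.mPart_mul (Subgroup.mem_centralizer_singleton_iff.mp p.2.2)
          (Subgroup.mem_centralizer_singleton_iff.mp q.2.2) }
    have hodd : Odd (Nat.card π.range) :=
      Odd.of_dvd_nat (Odd.of_dvd_nat hN (Subgroup.card_dvd_of_le inf_le_left)) (Subgroup.card_range_dvd π)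
    have hbot : π.range = ⊥ := by
      refine F.odd_core_z π.range ?_ hodd ?_
      · rintro m ⟨q, rfl⟩
        rw [Subgroup.mem_centralizer_singleton_iff]
        have hq := Subgroup.mem_centralizer_singleton_iff.mp q.2.2
        have h1 := E.conj_e hq z
        rw [← W.za_eq F, hNa q q.2.1, mul_inv_cancel_right, W.za_eq F] at h1
        exact (eq_mul_inv_iff_mul_eq.mp (C.inj h1)).symm
      · rintro g hg m ⟨q, rfl⟩
        have hg' := Subgroup.mem_centralizer_singleton_iff.mp hg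
        have hq := Subgroup.mem_centralizer_singleton_iff.mp q.2.2
        have hgt : ∀ y : M, C.e y * C.t = C.t * C.e y := fun y => (C.t_comm y).symm
        have hqg : C.e g * (q : G) * C.t = C.t * (C.e g * (q : G)) := by
          rw [mul_assoc, hq, ← mul_assoc, hgt, mul_assoc]
        refine ⟨⟨C.e g * q * C.e g⁻¹, ⟨?_, Subgroup.mem_centralizer_singleton_iff.mpr ?_⟩⟩, ?_⟩
        · rw [map_inv]
          refine hconj _ (H.e_mem F g) ?_ q q.2.1
          rw [W.za_eq F, ← map_mul, ← map_mul, hg']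
        · rw [mul_assoc (C.e g * (q : G)), hgt, ← mul_assoc, hqg, mul_assoc]
        · show mPart C (C.e g * q * C.e g⁻¹) = g * mPart C q * g⁻¹
          rw [E.mPart_mul hqg (hgt _), E.mPart_mul (hgt _) hq, E.mPart_e, E.mPart_e]
    have hm : mPart C n = 1 := by
      have : π ⟨n, hn, Subgroup.mem_centralizer_singleton_iff.mpr hnt⟩ ∈ π.range := ⟨_, rfl⟩
      rwa [hbot, Subgroup.mem_bot] at this
    intro x
    have h1 := E.conj_e hnt x
    rw [hm, one_mul, inv_one, mul_one] at h1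
    exact mul_inv_eq_iff_eq_mul.mp h1
  -- a diagonal involution acts trivially
  have hdiag : ∀ c : S, c * c = 1 → ∀ n ∈ N, n * C.e c = C.e c * n := by
    intro c hc
    have hc1 : ((c, 1) : S × S) * (c, 1) = 1 := by simp [hc]
    have hsq : C.e c * C.e c = 1 := by rw [← map_mul, ← Subgroup.coe_mul, hc, Subgroup.coe_one, map_one]
    have hflip : W.ι (c, 1) * C.t * W.ι (c, 1) = C.t * C.e c := by
      have : C.t * W.ι (c, 1) = W.ι (1, c) * C.t := by
        rw [← W.flip c 1, mul_assoc _ C.t C.t, C.t_sq, mul_one]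
      calc W.ι (c, 1) * C.t * W.ι (c, 1) = W.ι (c, 1) * (C.t * W.ι (c, 1)) := by group
        _ = W.ι (c, 1) * W.ι (1, c) * C.t := by rw [this]; group
        _ = _ := by rw [← map_mul, Prod.mk_mul_mk, mul_one, one_mul, W.diag, C.t_comm]
    have hcc : C.e c = W.ι (c, c) := (W.diag c).symm
    refine trivial_of_four hN C.t_sq hsq (C.t_comm _) hNt (fun n hn => ?_) (fun n hn h => hfixM n hn h c) ?_
    · have h := hT (c, c) n hn
      rwa [hinv _ (by simp [hc]), ← hcc] at h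
    · intro n hn hnw
      set k := W.ι (c, 1) with hk
      have hkk : k * k = 1 := by rw [hk, ← map_mul, hc1, map_one]
      have hn' : k * n * k ∈ N := by
        have h := hT (c, 1) n hn
        rwa [hinv _ hc1] at h
      have hk1 : k * (C.t * C.e c) * k = C.t := by
        rw [← hflip, hk]
        calc W.ι (c, 1) * (W.ι (c, 1) * C.t * W.ι (c, 1)) * W.ι (c, 1)
            = W.ι (c, 1) * W.ι (c, 1) * C.t * (W.ι (c, 1) * W.ι (c, 1)) := by group
          _ = _ := by rw [← hk, hkk, one_mul, mul_one]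
      have hcomm : ∀ a e : G, a * e = e * a → k * a * k * (k * e * k) = k * e * k * (k * a * k) := fun a e hae => by
        calc k * a * k * (k * e * k) = k * a * (k * k) * e * k := by group
          _ = k * (e * a) * k := by rw [hkk, ← hae]; group
          _ = k * e * (k * k) * a * k := by rw [hkk]; group
          _ = _ := by group
      have h1 : k * n * k * C.t = C.t * (k * n * k) := by
        have h := hcomm n _ hnw
        rwa [hk1] at h
      have h2 : k * n * k * (C.t * C.e c) = C.t * C.e c * (k * n * k) := by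
        rw [← mul_assoc, h1, mul_assoc, hfixM _ hn' h1 c, ← mul_assoc]
      have h3 := hcomm _ _ h2
      rw [hk1] at h3
      have h4 : k * (k * n * k) * k = n := by
        calc k * (k * n * k) * k = k * k * n * (k * k) := by group
          _ = n := by rw [hkk, one_mul, mul_one]
      rwa [h4] at h3
  obtain ⟨c, hcS, d, hdS, hc2, hd2, hcd⟩ := F.z_comm
  set c' : S := ⟨c, hcS⟩ with hc'
  set d' : S := ⟨d, hdS⟩ with hd'
  have hsqS : ∀ x : S, orderOf (x : M) = 2 → x * x = 1 := fun x hx => Subtype.ext (by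
    rw [Subgroup.coe_mul, Subgroup.coe_one, ← pow_two, ← hx, pow_orderOf_eq_one])
  have hcc := hsqS c' hc2
  have hdd := hsqS d' hd2
  -- conjugation by the first and the second coordinate agree
  have hsame : ∀ x : S, x * x = 1 → ∀ n ∈ N, W.ι (x, 1) * n * W.ι (x, 1) = W.ι (1, x) * n * W.ι (1, x) := by
    intro x hx n hn
    have h1 : W.ι (x, 1) = W.ι (1, x) * C.e x := by rw [← W.diag, ← map_mul]; simp [hx]
    have h2 : W.ι (x, 1) = C.e x * W.ι (1, x) := by rw [← W.diag, ← map_mul]; simp [hx]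
    nth_rw 1 [h1, h2]
    calc W.ι (1, x) * C.e x * n * (C.e x * W.ι (1, x)) = W.ι (1, x) * (C.e x * n) * C.e x * W.ι (1, x) := by group
      _ = W.ι (1, x) * n * (C.e x * C.e x) * W.ι (1, x) := by rw [← hdiag x hx n hn]; group
      _ = _ := by rw [← map_mul, ← Subgroup.coe_mul, hx, Subgroup.coe_one, map_one, mul_one]
  set k1 := W.ι (c', 1) with hk1
  set l1 := W.ι (d', 1) with hl1
  set l2 := W.ι (1, d') with hl2
  have hkl : Commute k1 l2 := (show Commute ((c', 1) : S × S) (1, d') from Prod.ext (by simp) (by simp)).map W.ι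
  have hz : W.z1 F = k1 * l1 * k1 * l1 := by
    rw [hk1, hl1, ← map_mul, ← map_mul, ← map_mul, z1]
    exact congrArg W.ι (Prod.ext (Subtype.ext hcd.symm) (by simp))
  intro n hn
  have hk : ∀ p ∈ N, k1 * p * k1 ∈ N := fun p hp => by
    have h := hT (c', 1) p hp
    rwa [hinv _ (by simp [hcc])] at h
  have hl : l1 * n * l1 ∈ N := by
    have h := hT (d', 1) n hn
    rwa [hinv _ (by simp [hdd])] at h
  have h3 : k1 * (l1 * n * l1) * k1 = l1 * (k1 * n * k1) * l1 := by
    rw [hsame d' hdd n hn, hsame d' hdd (k1 * n * k1) (hk n hn), ← hl2]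
    calc k1 * (l2 * n * l2) * k1 = (k1 * l2) * n * (l2 * k1) := by group
      _ = (l2 * k1) * n * (k1 * l2) := by rw [hkl.eq]
      _ = _ := by group
  have hkk : k1 * k1 = 1 := by rw [hk1, ← map_mul, Prod.mk_mul_mk, hcc, one_mul, ← Prod.one_eq_mk, map_one]
  have hll : l1 * l1 = 1 := by rw [hl1, ← map_mul, Prod.mk_mul_mk, hdd, one_mul, ← Prod.one_eq_mk, map_one]
  rw [hz]
  calc k1 * l1 * k1 * l1 * n = k1 * l1 * k1 * (l1 * n * l1) * (k1 * k1) * l1 := by
        rw [hkk]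
        calc k1 * l1 * k1 * l1 * n = k1 * l1 * k1 * l1 * n * (l1 * l1) := by rw [hll, mul_one]
          _ = _ := by group
    _ = k1 * l1 * (k1 * (l1 * n * l1) * k1) * (k1 * l1) := by group
    _ = k1 * (l1 * l1) * k1 * n * (k1 * l1 * (k1 * l1)) := by rw [h3]; group
    _ = n * (k1 * l1 * k1 * l1) := by rw [hll, mul_one, hkk, one_mul]; group

/-- In `C(z₁ z₂)` the conjugates of `z₁` are trivial. -/
theorem unique {x : G} (hx : CW G0 (W.z1 F) x) (hxa : x * W.za F = W.za F * x)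
    (hxz : CW G0 (W.z2 F) (x * W.za F)) : x = W.z1 F := by
  have hxG : x ∈ G0 := by
    obtain ⟨g, -, rfl⟩ := hx
    exact H.conj_mem (H.T0_le (W.z1_mem F)) g
  have hxx : x * x = 1 := by
    obtain ⟨g, -, rfl⟩ := hx
    calc g * W.z1 F * g⁻¹ * (g * W.z1 F * g⁻¹) = g * (W.z1 F * W.z1 F) * g⁻¹ := by group
      _ = 1 := by rw [H.z1_sq F]; group
  -- `x` is a conjugate of `z₁` within the centraliser
  obtain ⟨c, hc, hca, p, hp⟩ := H.absorb F hxG hxa hxx
  have hp1 := H.type_z1 F (p := p) (hx.trans ⟨c, hc, hp.symm⟩)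
  have hp2 : CW G0 (W.z2 F) (W.ι (p.1 * F.zS, F.zS)) := by
    refine hxz.trans ⟨c, hc, ?_⟩
    calc c * (x * W.za F) * c⁻¹ = c * x * c⁻¹ * (c * W.za F * c⁻¹) := by group
      _ = W.ι p * W.za F := by rw [hp, hca, mul_inv_cancel_right]
      _ = _ := by rw [za, ← map_mul]; exact congrArg W.ι (Prod.ext rfl (by simp [hp1.2]))
  have h4 : p.1 * F.zS = 1 := (H.type_z2 F hp2).1
  have h5 : p.1 = F.zS := by
    have h6 : p.1 * F.zS * F.zS = F.zS := by rw [h4, one_mul]
    rwa [mul_assoc, F.zS_sq, mul_one] at h6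
  have hcx : c * x * c⁻¹ = W.z1 F := by rw [← hp, z1]; exact congrArg W.ι (Prod.ext h5 hp1.2)
  -- Glauberman
  set H0 := G0 ⊓ Subgroup.centralizer ({W.za F} : Set G) with hH0
  have hle := H.T0_le_H0 F
  let P : Sylow 2 H0 := ((W.T0_two F.S_two).comap_subtype (H := W.T0) (K := H0)).toSylow
    (H.relIndex_le hle inf_le_left)
  have hz1H : W.z1 F ∈ H0 := hle (W.z1_mem F)
  obtain ⟨N, hNn, hNodd, hNc⟩ := Cfsg.Agent.S0215.result P (⟨W.z1 F, hz1H⟩ : H0)
    (orderOf_eq_prime (Subtype.ext (by rw [pow_two]; exact H.z1_sq F))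
      fun h => W.z1_ne_one F (congrArg Subtype.val h))
    (W.z1_mem F) (fun g hg => Subtype.ext (H.isolated F g.2.1 (Subgroup.mem_centralizer_singleton_iff.mp g.2.2) hg))
  set N1 := N.map H0.subtype
  set N3 := N1 ⊓ cmap C.t N1 with hN3
  have hH0t : ∀ h ∈ H0, C.t * h * C.t ∈ H0 := by
    intro h hh
    refine ⟨by have := H.conj_mem hh.1 C.t; rwa [C.t_inv] at this, Subgroup.mem_centralizer_singleton_iff.mpr ?_⟩
    have h1 := Subgroup.mem_centralizer_singleton_iff.mp hh.2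
    calc C.t * h * C.t * W.za F = C.t * h * (C.t * W.za F * C.t) * C.t := by
          rw [mul_assoc (C.t * h) (C.t * W.za F * C.t), mul_assoc (C.t * W.za F), C.t_sq, mul_one]; group
      _ = C.t * (h * W.za F) * C.t := by rw [W.t_za F]; group
      _ = C.t * (C.t * W.za F * C.t) * h * C.t := by rw [h1, W.t_za F]; group
      _ = _ := by rw [← mul_assoc C.t (C.t * W.za F) C.t, C.tt]; group
  have hN1H : ∀ n ∈ N1, n ∈ H0 := fun n hn => Subgroup.map_subtype_le _ hn
  have hN1n : ∀ h ∈ H0, ∀ n ∈ N1, h * n * h⁻¹ ∈ N1 := by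
    rintro h hh n ⟨q, hq, rfl⟩
    exact ⟨⟨h, hh⟩ * q * ⟨h, hh⟩⁻¹, hNn.conj_mem q hq _, rfl⟩
  have hodd : Odd (Nat.card N3) := by
    refine Odd.of_dvd_nat ?_ (Subgroup.card_dvd_of_le inf_le_left)
    rw [Subgroup.card_map_of_injective H0.subtype_injective]
    exact hNodd
  have hconj : ∀ h ∈ G0, h * W.za F = W.za F * h → ∀ n ∈ N3, h * n * h⁻¹ ∈ N3 := by
    intro h hh hha n hn
    have hhH : h ∈ H0 := ⟨hh, Subgroup.mem_centralizer_singleton_iff.mpr hha⟩
    refine ⟨hN1n h hhH n hn.1, ?_⟩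
    obtain ⟨q, hq, hqn⟩ := mem_cmap.mp hn.2
    refine mem_cmap.mpr ⟨(C.t * h * C.t) * q * (C.t * h * C.t)⁻¹, hN1n _ (hH0t h hhH) q hq, ?_⟩
    rw [← hqn, mul_inv_rev, mul_inv_rev, C.t_inv]
    calc C.t * (C.t * h * C.t * q * (C.t * (h⁻¹ * C.t))) * C.t = (C.t * C.t) * h * (C.t * q * C.t) * h⁻¹ * (C.t * C.t) := by
          group
      _ = _ := by rw [C.t_sq, one_mul, mul_one]
  have hNt : ∀ n ∈ N3, C.t * n * C.t ∈ N3 := by
    intro n hn
    refine ⟨?_, mem_cmap.mpr ⟨n, hn.1, by rw [C.t_inv]⟩⟩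
    obtain ⟨q, hq, rfl⟩ := mem_cmap.mp hn.2
    rwa [C.t_inv, show C.t * (C.t * q * C.t) * C.t = q by rw [← mul_assoc, C.tt, mul_assoc, C.t_sq, mul_one]]
  have hz1c := H.cent_odd F E hodd (fun n hn => Subgroup.mem_centralizer_singleton_iff.mp (hN1H n hn.1).2) hconj hNt
  -- the commutator with `z₁` lies in both
  have hcomm : ∀ g ∈ H0, W.z1 F * g * W.z1 F * g⁻¹ ∈ N1 := by
    intro g hg
    refine ⟨_, hNc ⟨g, hg⟩, ?_⟩
    show W.z1 F * g * (W.z1 F)⁻¹ * g⁻¹ = _
    rw [inv_eq_of_mul_eq_one_right (H.z1_sq F)]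
  have hw : W.z1 F * x * W.z1 F * x⁻¹ ∈ N1 := hcomm x ⟨hxG, Subgroup.mem_centralizer_singleton_iff.mpr hxa⟩
  have hdiff : ∀ g ∈ H0, W.z1 F * g * W.z1 F * g⁻¹ ∈ N3 := by
    intro g hg
    refine ⟨hcomm g hg, mem_cmap.mpr ⟨_, hcomm _ (hH0t g hg), ?_⟩⟩
    have hzt : C.t * W.z1 F * C.t = W.z1 F * W.za F := by rw [W.t_z1 F, H.z2_eq F]
    have hga : W.za F * g = g * W.za F := (Subgroup.mem_centralizer_singleton_iff.mp hg.2).symm
    have hza2 : W.za F * W.za F = 1 := by rw [za, ← map_mul, Prod.mk_mul_mk, F.zS_sq, ← Prod.one_eq_mk, map_one]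
    have hz1a : W.za F * W.z1 F = W.z1 F * W.za F := (W.comm_T0 F (Or.inr (Or.inr rfl)) _ (W.z1_mem F)).symm
    rw [mul_inv_rev, mul_inv_rev, C.t_inv]
    calc C.t * (W.z1 F * (C.t * g * C.t) * W.z1 F * (C.t * (g⁻¹ * C.t))) * C.t
        = (C.t * W.z1 F * C.t) * g * (C.t * W.z1 F * C.t) * g⁻¹ * (C.t * C.t) := by group
      _ = W.z1 F * (W.za F * g) * W.z1 F * W.za F * g⁻¹ := by rw [hzt, C.t_sq]; group
      _ = W.z1 F * g * (W.za F * W.z1 F) * W.za F * g⁻¹ := by rw [hga]; group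
      _ = W.z1 F * g * W.z1 F * (W.za F * W.za F) * g⁻¹ := by rw [hz1a]; group
      _ = _ := by rw [hza2, mul_one]
  -- so `x` differs from `z₁` by an element of the odd group centralised by `z₁`
  have ho : W.z1 F * c⁻¹ * W.z1 F * c ∈ N3 := by
    have := hdiff c⁻¹ (H0.inv_mem ⟨hc, Subgroup.mem_centralizer_singleton_iff.mpr hca⟩)
    rwa [inv_inv] at this
  set o := W.z1 F * c⁻¹ * W.z1 F * c with hodef
  have hxo : x = W.z1 F * o := by
    rw [hodef]
    calc x = c⁻¹ * (c * x * c⁻¹) * c := by group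
      _ = 1 * c⁻¹ * W.z1 F * c := by rw [hcx]; group
      _ = _ := by rw [← H.z1_sq F]; group
  have hoo : o * o = 1 := by
    calc o * o = (W.z1 F * W.z1 F) * (o * o) := by rw [H.z1_sq F, one_mul]
      _ = W.z1 F * (W.z1 F * o) * o := by group
      _ = x * x := by rw [hz1c o ho, hxo]; group
      _ = 1 := hxx
  rw [hxo, eq_one_of_sq hodd ho hoo, mul_one]

end Even

end Wreath

end Cfsg.Lib.StdWreath
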