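import Cfsg.Agent.StdWreath.First
import Cfsg.Agent.StdWreath.Wreath
import Cfsg.Agent.S0111

/-!
The end game, first part: `t` is not fused into `T₀ = S × S`, so `T₀⟨t⟩` is a Sylow subgroup and a subgroup of index 2
has `T₀` as Sylow subgroup.
-/

set_option autoImplicit false
set_option linter.unusedSectionVars false

namespace Cfsg.Lib.StdWreath

universe u v

variable {G : Type u} {M : Type v} [Group G] [Group M] {C : Cfg G M} {S : Subgroup M}

namespace Wreath

variable (W : Wreath C S)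

/-- The image of `S × S`. -/
def T0 : Subgroup G := W.ι.range

/-- The image of `A × B`. -/
def pr (A B : Subgroup M) : Subgroup G := ((A.subgroupOf S).prod (B.subgroupOf S)).map W.ι

theorem mem_pr {A B : Subgroup M} {g : G} :
    g ∈ W.pr A B ↔ ∃ x y : S, (x : M) ∈ A ∧ (y : M) ∈ B ∧ W.ι (x, y) = g := by
  rw [pr, Subgroup.mem_map]
  constructor
  · rintro ⟨⟨x, y⟩, ⟨hx, hy⟩, h⟩; exact ⟨x, y, hx, hy, h⟩
  · rintro ⟨x, y, hx, hy, h⟩; exact ⟨(x, y), ⟨hx, hy⟩, h⟩

theorem pr_le (A B : Subgroup M) : W.pr A B ≤ W.T0 := fun _ hg => by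
  obtain ⟨x, y, -, -, h⟩ := W.mem_pr.mp hg
  exact ⟨(x, y), h⟩

theorem pr_self : W.pr S S = W.T0 := by
  refine le_antisymm (W.pr_le S S) ?_
  rintro g ⟨⟨x, y⟩, rfl⟩
  exact W.mem_pr.mpr ⟨x, y, x.2, y.2, rfl⟩

theorem card_pr {A B : Subgroup M} (hA : A ≤ S) (hB : B ≤ S) :
    Nat.card (W.pr A B) = Nat.card A * Nat.card B := by
  rw [pr, Subgroup.card_map_of_injective W.inj, Nat.card_congr (Subgroup.prodEquiv _ _).toEquiv, Nat.card_prod,
    Nat.card_congr (Subgroup.subgroupOfEquivOfLe hA).toEquiv, Nat.card_congr (Subgroup.subgroupOfEquivOfLe hB).toEquiv]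

theorem pr_two (hS : IsPGroup 2 S) (A B : Subgroup M) : IsPGroup 2 (W.pr A B) := by
  refine (IsPGroup.map ?_ W.ι)
  intro p
  obtain ⟨i, hi⟩ := hS p.1.1
  obtain ⟨j, hj⟩ := hS p.1.2
  refine ⟨i + j, Subtype.ext (Prod.ext ?_ ?_)⟩
  · show p.1.1 ^ 2 ^ (i + j) = 1
    rw [pow_add, pow_mul, hi, one_pow]
  · show p.1.2 ^ 2 ^ (i + j) = 1
    rw [pow_add, mul_comm, pow_mul, hj, one_pow]

theorem T0_two (hS : IsPGroup 2 S) : IsPGroup 2 W.T0 := W.pr_self ▸ W.pr_two hS S S

theorem t_not_T0 : C.t ∉ W.T0 := by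
  rintro ⟨⟨x, y⟩, h⟩
  have h2 := W.flip x y
  rw [h, C.t_sq, one_mul, ← h] at h2
  have h3 : x = y := congrArg Prod.fst (W.inj h2)
  rw [h3, W.diag] at h
  exact C.t_not _ h

theorem flip_mem {g : G} (hg : g ∈ W.T0) : C.t * g * C.t ∈ W.T0 := by
  obtain ⟨⟨x, y⟩, rfl⟩ := hg
  exact ⟨(y, x), (W.flip x y).symm⟩

/-- `T₀⟨t⟩`. -/
def TT : Subgroup G where
  carrier := {g | g ∈ W.T0 ∨ g * C.t ∈ W.T0}
  one_mem' := Or.inl W.T0.one_mem
  mul_mem' := by
    rintro a b (ha | ha) (hb | hb)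
    · exact Or.inl (W.T0.mul_mem ha hb)
    · exact Or.inr (by rw [mul_assoc]; exact W.T0.mul_mem ha hb)
    · refine Or.inr ?_
      have h := W.T0.mul_mem ha (W.flip_mem hb)
      rwa [show a * C.t * (C.t * b * C.t) = a * b * C.t by
        rw [← mul_assoc, ← mul_assoc, mul_assoc a C.t C.t, C.t_sq, mul_one]] at h
    · refine Or.inl ?_
      have h := W.T0.mul_mem ha (W.flip_mem hb)
      rwa [show a * C.t * (C.t * (b * C.t) * C.t) = a * b by
        rw [mul_assoc C.t (b * C.t), mul_assoc b, C.t_sq, mul_one, mul_assoc a, C.tt]] at h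
  inv_mem' := by
    rintro a (ha | ha)
    · exact Or.inl (W.T0.inv_mem ha)
    · refine Or.inr ?_
      have h := W.flip_mem (W.T0.inv_mem ha)
      rwa [mul_inv_rev, C.t_inv, ← mul_assoc, C.t_sq, one_mul] at h

theorem T0_le_TT : W.T0 ≤ W.TT := fun _ h => Or.inl h

theorem t_mem_TT : C.t ∈ W.TT := Or.inr (by rw [C.t_sq]; exact W.T0.one_mem)

variable [Finite G]

theorem relIndex_TT : W.T0.relIndex W.TT = 2 := by
  rw [Subgroup.relIndex_eq_two_iff]
  refine ⟨C.t, W.t_mem_TT, fun g hg => ?_⟩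
  rcases hg with h | h
  · refine Or.inr ⟨h, fun h2 => W.t_not_T0 ?_⟩
    have := W.T0.mul_mem (W.T0.inv_mem h) h2
    rwa [inv_mul_cancel_left] at this
  · refine Or.inl ⟨h, fun h2 => W.t_not_T0 ?_⟩
    have := W.T0.mul_mem (W.T0.inv_mem h2) h
    rwa [inv_mul_cancel_left] at this

theorem TT_two (hS : IsPGroup 2 S) : IsPGroup 2 W.TT := by
  intro g
  have key : ((g : G) * g) ∈ W.T0 := by
    rcases g.2 with h | h
    · exact W.T0.mul_mem h h
    · have := W.T0.mul_mem h (W.flip_mem h)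
      rwa [show (g : G) * C.t * (C.t * ((g : G) * C.t) * C.t) = g * g by
        rw [mul_assoc C.t, mul_assoc (g : G) C.t C.t, C.t_sq, mul_one, mul_assoc (g : G), C.tt]] at this
  obtain ⟨i, hi⟩ := W.T0_two hS ⟨_, key⟩
  refine ⟨i + 1, Subtype.ext ?_⟩
  have h2 := congrArg Subtype.val hi
  simp only [Subgroup.coe_pow, Subgroup.coe_one] at h2 ⊢
  rw [pow_succ', pow_mul, pow_two, h2]

variable [Finite M] {V U : Subgroup M} {z b : M} (E : Exact C) (F : Facts24 V U S z b)
include E F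

theorem card_T0 : Nat.card W.T0 = 2 ^ 20 := by
  rw [← W.pr_self, W.card_pr le_rfl le_rfl, F.card_S, ← pow_add]

theorem card_TT : Nat.card W.TT = 2 ^ 21 := by
  rw [← card_mul_rel W.T0_le_TT, W.relIndex_TT, W.card_T0 E F]; norm_num

omit W in
/-- A 2-group in the centraliser of `t` has order at most `2 |S|`. -/
theorem card_le_of_cent {P : Subgroup G} (hP : IsPGroup 2 P) (hc : ∀ p ∈ P, p * C.t = C.t * p) :
    Nat.card P ≤ 2 ^ 11 := by
  let π : P →* M :=
    { toFun := fun p => mPart C p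
      map_one' := by
        show mPart C ((1 : P) : G) = 1
        rw [Subgroup.coe_one, ← map_one C.e, E.mPart_e]
      map_mul' := fun p q => E.mPart_mul (hc p p.2) (hc q q.2) }
  have h2 : IsPGroup 2 π.range := hP.of_surjective π.rangeRestrict π.rangeRestrict_surjective
  obtain ⟨k, hk⟩ := IsPGroup.iff_card.mp h2
  have hd : Nat.card π.range ∣ Nat.card S := by
    have h1 := Subgroup.card_subgroup_dvd_card π.range
    rw [← Subgroup.card_mul_index S] at h1
    refine Nat.Coprime.dvd_of_dvd_mul_right ?_ h1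
    rw [hk]
    exact Nat.Coprime.pow_left _ ((Nat.Prime.coprime_iff_not_dvd Nat.prime_two).mpr F.S_sylow)
  have hker : Nat.card π.ker ≤ 2 := by
    classical
    have hinj : Function.Injective fun p : π.ker => decide (((p : P) : G) = 1) := by
      intro p q hpq
      simp only [decide_eq_decide] at hpq
      have hcase : ∀ r : π.ker, ((r : P) : G) = 1 ∨ ((r : P) : G) = C.t := fun r => by
        obtain ⟨i, hi⟩ := hP (r : P)
        refine E.eq_of_mPart_one (hc _ (r : P).2) (MonoidHom.mem_ker.mp r.2) (k := i) ?_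
        have := congrArg Subtype.val hi
        simpa using this
      refine Subtype.ext (Subtype.ext ?_)
      rcases hcase p with h | h
      · rw [h, hpq.mp h]
      · rcases hcase q with h' | h'
        · rw [h', hpq.mpr h']
        · rw [h, h']
    have := Nat.card_le_card_of_injective _ hinj
    simpa using this
  rw [Subgroup.card_eq_card_quotient_mul_card_subgroup π.ker,
    Nat.card_congr (QuotientGroup.quotientKerEquivRange π).toEquiv]
  calc Nat.card π.range * Nat.card π.ker ≤ Nat.card S * 2 :=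
        Nat.mul_le_mul (Nat.le_of_dvd Nat.card_pos hd) hker
    _ = 2 ^ 11 := by rw [F.card_S]; norm_num

theorem not_conj_t {g w : G} (hw : w ∈ W.T0) : g * C.t * g⁻¹ ≠ w := by
  intro h
  obtain ⟨⟨x, y⟩, rfl⟩ := hw
  have hsq : (x, y) * (x, y) = 1 := W.inj (by
    rw [map_mul, map_one, ← h]
    calc g * C.t * g⁻¹ * (g * C.t * g⁻¹) = g * (C.t * C.t) * g⁻¹ := by group
      _ = 1 := by rw [C.t_sq]; group)
  have hx : (x : M) * x = 1 := congrArg (fun p : S × S => (p.1 : M)) hsq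
  have hy : (y : M) * y = 1 := congrArg (fun p : S × S => (p.2 : M)) hsq
  set A := S ⊓ Subgroup.centralizer ({(x : M)} : Set M)
  set B := S ⊓ Subgroup.centralizer ({(y : M)} : Set M)
  have hcard : 2 ^ 12 ≤ Nat.card (cmap g⁻¹ (W.pr A B)) := by
    rw [cmap_card, W.card_pr inf_le_left inf_le_left]
    calc 2 ^ 12 = 64 * 64 := by norm_num
      _ ≤ _ := Nat.mul_le_mul (F.big_centralizers x x.2 hx) (F.big_centralizers y y.2 hy)
  have hle := card_le_of_cent E F ((W.pr_two F.S_two A B).map (MulAut.conj g⁻¹).toMonoidHom) (fun p hp => by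
    obtain ⟨q, hq, rfl⟩ := mem_cmap.mp hp
    obtain ⟨p1, p2, hp1, hp2, rfl⟩ := W.mem_pr.mp hq
    have hcomm : Commute (p1, p2) (x, y) := Prod.ext
      (Subtype.ext (Subgroup.mem_centralizer_singleton_iff.mp hp1.2))
      (Subtype.ext (Subgroup.mem_centralizer_singleton_iff.mp hp2.2))
    have h2 : W.ι (p1, p2) * (g * C.t * g⁻¹) = g * C.t * g⁻¹ * W.ι (p1, p2) := by
      rw [h]; exact (hcomm.map W.ι).eq
    calc g⁻¹ * W.ι (p1, p2) * g⁻¹⁻¹ * C.t = g⁻¹ * (W.ι (p1, p2) * (g * C.t * g⁻¹)) * g := by group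
      _ = g⁻¹ * (g * C.t * g⁻¹ * W.ι (p1, p2)) * g := by rw [h2]
      _ = _ := by group)
  have h12 : (2 : ℕ) ^ 12 ≤ 2 ^ 11 := hcard.trans hle
  norm_num at h12

/-- A conjugate of `t` in `T₀⟨t⟩` is conjugate to `t` by an element of `T₀`. -/
theorem conj_in_TT {g : G} (hg : g * C.t * g⁻¹ ∈ W.TT) :
    ∃ x : S, g * C.t * g⁻¹ = W.ι (x, 1) * C.t * (W.ι (x, 1))⁻¹ := by
  rcases hg with h | h
  · exact absurd rfl (W.not_conj_t E F (g := g) h)
  · obtain ⟨⟨x, y⟩, hxy⟩ := h
    have hs : g * C.t * g⁻¹ = W.ι (x, y) * C.t := by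
      rw [hxy, mul_assoc (g * C.t * g⁻¹), C.t_sq, mul_one]
    have hy : y = x⁻¹ := by
      have h1 : W.ι (x, y) * W.ι (y, x) = W.ι 1 := by
        rw [← W.flip x y, map_one]
        calc W.ι (x, y) * (C.t * W.ι (x, y) * C.t) = (W.ι (x, y) * C.t) * (W.ι (x, y) * C.t) := by group
          _ = g * (C.t * C.t) * g⁻¹ := by rw [← hs]; group
          _ = 1 := by rw [C.t_sq]; group
      rw [← map_mul] at h1
      exact (eq_inv_of_mul_eq_one_right (congrArg Prod.fst (W.inj h1)))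
    refine ⟨x, ?_⟩
    rw [hs, hy, mul_assoc (W.ι (x, 1)), ← map_inv, show ((x, 1) : S × S)⁻¹ = (x⁻¹, 1) by simp]
    calc W.ι (x, x⁻¹) * C.t = W.ι (x, 1) * (W.ι (1, x⁻¹) * C.t) := by
          rw [← mul_assoc, ← map_mul]; simp
      _ = _ := by
        rw [← W.flip x⁻¹ 1]
        calc W.ι (x, 1) * (C.t * W.ι (x⁻¹, 1) * C.t * C.t) = W.ι (x, 1) * (C.t * W.ι (x⁻¹, 1) * (C.t * C.t)) := by group
          _ = _ := by rw [C.t_sq, mul_one]

theorem TT_sylow : ¬ 2 ∣ W.TT.index := by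
  obtain ⟨P, hP⟩ := (W.TT_two F.S_two).exists_le_sylow
  suffices h : (P : Subgroup G) = W.TT by
    rw [← h]; exact Sylow.not_dvd_index P
  by_contra hne
  haveI : Fact (Nat.Prime 2) := ⟨Nat.prime_two⟩
  haveI : Group.IsNilpotent (P : Subgroup G) := P.isPGroup'.isNilpotent
  set Q := W.TT.subgroupOf (P : Subgroup G) with hQ
  have hQlt : Q < ⊤ := lt_top_iff_ne_top.mpr fun h => hne (le_antisymm (Subgroup.subgroupOf_eq_top.mp h) hP)
  obtain ⟨p, hpN, hpQ⟩ := SetLike.exists_of_lt (Group.normalizerCondition_of_isNilpotent Q hQlt)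
  have hnorm : ∀ w ∈ W.TT, (p : G) * w * (p : G)⁻¹ ∈ W.TT := fun w hw =>
    (Subgroup.mem_normalizer_iff.mp hpN ⟨w, hP hw⟩).mp hw
  obtain ⟨x, hx⟩ := W.conj_in_TT E F (hnorm _ W.t_mem_TT)
  set h := (W.ι (x, 1))⁻¹ * (p : G) with hh
  have hxT : W.ι (x, 1) ∈ W.TT := W.T0_le_TT ⟨_, rfl⟩
  have hht : h * C.t = C.t * h := by
    calc h * C.t = (W.ι (x, 1))⁻¹ * ((p : G) * C.t * (p : G)⁻¹) * p := by rw [hh]; group
      _ = _ := by rw [hx, hh]; group
  have hhT : h ∈ W.TT := by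
    -- the 2-group `P ∩ C(t)` is no larger than its intersection with `T₀⟨t⟩`
    set R := (P : Subgroup G) ⊓ Subgroup.centralizer ({C.t} : Set G)
    have hR2 : IsPGroup 2 R := P.isPGroup'.to_le inf_le_left
    have hle := card_le_of_cent E F hR2 (fun r hr => Subgroup.mem_centralizer_singleton_iff.mp hr.2)
    let f : Bool × S → R := fun q => ⟨(if q.1 then C.t else 1) * W.ι (q.2, q.2), by
      refine ⟨hP (W.TT.mul_mem ?_ (W.T0_le_TT ⟨_, rfl⟩)), ?_⟩
      · split_ifs
        exacts [W.t_mem_TT, W.TT.one_mem]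
      · refine Subgroup.mem_centralizer_singleton_iff.mpr ?_
        rw [W.diag]
        split_ifs
        · rw [mul_assoc, ← C.t_comm]
        · rw [one_mul, C.t_comm]⟩
    have hf : Function.Injective f := by
      rintro ⟨i, a⟩ ⟨j, c⟩ h
      have h2 : (if i then C.t else 1) * W.ι (a, a) = (if j then C.t else 1) * W.ι (c, c) := congrArg Subtype.val h
      rcases i with _ | _ <;> rcases j with _ | _ <;> simp only [Bool.false_eq_true, ↓reduceIte, one_mul] at h2
      · exact Prod.ext rfl (congrArg Prod.fst (W.inj h2))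
      · exfalso
        refine W.t_not_T0 ?_
        rw [show C.t = W.ι (a, a) * (W.ι (c, c))⁻¹ by rw [h2, mul_inv_cancel_right]]
        exact W.T0.mul_mem ⟨_, rfl⟩ (W.T0.inv_mem ⟨_, rfl⟩)
      · exfalso
        refine W.t_not_T0 ?_
        rw [show C.t = W.ι (c, c) * (W.ι (a, a))⁻¹ by rw [← h2, mul_inv_cancel_right]]
        exact W.T0.mul_mem ⟨_, rfl⟩ (W.T0.inv_mem ⟨_, rfl⟩)
      · exact Prod.ext rfl (congrArg Prod.fst (W.inj (mul_left_cancel h2)))
    have hcard : Nat.card (Bool × S) = 2 ^ 11 := by rw [Nat.card_prod, F.card_S]; simp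
    have hbij : Function.Bijective f := (Nat.bijective_iff_injective_and_card f).mpr
      ⟨hf, le_antisymm (Nat.card_le_card_of_injective f hf) (hcard ▸ hle)⟩
    obtain ⟨q, hq⟩ := hbij.2 ⟨h, (P : Subgroup G).mul_mem (inv_mem (hP hxT)) p.2,
      Subgroup.mem_centralizer_singleton_iff.mpr hht⟩
    rw [show h = (f q : G) from (congrArg Subtype.val hq).symm]
    refine W.TT.mul_mem ?_ (W.T0_le_TT ⟨_, rfl⟩)
    split_ifs
    exacts [W.t_mem_TT, W.TT.one_mem]
  refine hpQ ?_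
  show (p : G) ∈ W.TT
  have := W.TT.mul_mem hxT hhT
  rwa [hh, mul_inv_cancel_left] at this

end Wreath

end Cfsg.Lib.StdWreath
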