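import Cfsg.Agent.StdWreath.EndRoots

/-!
The end game, fourth part: the types of the conjugates of `z₁` and `z₂` inside `T₀`.
-/

set_option autoImplicit false
set_option linter.unusedSectionVars false

namespace Cfsg.Lib.StdWreath

universe u v

variable {G : Type u} {M : Type v} [Group G] [Group M] {C : Cfg G M} {S : Subgroup M}

theorem two_mul_card_le [Finite G] {A B : Subgroup G} (hB : IsPGroup 2 B) (h : A < B) :
    2 * Nat.card A ≤ Nat.card B := by
  have h1 : Nat.card A * A.relIndex B = Nat.card B := card_mul_rel h.le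
  have h2 : A.relIndex B ≠ 1 := fun h3 => h.not_ge (Subgroup.relIndex_eq_one.mp h3)
  have h0 : A.relIndex B ≠ 0 := fun h3 => Nat.card_pos.ne (by rw [← h1, h3, mul_zero])
  calc 2 * Nat.card A ≤ A.relIndex B * Nat.card A := Nat.mul_le_mul_right _ (by omega)
    _ = Nat.card B := by rw [mul_comm, h1]

theorem exists_big [Finite G] {H0 P Q : Subgroup G} (hP : IsPGroup 2 P) (hQ : IsPGroup 2 Q) (hPH : P ≤ H0)
    (hQH : Q ≤ H0) : ∃ R : Subgroup G, IsPGroup 2 R ∧ R ≤ H0 ∧ P ≤ R ∧ Nat.card Q ≤ Nat.card R := by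
  obtain ⟨P', hP'⟩ := (hP.comap_subtype (H := P) (K := H0)).exists_le_sylow
  obtain ⟨Q', hQ'⟩ := (hQ.comap_subtype (H := Q) (K := H0)).exists_le_sylow
  refine ⟨(P' : Subgroup H0).map H0.subtype, P'.isPGroup'.map _, Subgroup.map_subtype_le _,
    fun p hp => ⟨⟨p, hPH hp⟩, hP' (show (⟨p, hPH hp⟩ : H0) ∈ P.subgroupOf H0 from hp), rfl⟩, ?_⟩
  rw [Subgroup.card_map_of_injective H0.subtype_injective, P'.card_eq_multiplicity, ← Q'.card_eq_multiplicity,
    ← Nat.card_congr (Subgroup.subgroupOfEquivOfLe hQH).toEquiv]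
  exact Nat.card_le_card_of_injective (Subgroup.inclusion hQ') (Subgroup.inclusion_injective hQ')

namespace Wreath

variable (W : Wreath C S) {V U : Subgroup M} {z b : M} (F : Facts24 V U S z b)

/-- `(b, 1)` and `(b, z)` commute with this. -/
def C0 : Subgroup G := W.pr (S ⊓ Subgroup.centralizer ({b} : Set M)) S

variable [Finite M]

theorem card_C0 (F : Facts24 V U S z b) : Nat.card (W.C0 (b := b)) = 2 ^ 19 := by
  have h := card_mul_rel (show S ⊓ Subgroup.centralizer ({b} : Set M) ≤ S from inf_le_left)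
  rw [F.centralizer_b_index, F.card_S] at h
  rw [C0, W.card_pr inf_le_left le_rfl, F.card_S]
  have : Nat.card (S ⊓ Subgroup.centralizer ({b} : Set M) : Subgroup M) = 512 := by norm_num at h ⊢; omega
  rw [this]; norm_num

namespace Even

variable {W} {G0 : Subgroup G} (H : W.Even G0) [Finite G]
include H F

theorem comm_C0 {y : S} (hy : y = 1 ∨ y = F.zS) :
    ∀ h ∈ W.C0 (b := b), h * W.ι (F.bS, y) = W.ι (F.bS, y) * h := by
  intro h hh
  obtain ⟨p, q, hp, -, rfl⟩ := W.mem_pr.mp hh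
  rw [← map_mul, ← map_mul]
  refine congrArg W.ι (Prod.ext (Subtype.ext (Subgroup.mem_centralizer_singleton_iff.mp hp.2)) (Subtype.ext ?_))
  rcases hy with rfl | rfl
  · show (q : M) * ((1 : S) : M) = ((1 : S) : M) * q
    simp
  · exact ((F.center_S z).mpr (Or.inr rfl)).2 q q.2

theorem b_not_central {y : S} (hy : y = 1 ∨ y = F.zS) {c : G} (hc : c = W.z1 F ∨ c = W.z2 F ∨ c = W.za F) :
    ¬ CW G0 c (W.ι (F.bS, y)) := by
  rintro ⟨g, hg, hgc⟩
  set s := W.ι (F.bS, y) with hsdef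
  set D := W.C0 (b := b) with hD
  have hbz : b * z = z * b := elem_comm F.elemU F.b_mem F.z_mem.1
  have hzC : z ∈ S ⊓ Subgroup.centralizer ({b} : Set M) :=
    ⟨F.U_le F.z_mem.1, Subgroup.mem_centralizer_singleton_iff.mpr hbz.symm⟩
  have hsD : s ∈ D := by
    refine W.mem_pr.mpr ⟨F.bS, y, ⟨F.U_le F.b_mem, Subgroup.mem_centralizer_singleton_iff.mpr rfl⟩, y.2, rfl⟩
  have hz1D : W.z1 F ∈ D := W.mem_pr.mpr ⟨F.zS, 1, hzC, S.one_mem, rfl⟩
  have hz2D : W.z2 F ∈ D := W.mem_pr.mpr ⟨1, F.zS, Subgroup.one_mem _, F.zS.2, rfl⟩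
  have hDle : D ≤ W.T0 := W.pr_le _ _
  set H0 := G0 ⊓ Subgroup.centralizer ({s} : Set G)
  have hDH : D ≤ H0 := fun p hp =>
    ⟨H.T0_le (hDle hp), Subgroup.mem_centralizer_singleton_iff.mpr (H.comm_C0 F hy p hp)⟩
  have hQH : cmap g W.T0 ≤ H0 := fun p hp => by
    obtain ⟨q, hq, rfl⟩ := mem_cmap.mp hp
    refine ⟨H.conj_mem (H.T0_le hq) g, Subgroup.mem_centralizer_singleton_iff.mpr ?_⟩
    rw [← hgc]
    calc g * q * g⁻¹ * (g * c * g⁻¹) = g * (q * c) * g⁻¹ := by group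
      _ = g * (c * q) * g⁻¹ := by rw [W.comm_T0 F hc q hq]
      _ = _ := by group
  have hDc := W.card_C0 F
  rw [← hD] at hDc
  have hT0c : Nat.card W.T0 = 2 ^ 20 := by rw [← W.pr_self, W.card_pr le_rfl le_rfl, F.card_S]; norm_num
  obtain ⟨R, hR2, hRH, hDR, hRc⟩ := exists_big (W.pr_two F.S_two _ S)
    ((W.T0_two F.S_two).map (MulAut.conj g).toMonoidHom) hDH hQH
  have hRc' : 2 ^ 20 ≤ Nat.card R := by
    have h := (cmap_card g W.T0).symm.trans_le hRc
    rwa [hT0c] at h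
  -- an element of `R` outside `D` normalising it
  haveI : Fact (Nat.Prime 2) := ⟨Nat.prime_two⟩
  haveI : Group.IsNilpotent R := hR2.isNilpotent
  have hlt : D.subgroupOf R < ⊤ := lt_top_iff_ne_top.mpr fun h => by
    have hRD := Subgroup.card_le_of_le (Subgroup.subgroupOf_eq_top.mp h)
    rw [hDc] at hRD
    have := hRc'.trans hRD
    norm_num at this
  obtain ⟨n, hnN, hnD⟩ := SetLike.exists_of_lt (Group.normalizerCondition_of_isNilpotent _ hlt)
  have hnorm : ∀ p ∈ D, (n : G) * p * (n : G)⁻¹ ∈ D := fun p hp =>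
    (Subgroup.mem_normalizer_iff.mp hnN ⟨p, hDR hp⟩).mp hp
  have hns : (n : G) * s * (n : G)⁻¹ = s := by
    rw [Subgroup.mem_centralizer_singleton_iff.mp (hRH n.2).2, mul_inv_cancel_right]
  have hcenD : ∀ e ∈ D, (∀ p ∈ D, p * e = e * p) → ∀ p ∈ D,
      p * ((n : G) * e * (n : G)⁻¹) = (n : G) * e * (n : G)⁻¹ * p := by
    intro e _ hec p hp
    obtain ⟨q, hq⟩ := Finite.surjective_of_injective (f := fun q : D => (⟨(n : G) * q * (n : G)⁻¹, hnorm q q.2⟩ : D))
      (fun a c h => Subtype.ext (mul_left_cancel (mul_right_cancel (congrArg Subtype.val h)))) ⟨p, hp⟩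
    have hqp : (n : G) * q * (n : G)⁻¹ = p := congrArg Subtype.val hq
    rw [← hqp]
    calc (n : G) * q * (n : G)⁻¹ * ((n : G) * e * (n : G)⁻¹) = (n : G) * (q * e) * (n : G)⁻¹ := by group
      _ = (n : G) * (e * q) * (n : G)⁻¹ := by rw [hec q q.2]
      _ = _ := by group
  have hcomm : ∀ e, (e = W.z1 F ∨ e = W.z2 F ∨ e = W.za F) → ∀ p ∈ D, p * e = e * p :=
    fun e he p hp => W.comm_T0 F he p (hDle hp)
  have hfix : ∀ e, (e = W.z1 F ∨ e = W.z2 F) → (n : G) * e * (n : G)⁻¹ = e := by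
    intro e he
    have heD : e ∈ D := he.elim (· ▸ hz1D) (· ▸ hz2D)
    have hr := roots_conj hnorm e
    have hc' := hcenD e heD (hcomm e (he.elim Or.inl (fun h => Or.inr (Or.inl h))))
    obtain ⟨p, q, hp, -, hpq⟩ := W.mem_pr.mp (hnorm e heD)
    rw [← hpq] at hr hc' ⊢
    obtain ⟨hp', hq'⟩ := W.central_pr (A := S ⊓ Subgroup.centralizer ({b} : Set M)) (B := S) hc'
    have h1 : (p : M) = 1 ∨ (p : M) = z ∨ (p : M) = b ∨ (p : M) = b * z :=
      (F.center_Cb p).mp ⟨hp, fun s hs => hp' s hs hs.1⟩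
    have h2 : (q : M) = 1 ∨ (q : M) = z := (F.center_S q).mp ⟨q.2, fun s hs => hq' s hs hs⟩
    have r1 : roots (S ⊓ Subgroup.centralizer ({b} : Set M)) z = 32 := F.roots_Cb_z
    have r2 : roots (S ⊓ Subgroup.centralizer ({b} : Set M)) b = 16 := F.roots_Cb_b
    have r3 : roots (S ⊓ Subgroup.centralizer ({b} : Set M)) (b * z) = 16 := F.roots_Cb_bz
    have r4 : roots (S ⊓ Subgroup.centralizer ({b} : Set M)) 1 = 128 := F.roots_Cb_one
    rw [hD, C0, W.roots_pr inf_le_left le_rfl] at hr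
    rcases he with rfl | rfl <;>
      [rw [z1, W.roots_pr inf_le_left le_rfl, F.coe_zS, Subgroup.coe_one, r1, F.roots_S_one] at hr;
       rw [z2, W.roots_pr inf_le_left le_rfl, F.coe_zS, Subgroup.coe_one, r4, F.roots_S_z] at hr] <;>
      rcases h1 with h1 | h1 | h1 | h1 <;> rcases h2 with h2 | h2 <;>
      simp only [h1, h2, r1, r2, r3, r4, F.roots_S_one, F.roots_S_z] at hr <;>
      first
      | omega
      | (rw [show p = 1 from Subtype.ext h1, show q = F.zS from Subtype.ext h2]; rfl)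
      | (rw [show p = F.zS from Subtype.ext h1, show q = 1 from Subtype.ext h2]; rfl)
  -- so `D⟨n⟩` has the order of `T₀` and its centre is too large
  set P := D ⊔ Subgroup.zpowers (n : G) with hPdef
  have hPR : P ≤ R := sup_le hDR ((Subgroup.zpowers_le).mpr n.2)
  have hP2 : IsPGroup 2 P := hR2.to_le hPR
  have hPG : P ≤ G0 := hPR.trans (hRH.trans inf_le_left)
  have hPc : 2 ^ 20 ≤ Nat.card P := by
    have hlt' : D < P := lt_of_le_of_ne le_sup_left fun h => hnD (by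
      show (n : G) ∈ D
      rw [h]; exact Subgroup.mem_sup_right (Subgroup.mem_zpowers _))
    have := two_mul_card_le hP2 hlt'
    rw [hDc] at this
    calc (2 : ℕ) ^ 20 = 2 * 2 ^ 19 := by norm_num
      _ ≤ _ := this
  obtain ⟨k, hk, hkP⟩ := H.conj_into F.S_two hP2 hPG
  have honto : ∀ p ∈ W.T0, ∃ q ∈ P, k * q * k⁻¹ = p := by
    intro p hp
    let f : P → W.T0 := fun q => ⟨k * q * k⁻¹, hkP q q.2⟩
    have hfi : Function.Injective f := fun a c h =>
      Subtype.ext (mul_left_cancel (mul_right_cancel (congrArg Subtype.val h)))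
    obtain ⟨q, hq⟩ := ((Nat.bijective_iff_injective_and_card f).mpr
      ⟨hfi, le_antisymm (Nat.card_le_card_of_injective f hfi) (hT0c.trans_le hPc)⟩).2 ⟨p, hp⟩
    exact ⟨q, q.2, congrArg Subtype.val hq⟩
  have himg : ∀ e ∈ P, (∀ p ∈ D, p * e = e * p) → (n : G) * e * (n : G)⁻¹ = e → e ≠ 1 →
      k * e * k⁻¹ = W.z1 F ∨ k * e * k⁻¹ = W.z2 F ∨ k * e * k⁻¹ = W.za F := by
    intro e he heD hen he1
    have hPe : P ≤ Subgroup.centralizer ({e} : Set G) :=
      sup_le (fun p hp => Subgroup.mem_centralizer_singleton_iff.mpr (heD p hp))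
        ((Subgroup.zpowers_le).mpr (Subgroup.mem_centralizer_singleton_iff.mpr (mul_inv_eq_iff_eq_mul.mp hen)))
    refine (W.central F (hkP e he) ?_).resolve_left fun h => he1 (by
      calc e = k⁻¹ * (k * e * k⁻¹) * k := by group
        _ = 1 := by rw [h]; group)
    intro h hh
    obtain ⟨q, hq, rfl⟩ := honto h hh
    calc k * q * k⁻¹ * (k * e * k⁻¹) = k * (q * e) * k⁻¹ := by group
      _ = k * (e * q) * k⁻¹ := by rw [Subgroup.mem_centralizer_singleton_iff.mp (hPe hq)]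
      _ = _ := by group
  have hfixa : (n : G) * W.za F * (n : G)⁻¹ = W.za F := by
    rw [← W.z1_mul_z2 F]
    calc (n : G) * (W.z1 F * W.z2 F) * (n : G)⁻¹ = (n : G) * W.z1 F * (n : G)⁻¹ * ((n : G) * W.z2 F * (n : G)⁻¹) := by
          group
      _ = _ := by rw [hfix _ (Or.inl rfl), hfix _ (Or.inr rfl)]
  have hzaD : W.za F ∈ D := W.z1_mul_z2 F ▸ D.mul_mem hz1D hz2D
  have hDP : D ≤ P := le_sup_left
  have e1 := himg _ (hDP hz1D) (hcomm _ (Or.inl rfl)) (hfix _ (Or.inl rfl)) (W.z1_ne_one F)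
  have e2 := himg _ (hDP hz2D) (hcomm _ (Or.inr (Or.inl rfl))) (hfix _ (Or.inr rfl)) (W.z2_ne_one F)
  have e3 := himg _ (hDP hzaD) (hcomm _ (Or.inr (Or.inr rfl))) hfixa
    (fun h => F.zS_ne (congrArg Prod.fst (W.inj (h.trans (map_one _).symm))))
  have e4 := himg s (hDP hsD) (H.comm_C0 F hy) hns
    (fun h => F.bS_ne (congrArg Prod.fst (W.inj (h.trans (map_one _).symm))))
  have n4 : ∀ w : S, w = 1 ∨ w = F.zS → ∀ v : S, W.ι (w, v) ≠ s := by
    intro w hw v h
    have h2 : w = F.bS := congrArg Prod.fst (W.inj h)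
    rcases hw with rfl | rfl
    · exact F.bS_ne h2.symm
    · exact F.b_ne_z (congrArg Subtype.val h2).symm
  have hne : ∀ {x y : G}, x ≠ y → k * x * k⁻¹ ≠ k * y * k⁻¹ := fun h h' => h (mul_left_cancel (mul_right_cancel h'))
  have d12 := hne (W.z1_ne_z2 F)
  have d13 := hne (x := W.z1 F) (y := W.za F) fun h => F.zS_ne (congrArg Prod.snd (W.inj h)).symm
  have d23 := hne (x := W.z2 F) (y := W.za F) fun h => F.zS_ne (congrArg Prod.fst (W.inj h)).symm
  have d14 := hne (x := W.z1 F) (y := s) (n4 _ (Or.inr rfl) _)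
  have d24 := hne (x := W.z2 F) (y := s) (n4 _ (Or.inl rfl) _)
  have d34 := hne (x := W.za F) (y := s) (n4 _ (Or.inr rfl) _)
  clear_value s
  generalize k * W.z1 F * k⁻¹ = x1 at e1 d12 d13 d14
  generalize k * W.z2 F * k⁻¹ = x2 at e2 d12 d23 d24
  generalize k * W.za F * k⁻¹ = x3 at e3 d13 d23 d34
  generalize k * s * k⁻¹ = x4 at e4 d14 d24 d34
  generalize W.z1 F = a1, W.z2 F = a2, W.za F = a3 at e1 e2 e3 e4
  rcases e1 with rfl | rfl | rfl <;> rcases e2 with rfl | rfl | rfl <;> (try contradiction) <;>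
    rcases e3 with rfl | rfl | rfl <;> (try contradiction) <;> rcases e4 with rfl | rfl | rfl <;> contradiction

theorem flip_not_central {y : S} (hy : y = 1 ∨ y = F.zS) {c : G} (hc : c = W.z1 F ∨ c = W.z2 F ∨ c = W.za F) :
    ¬ CW G0 c (W.ι (y, F.bS)) := by
  intro h
  have h2 := H.flip_cw h
  rw [W.flip] at h2
  refine H.b_not_central F hy (c := C.t * c * C.t) ?_ h2
  rcases hc with rfl | rfl | rfl
  · exact Or.inr (Or.inl (W.t_z1 F))
  · exact Or.inl (W.t_z2 F)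
  · exact Or.inr (Or.inr (W.t_za F))

/-- The type of a conjugate of `z₁` in `T₀`. -/
theorem type_z1 {p : S × S} (h : CW G0 (W.z1 F) (W.ι p)) : IsConj (p.1 : M) z ∧ p.2 = 1 := by
  obtain ⟨x, y⟩ := p
  have hsq : (x, y) * (x, y) = 1 := W.inj (by
    obtain ⟨g, -, hge⟩ := h
    rw [map_mul, map_one, ← hge, z1]
    calc g * W.ι (F.zS, 1) * g⁻¹ * (g * W.ι (F.zS, 1) * g⁻¹) = g * W.ι ((F.zS, 1) * (F.zS, 1)) * g⁻¹ := by
          rw [map_mul]; group
      _ = 1 := by rw [Prod.mk_mul_mk, F.zS_sq, one_mul, ← Prod.one_eq_mk, map_one]; group)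
  have hx : x * x = 1 := congrArg Prod.fst hsq
  have hy : y * y = 1 := congrArg Prod.snd hsq
  obtain ⟨r, hr, hxr⟩ := F.exists_rep hx
  obtain ⟨r', hr', hyr⟩ := F.exists_rep hy
  have h2 := h.trans (H.cw_of_fuse hx hy hxr hyr)
  rcases hr with rfl | rfl | rfl <;> rcases hr' with rfl | rfl | rfl
  · exfalso
    rw [← Prod.one_eq_mk, map_one] at h2
    obtain ⟨g, -, hge⟩ := h2.symm
    rw [mul_one, mul_inv_cancel] at hge
    exact W.z1_ne_one F hge.symm
  · exact absurd h2 (H.z1_not_cw_z2 F)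
  · exact absurd h2 (H.flip_not_central F (Or.inl rfl) (Or.inl rfl))
  · refine ⟨hxr, Subtype.ext ?_⟩
    obtain ⟨k, hk⟩ := isConj_iff.mp hyr
    rw [Subgroup.coe_one] at hk ⊢
    calc (y : M) = k⁻¹ * (k * y * k⁻¹) * k := by group
      _ = 1 := by rw [hk]; group
  · exact absurd h2.symm (H.za_not_cw F (Or.inl rfl))
  · exact absurd h2 (H.flip_not_central F (Or.inr rfl) (Or.inl rfl))
  · exact absurd h2 (H.b_not_central F (Or.inl rfl) (Or.inl rfl))
  · exact absurd h2 (H.b_not_central F (Or.inr rfl) (Or.inl rfl))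
  · exfalso
    obtain ⟨g, -, hge⟩ := h2.symm
    rw [W.diag] at hge
    refine H.conj_t_not_mem g (H.cent_z1 F ?_)
    rw [← hge]
    calc g * C.t * g⁻¹ * (g * C.e F.bS * g⁻¹) = g * (C.t * C.e F.bS) * g⁻¹ := by group
      _ = g * (C.e F.bS * C.t) * g⁻¹ := by rw [C.t_comm]
      _ = _ := by group

theorem type_z2 {p : S × S} (h : CW G0 (W.z2 F) (W.ι p)) : p.1 = 1 ∧ IsConj (p.2 : M) z := by
  obtain ⟨x, y⟩ := p
  have h2 := H.flip_cw h
  rw [W.t_z2 F, W.flip] at h2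
  exact (H.type_z1 F h2).symm

end Even

end Wreath

end Cfsg.Lib.StdWreath
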