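import Cfsg.Agent.StdWreath.Conj24

/-!
In the degree-24 situation: `t` moves inside `<t> × U` to `t z`, hence inside `<t> × V`, and every translation of
`V` occurs.
-/

set_option autoImplicit false
set_option linter.unusedSectionVars false

namespace Cfsg.Lib.StdWreath

universe u v

variable {G : Type u} {M : Type v} [Group G] [Group M] [Finite G] [Finite M] {C : Cfg G M} {V U S : Subgroup M}
  {z b : M}

theorem card_mul_rel {H K : Subgroup M} (h : H ≤ K) : Nat.card H * H.relIndex K = Nat.card K := by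
  rw [← Subgroup.relIndex_bot_left, ← Subgroup.relIndex_bot_left, Subgroup.relIndex_mul_relIndex _ _ _ bot_le h]

/-- Conjugate a subgroup. -/
def cmap (k : M) (B : Subgroup M) : Subgroup M := B.map (MulAut.conj k).toMonoidHom

theorem mem_cmap {k x : M} {B : Subgroup M} : x ∈ cmap k B ↔ ∃ y ∈ B, k * y * k⁻¹ = x := Subgroup.mem_map

theorem cmap_elem {k : M} {B : Subgroup M} (hB : Cfsg.IsElementaryAbelian 2 B) :
    Cfsg.IsElementaryAbelian 2 (cmap k B) := by
  refine ⟨⟨⟨fun a b => ?_⟩⟩, fun a ha => ?_⟩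
  · obtain ⟨x, hx, hxa⟩ := mem_cmap.mp a.2
    obtain ⟨y, hy, hyb⟩ := mem_cmap.mp b.2
    refine Subtype.ext ?_
    rw [Subgroup.coe_mul, Subgroup.coe_mul, ← hxa, ← hyb]
    have := elem_comm hB hx hy
    calc k * x * k⁻¹ * (k * y * k⁻¹) = k * (x * y) * k⁻¹ := by group
      _ = k * (y * x) * k⁻¹ := by rw [this]
      _ = _ := by group
  · obtain ⟨x, hx, rfl⟩ := mem_cmap.mp ha
    rw [conj_pow, hB.2 x hx, mul_one, mul_inv_cancel]

theorem cmap_card (k : M) (B : Subgroup M) : Nat.card (cmap k B) = Nat.card B :=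
  Subgroup.card_map_of_injective (MulAut.conj k).injective

theorem mem_cmap_conj {k x : M} {B : Subgroup M} : k * x * k⁻¹ ∈ cmap k B ↔ x ∈ B := by
  refine ⟨fun h => ?_, fun h => mem_cmap.mpr ⟨x, h, rfl⟩⟩
  obtain ⟨y, hy, he⟩ := mem_cmap.mp h
  rwa [← mul_left_cancel (mul_right_cancel he)]

theorem conj_mem_normalizer_cmap {k n : M} {B : Subgroup M} (hn : n ∈ Subgroup.normalizer (B : Set M)) :
    k * n * k⁻¹ ∈ Subgroup.normalizer (cmap k B : Set M) := by
  refine Subgroup.mem_normalizer_iff.mpr fun x => ?_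
  obtain ⟨y, rfl⟩ : ∃ y, k * y * k⁻¹ = x := ⟨k⁻¹ * x * k, by group⟩
  have he : k * n * k⁻¹ * (k * y * k⁻¹) * (k * n * k⁻¹)⁻¹ = k * (n * y * n⁻¹) * k⁻¹ := by group
  rw [he, mem_cmap_conj, mem_cmap_conj]
  exact Subgroup.mem_normalizer_iff.mp hn y

theorem Frame.z_ne_one [Finite M] (F : Frame V U S z) : z ≠ 1 := fun h => by
  have := F.order_z; rw [h, orderOf_one] at this; omega

namespace Facts24

variable (F : Facts24 V U S z b)
include F

theorem b_ne_one : b ≠ 1 := fun h => by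
  have := F.order_b; rw [h, orderOf_one] at this; omega

theorem S_comm_z {s : M} (hs : s ∈ S) : s * z = z * s := ((F.center_S z).mpr (Or.inr rfl)).2 s hs

theorem S_le_centralizer : S ≤ Subgroup.centralizer ({z} : Set M) := fun _ hs =>
  Subgroup.mem_centralizer_singleton_iff.mpr (F.S_comm_z hs)

theorem sylow_Cz : ¬ 2 ∣ S.relIndex (Subgroup.centralizer ({z} : Set M)) := fun h =>
  F.S_sylow (h.trans (Dvd.intro _ (Subgroup.relIndex_mul_index F.S_le_centralizer)))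

/-- An involution commuting with a 2-group of the order of `S` is conjugate to `z`. -/
theorem conj_z_of_card {α : M} (hα : orderOf α = 2) {Q : Subgroup M} (hQ : IsPGroup 2 Q)
    (hQα : ∀ q ∈ Q, q * α = α * q) (hcard : Nat.card Q = Nat.card S) : IsConj α z := by
  rcases F.classes α hα with h | h
  · exact h
  exfalso
  obtain ⟨k, hk⟩ := isConj_iff.mp h
  set R := S ⊓ Subgroup.centralizer ({b} : Set M)
  have hle : cmap k Q ≤ Subgroup.centralizer ({b} : Set M) := fun x hx => by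
    obtain ⟨q, hq, rfl⟩ := mem_cmap.mp hx
    rw [Subgroup.mem_centralizer_singleton_iff, ← hk]
    calc k * q * k⁻¹ * (k * α * k⁻¹) = k * (q * α) * k⁻¹ := by group
      _ = k * (α * q) * k⁻¹ := by rw [hQα q hq]
      _ = _ := by group
  have hd : 2 ^ 10 ∣ Nat.card (Subgroup.centralizer ({b} : Set M)) := by
    rw [← F.card_S, ← hcard, ← cmap_card k Q]
    exact Subgroup.card_dvd_of_le hle
  have h1 : Nat.card R * R.relIndex (Subgroup.centralizer ({b} : Set M)) =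
      Nat.card (Subgroup.centralizer ({b} : Set M)) := card_mul_rel inf_le_right
  have h2 : Nat.card R * 2 = 2 ^ 10 := by
    have h4 := card_mul_rel (show R ≤ S from inf_le_left)
    rwa [F.centralizer_b_index, F.card_S] at h4
  have h3 : Nat.card R = 512 := by omega
  rw [← h1, h3] at hd
  refine F.centralizer_b_sylow ?_
  obtain ⟨c, hc⟩ := hd
  have h5 : R.relIndex (Subgroup.centralizer ({b} : Set M)) = 2 * c := by
    norm_num at hc
    omega
  exact ⟨c, h5⟩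

end Facts24

variable (E : Exact C) (F : Facts24 V U S z b)
include E F

/-- Some element of the normaliser of `<t> × U` moves `t`. -/
theorem exists_moved_U (hfus : ∃ m, m ≠ 1 ∧ Fused C m) :
    ∃ h ∈ Subgroup.normalizer (tSup C U : Set G), h * C.t * h⁻¹ ≠ C.t := by
  obtain ⟨m, hm1, hm⟩ := hfus
  have hord : ∀ {m : M}, m ≠ 1 → Fused C m → orderOf m = 2 := fun h1 h2 =>
    orderOf_eq_prime (by rw [pow_two]; exact E.fused_sq h2) h1
  have hcl : Fused C z ∨ Fused C b := by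
    rcases F.classes m (hord hm1 hm) with h | h <;> obtain ⟨k, hk⟩ := isConj_iff.mp h
    · exact Or.inl (hk ▸ E.fused_conj hm k)
    · exact Or.inr (hk ▸ E.fused_conj hm k)
  -- `u` is `z` or `b`, with `R` a Sylow subgroup of its centraliser inside `S`
  obtain ⟨u, R, g, hg, huU, hu1, hR2, hRu, hRU, hsyl, hmove, hclass⟩ :
      ∃ (u : M) (R : Subgroup M) (g : G), g * C.t * g⁻¹ = C.t * C.e u ∧ u ∈ U ∧ u ≠ 1 ∧ IsPGroup 2 R ∧
        R ≤ Subgroup.centralizer ({u} : Set M) ∧ R ≤ Subgroup.normalizer (U : Set M) ∧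
        ¬ 2 ∣ R.relIndex (Subgroup.centralizer ({u} : Set M)) ∧
        (∀ B : Subgroup M, Cfsg.IsElementaryAbelian 2 B → Nat.card B = 64 → u ∈ B →
          R ≤ Subgroup.normalizer (B : Set M) → Moves B u) ∧
        (∀ α, α ≠ 1 → Fused C α → ∀ Q : Subgroup M, IsPGroup 2 Q → (∀ q ∈ Q, q * α = α * q) →
          Nat.card Q = Nat.card R → IsConj α u) := by
    by_cases hz : Fused C z
    · obtain ⟨g, hg⟩ := hz
      exact ⟨z, S, g, hg, F.z_mem.1, F.z_ne_one, F.S_two, F.S_le_centralizer, F.S_le_NU, F.sylow_Cz, F.moves_z,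
        fun α h1 h2 Q h3 h4 h5 => F.conj_z_of_card (hord h1 h2) h3 h4 h5⟩
    · obtain ⟨g, hg⟩ := hcl.resolve_left hz
      refine ⟨b, S ⊓ Subgroup.centralizer ({b} : Set M), g, hg, F.b_mem, F.b_ne_one, F.S_two.to_le inf_le_left,
        inf_le_right, inf_le_left.trans F.S_le_NU, F.centralizer_b_sylow, F.moves_b,
        fun α h1 h2 Q _ _ _ => (F.classes α (hord h1 h2)).resolve_left fun h => hz ?_⟩
      obtain ⟨k, hk⟩ := isConj_iff.mp h
      exact hk ▸ E.fused_conj h2 k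
  obtain ⟨α, hα⟩ := E.pre_t hg
  have hαf : Fused C α := ⟨g⁻¹, by rw [inv_inv]; exact hα⟩
  have hα1 : α ≠ 1 := fun h => hu1 (C.inj (by
    rw [h, map_one, mul_one] at hα
    have h2 : g * C.t * g⁻¹ = C.t := by
      calc g * C.t * g⁻¹ = g * (g⁻¹ * C.t * g) * g⁻¹ := by rw [hα]
        _ = C.t := by group
    rw [h2] at hg
    rw [map_one]
    exact mul_eq_left.mp hg.symm))
  have hgt : g * C.t * g⁻¹ ∈ tSup C U := ⟨u, huU, Or.inr hg⟩
  obtain ⟨P, hP2, hPc, hPα, hPn⟩ := projection E hg hα R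
    (fun q hq => Subgroup.mem_centralizer_singleton_iff.mp (hRu hq)) hR2
  obtain ⟨k, hk⟩ := isConj_iff.mp (hclass α hα1 hαf P hP2 hPα hPc)
  have hkP : cmap k P ≤ Subgroup.centralizer ({u} : Set M) := fun x hx => by
    obtain ⟨p, hp, rfl⟩ := mem_cmap.mp hx
    rw [Subgroup.mem_centralizer_singleton_iff, ← hk]
    calc k * p * k⁻¹ * (k * α * k⁻¹) = k * (p * α) * k⁻¹ := by group
      _ = k * (α * p) * k⁻¹ := by rw [hPα p hp]
      _ = _ := by group
  obtain ⟨c, hc, hcR⟩ := relIndex_conj hkP hRu (hP2.map _) hR2 hsyl ((cmap_card k P).trans hPc)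
  set B := pull C U g with hB
  have hBe : Cfsg.IsElementaryAbelian 2 B := E.pull_elem F.elemU hgt
  have hu : u ∈ cmap (c * k) B := mem_cmap.mpr ⟨α, E.mem_pull_alpha F.elemU hgt hα, by
    calc c * k * α * (c * k)⁻¹ = c * (k * α * k⁻¹) * c⁻¹ := by group
      _ = u := by rw [hk, Subgroup.mem_centralizer_singleton_iff.mp hc, mul_inv_cancel_right]⟩
  have hRn : R ≤ Subgroup.normalizer (cmap (c * k) B : Set M) := fun r hr => by
    obtain ⟨q, hq, rfl⟩ := hcR r hr
    obtain ⟨p, hp, rfl⟩ := mem_cmap.mp hq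
    have he : c * (k * p * k⁻¹) * c⁻¹ = c * k * p * (c * k)⁻¹ := by group
    rw [he]
    exact conj_mem_normalizer_cmap (hPn U hgt hRU hp)
  obtain ⟨m, hm, hmne⟩ := hmove _ (cmap_elem hBe)
    (by rw [cmap_card, E.pull_card F.elemU hgt, F.cardU]) hu hRn
  set m0 := (c * k)⁻¹ * m * (c * k) with hm0
  have hm0n : m0 ∈ Subgroup.normalizer (B : Set M) := Subgroup.mem_normalizer_iff.mpr fun y => by
    have h1 := Subgroup.mem_normalizer_iff.mp hm ((c * k) * y * (c * k)⁻¹)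
    rw [mem_cmap_conj] at h1
    have he : m * (c * k * y * (c * k)⁻¹) * m⁻¹ = c * k * (m0 * y * m0⁻¹) * (c * k)⁻¹ := by
      rw [hm0]; group
    rw [he, mem_cmap_conj] at h1
    exact h1
  have hm0α : m0 * α * m0⁻¹ ≠ α := fun h => hmne (by
    have hu' : u = c * k * α * (c * k)⁻¹ := by
      calc u = c * (k * α * k⁻¹) * c⁻¹ := by
            rw [hk, Subgroup.mem_centralizer_singleton_iff.mp hc, mul_inv_cancel_right]
        _ = _ := by group
    rw [hu']
    calc m * (c * k * α * (c * k)⁻¹) * m⁻¹ = c * k * (m0 * α * m0⁻¹) * (c * k)⁻¹ := by rw [hm0]; group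
      _ = _ := by rw [h])
  refine ⟨g * C.e m0 * g⁻¹, ?_, fun hfix => hm0α ?_⟩
  · have hmap : ∀ r ∈ Subgroup.normalizer (B : Set M), ∀ y ∈ tSup C U,
        g * C.e r * g⁻¹ * y * (g * C.e r * g⁻¹)⁻¹ ∈ tSup C U := by
      intro r hr y hy
      obtain ⟨w, hw, hc | hc⟩ := E.pull_cases F.elemU hgt hy
      · have he : g * C.e r * g⁻¹ * y * (g * C.e r * g⁻¹)⁻¹ = g * C.e (r * w * r⁻¹) * g⁻¹ := by
          rw [← C.e_conj, ← hc]; group
        rw [he]
        exact mem_pull.mp ((Subgroup.mem_normalizer_iff.mp hr w).mp hw)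
      · have he : g * C.e r * g⁻¹ * y * (g * C.e r * g⁻¹)⁻¹ = g * C.t * g⁻¹ * (g * C.e (r * w * r⁻¹) * g⁻¹) := by
          have h1 : C.t * C.e (r * w * r⁻¹) = C.e r * (g⁻¹ * y * g) * (C.e r)⁻¹ := by
            rw [hc, ← C.e_conj, ← mul_assoc (C.e r), ← C.t_comm]; group
          calc g * C.e r * g⁻¹ * y * (g * C.e r * g⁻¹)⁻¹ = g * (C.e r * (g⁻¹ * y * g) * (C.e r)⁻¹) * g⁻¹ := by group
            _ = _ := by rw [← h1]; group
        rw [he]
        exact (tSup C U).mul_mem hgt (mem_pull.mp ((Subgroup.mem_normalizer_iff.mp hr w).mp hw))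
    refine Subgroup.mem_normalizer_iff.mpr fun y => ⟨hmap m0 hm0n y, fun hy => ?_⟩
    have := hmap _ (Subgroup.inv_mem _ hm0n) _ hy
    rw [map_inv] at this
    convert this using 1; group
  · have h1 : C.e m0 * (C.t * C.e α) * (C.e m0)⁻¹ = C.t * C.e α := by
      rw [← hα]
      calc C.e m0 * (g⁻¹ * C.t * g) * (C.e m0)⁻¹ = g⁻¹ * (g * C.e m0 * g⁻¹ * C.t * (g * C.e m0 * g⁻¹)⁻¹) * g := by
            group
        _ = _ := by rw [hfix]
    rw [← mul_assoc, ← C.t_comm, mul_assoc C.t, mul_assoc C.t] at h1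
    exact C.inj (by rw [← C.e_conj]; exact mul_left_cancel h1)

/-- An element of the normaliser of `<t> × U` carries `t` to `t z`. -/
theorem exists_to_z (hfus : ∃ m, m ≠ 1 ∧ Fused C m) :
    ∃ h ∈ Subgroup.normalizer (tSup C U : Set G), h * C.t * h⁻¹ = C.t * C.e z := by
  obtain ⟨h0, hh0, hne⟩ := exists_moved_U E F hfus
  obtain ⟨c, hc, hct⟩ := E.conj_t_of_normalizer hh0
  have hc1 : c ≠ 1 := fun h => hne (by rw [hct, h, map_one, mul_one])
  have hnorm : ∀ {h : G} {x n : M}, h ∈ Subgroup.normalizer (tSup C U : Set G) → h * C.t * h⁻¹ = C.t * C.e x →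
      n ∈ Subgroup.normalizer (U : Set M) →
      C.e n * h ∈ Subgroup.normalizer (tSup C U : Set G) ∧
        C.e n * h * C.t * (C.e n * h)⁻¹ = C.t * C.e (n * x * n⁻¹) := by
    intro h x n hh hx hn
    refine ⟨Subgroup.mul_mem _ (e_normalizes_tSup C hn) hh, ?_⟩
    calc C.e n * h * C.t * (C.e n * h)⁻¹ = C.e n * (h * C.t * h⁻¹) * (C.e n)⁻¹ := by group
      _ = (C.e n * C.t) * C.e x * (C.e n)⁻¹ := by rw [hx]; group
      _ = C.t * (C.e n * C.e x * (C.e n)⁻¹) := by rw [← C.t_comm]; group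
      _ = _ := by rw [C.e_conj]
  by_contra hcon
  have hno : ∀ x ∈ U, ∀ h ∈ Subgroup.normalizer (tSup C U : Set G), h * C.t * h⁻¹ = C.t * C.e x →
      x = 1 ∨ IsConj x b := by
    intro x hx h hh hxt
    by_cases hx1 : x = 1
    · exact Or.inl hx1
    obtain ⟨n, hn, hz | hb⟩ := F.U_orbits x hx hx1
    · exact absurd ⟨_, (hnorm hh hxt hn).1, by rw [(hnorm hh hxt hn).2, hz]⟩ hcon
    · exact Or.inr (isConj_iff.mpr ⟨n, hb⟩)
  have hreach : ∀ x ∈ U, IsConj x b → ∃ h ∈ Subgroup.normalizer (tSup C U : Set G), h * C.t * h⁻¹ = C.t * C.e x := by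
    intro x hx hxb
    have hx1 : x ≠ 1 := fun h => F.b_ne_one (by
      obtain ⟨k, hk⟩ := isConj_iff.mp hxb
      rw [← hk, h, mul_one, mul_inv_cancel])
    obtain ⟨n, hn, hz | hb⟩ := F.U_orbits x hx hx1
    · exact absurd ((hxb.symm.trans (isConj_iff.mpr ⟨n, hz⟩))) F.b_not_conj
    obtain ⟨n', hn', hz' | hb'⟩ := F.U_orbits c hc hc1
    · exact absurd ⟨_, (hnorm hh0 hct hn').1, by rw [(hnorm hh0 hct hn').2, hz']⟩ hcon
    have h2 := hnorm hh0 hct (Subgroup.mul_mem _ (Subgroup.inv_mem _ hn) hn')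
    refine ⟨_, h2.1, ?_⟩
    rw [h2.2]
    congr 2
    calc n⁻¹ * n' * c * (n⁻¹ * n')⁻¹ = n⁻¹ * (n' * c * n'⁻¹) * n := by group
      _ = n⁻¹ * (n * x * n⁻¹) * n := by rw [hb', hb]
      _ = x := by group
  have hinv : ∀ x ∈ U, ∃ y ∈ U, h0 * C.e x * h0⁻¹ = C.e y := fun x hx =>
    E.conj_mem_X (x0 := c) ⟨h0, hct⟩ (F.U_span c hc hc1) hc hh0 hx
  choose! f hfU hf using hinv
  refine F.no_affine f hfU (fun x hx y hy => C.inj ?_) (fun x hx hfx => C.inj ?_) c hc
    ((hno c hc h0 hh0 hct).resolve_left hc1) fun x hx hxD => ?_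
  · rw [map_mul, ← hf _ (U.mul_mem hx hy), ← hf x hx, ← hf y hy, map_mul]; group
  · have h := hf x hx
    rw [hfx, map_one] at h
    rw [map_one]
    calc C.e x = h0⁻¹ * (h0 * C.e x * h0⁻¹) * h0 := by group
      _ = 1 := by rw [h]; group
  obtain ⟨h1, hh1, hh1t⟩ : ∃ h ∈ Subgroup.normalizer (tSup C U : Set G), h * C.t * h⁻¹ = C.t * C.e x := by
    rcases hxD with h | h
    · exact ⟨1, Subgroup.one_mem _, by rw [h, map_one, mul_one, one_mul, inv_one, mul_one]⟩
    · exact hreach x hx h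
  refine hno (f x * c) (U.mul_mem (hfU x hx) hc) (h0 * h1) (Subgroup.mul_mem _ hh0 hh1) ?_
  calc h0 * h1 * C.t * (h0 * h1)⁻¹ = h0 * (h1 * C.t * h1⁻¹) * h0⁻¹ := by group
    _ = (h0 * C.t * h0⁻¹) * (h0 * C.e x * h0⁻¹) := by rw [hh1t]; group
    _ = C.t * C.e c * C.e (f x) := by rw [hct, hf x hx]
    _ = _ := by rw [mul_assoc, ← map_mul, elem_comm F.elemU hc (hfU x hx)]

/-- An element fixing neither: it normalises `<t> × V` and carries `t` to `t z`. -/
theorem exists_to_z_V (hfus : ∃ m, m ≠ 1 ∧ Fused C m) :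
    ∃ h ∈ Subgroup.normalizer (tSup C V : Set G), h * C.t * h⁻¹ = C.t * C.e z := by
  obtain ⟨h1, hh1, hh1t⟩ := exists_to_z E F hfus
  have hzU : z ∈ U := F.z_mem.1
  obtain ⟨α0, hα0⟩ := E.pre_t hh1t
  have hspanU := F.U_span z hzU F.z_ne_one
  have hfz : Fused C z := ⟨h1, hh1t⟩
  -- `α0` is in `U` and conjugate to `z`
  have hα0U : α0 ∈ U := by
    have h2 := (Subgroup.mem_normalizer_iff''.mp hh1 C.t).mp (t_mem_tSup C U)
    rw [hα0] at h2
    exact (e_mem_tSup_iff C).mp (by simpa [C.tt] using (tSup C U).mul_mem (t_mem_tSup C U) h2)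
  have hα01 : α0 ≠ 1 := fun h => F.z_ne_one (C.inj (by
    rw [h, map_one, mul_one] at hα0
    have h2 : h1 * C.t * h1⁻¹ = C.t := by
      calc h1 * C.t * h1⁻¹ = h1 * (h1⁻¹ * C.t * h1) * h1⁻¹ := by rw [hα0]
        _ = C.t := by group
    rw [h2] at hh1t
    rw [map_one]
    exact mul_eq_left.mp hh1t.symm))
  obtain ⟨P0, hP02, hP0c, hP0α, -⟩ := projection E hh1t hα0 S (fun q hq => F.S_comm_z hq) F.S_two
  obtain ⟨n, hn, hnz⟩ : ∃ n ∈ Subgroup.normalizer (U : Set M), n * α0 * n⁻¹ = z := by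
    obtain ⟨n, hn, hz | hb⟩ := F.U_orbits α0 hα0U hα01
    · exact ⟨n, hn, hz⟩
    · exact absurd ((isConj_iff.mpr ⟨n, hb⟩).symm.trans
        (F.conj_z_of_card (orderOf_eq_prime (by rw [F.elemU.2 α0 hα0U]) hα01) hP02 hP0α hP0c)) F.b_not_conj
  set h := h1 * (C.e n)⁻¹ with hh
  have hhN : h ∈ Subgroup.normalizer (tSup C U : Set G) :=
    Subgroup.mul_mem _ hh1 (Subgroup.inv_mem _ (e_normalizes_tSup C hn))
  have hht : h * C.t * h⁻¹ = C.t * C.e z := by
    rw [hh, ← hh1t]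
    calc h1 * (C.e n)⁻¹ * C.t * (h1 * (C.e n)⁻¹)⁻¹ = h1 * ((C.e n)⁻¹ * (C.t * C.e n)) * h1⁻¹ := by group
      _ = _ := by rw [C.t_comm, inv_mul_cancel_left]
  have hα : h⁻¹ * C.t * h = C.t * C.e z := by
    rw [hh, ← hnz, ← C.e_conj]
    calc (h1 * (C.e n)⁻¹)⁻¹ * C.t * (h1 * (C.e n)⁻¹) = C.e n * (h1⁻¹ * C.t * h1) * (C.e n)⁻¹ := by group
      _ = (C.e n * C.t) * C.e α0 * (C.e n)⁻¹ := by rw [hα0]; group
      _ = _ := by rw [← C.t_comm]; group
  have hzV : z ∈ V := F.z_mem.2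
  have hgt : h * C.t * h⁻¹ ∈ tSup C V := ⟨z, hzV, Or.inr hht⟩
  set B := pull C V h with hB
  have hBe := E.pull_elem F.elemV hgt
  have hBc : Nat.card B = 16 := by rw [E.pull_card F.elemV hgt, F.cardV]
  -- the projection of `C(z)` is onto, so `C(z)` normalises `B`
  have hct : ∀ q : Subgroup.centralizer ({z} : Set M), h⁻¹ * C.e q * h * C.t = C.t * (h⁻¹ * C.e q * h) := fun q => by
    have h1 : C.e q * (h * C.t * h⁻¹) = h * C.t * h⁻¹ * C.e q := by
      rw [hht, ← mul_assoc, ← C.t_comm, mul_assoc, ← map_mul, Subgroup.mem_centralizer_singleton_iff.mp q.2, map_mul,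
        ← mul_assoc]
    calc h⁻¹ * C.e q * h * C.t = h⁻¹ * (C.e q * (h * C.t * h⁻¹)) * h := by group
      _ = h⁻¹ * ((h * C.t * h⁻¹) * C.e q) * h := by rw [h1]
      _ = _ := by group
  let π : Subgroup.centralizer ({z} : Set M) →* M :=
    { toFun := fun q => mPart C (h⁻¹ * C.e q * h)
      map_one' := by
        have : h⁻¹ * C.e ((1 : Subgroup.centralizer ({z} : Set M)) : M) * h = C.e 1 := by simp
        rw [this, E.mPart_e]
      map_mul' := fun a b => by
        rw [← E.mPart_mul (hct a) (hct b)]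
        congr 1
        rw [Subgroup.coe_mul, map_mul]; group }
  have hπz : ∀ q, π q ∈ Subgroup.centralizer ({z} : Set M) := fun q => by
    rw [Subgroup.mem_centralizer_singleton_iff]
    have h2 := E.conj_e (hct q) z
    have hzz : C.e z = C.t * (h⁻¹ * C.t * h) := by rw [hα, C.tt]
    have h3 : h⁻¹ * C.e q * h * C.e z * (h⁻¹ * C.e q * h)⁻¹ = C.e z := by
      rw [hzz]
      calc h⁻¹ * C.e q * h * (C.t * (h⁻¹ * C.t * h)) * (h⁻¹ * C.e q * h)⁻¹
          = (h⁻¹ * C.e q * h * C.t) * (h⁻¹ * C.t * h) * (h⁻¹ * C.e q * h)⁻¹ := by group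
        _ = C.t * h⁻¹ * (C.e q * C.t) * (C.e q)⁻¹ * h := by rw [hct q]; group
        _ = _ := by rw [← C.t_comm]; group
    rw [h3] at h2
    have h4 := C.inj h2
    exact (eq_mul_inv_iff_mul_eq.mp h4).symm
  have hker : ∀ q : Subgroup.centralizer ({z} : Set M), π q = 1 → orderOf (q : M) ≠ 2 := fun q hq ho => by
    have hsq : (q : M) * q = 1 := by rw [← pow_two, ← ho]; exact pow_orderOf_eq_one _
    have hk : (h⁻¹ * C.e q * h) ^ 2 ^ 1 = 1 := by
      rw [pow_one, pow_two]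
      calc h⁻¹ * C.e q * h * (h⁻¹ * C.e q * h) = h⁻¹ * (C.e q * C.e q) * h := by group
        _ = 1 := by rw [← map_mul, hsq, map_one]; group
    rcases E.eq_of_mPart_one (hct q) hq hk with h2 | h2
    · have : (q : M) = 1 := C.inj (by
        rw [map_one]
        calc C.e q = h * (h⁻¹ * C.e q * h) * h⁻¹ := by group
          _ = 1 := by rw [h2]; group)
      rw [this, orderOf_one] at ho
      omega
    · exact E.not_conj q h (by rw [← h2]; group)
  have hinj : Function.Injective π := by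
    refine (MonoidHom.ker_eq_bot_iff π).mp ?_
    have hD := F.odd_core_z (π.ker.map (Subgroup.centralizer ({z} : Set M)).subtype) (Subgroup.map_subtype_le _) ?_ ?_
    · rwa [Subgroup.map_eq_bot_iff_of_injective _ (Subgroup.subtype_injective _)] at hD
    · rw [Subgroup.card_map_of_injective (Subgroup.subtype_injective _), Nat.odd_iff]
      by_contra hev
      haveI : Fact (Nat.Prime 2) := ⟨Nat.prime_two⟩
      obtain ⟨q, hq⟩ := exists_prime_orderOf_dvd_card' (G := π.ker) 2 (Nat.dvd_of_mod_eq_zero (by omega))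
      exact hker q.1 (MonoidHom.mem_ker.mp q.2) (by rw [Subgroup.orderOf_coe, Subgroup.orderOf_coe, hq])
    · rintro x hx d hd
      obtain ⟨q, hq, rfl⟩ := Subgroup.mem_map.mp hd
      refine Subgroup.mem_map.mpr ⟨⟨x, hx⟩ * q * ⟨x, hx⟩⁻¹, ?_, rfl⟩
      exact (MonoidHom.normal_ker π).conj_mem q hq _
  have hsurj : ∀ p ∈ Subgroup.centralizer ({z} : Set M), ∃ q, π q = p := by
    intro p hp
    let π' : Subgroup.centralizer ({z} : Set M) → Subgroup.centralizer ({z} : Set M) := fun q => ⟨π q, hπz q⟩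
    have : Function.Injective π' := fun a b hab => hinj (congrArg Subtype.val hab)
    obtain ⟨q, hq⟩ := Finite.surjective_of_injective this ⟨p, hp⟩
    exact ⟨q, congrArg Subtype.val hq⟩
  have hzN : ∀ q ∈ Subgroup.centralizer ({z} : Set M), q ∈ Subgroup.normalizer (V : Set M) := fun q hq => by
    exact F.Cz_le_NV q hq
  have hCB : Subgroup.centralizer ({z} : Set M) ≤ Subgroup.normalizer (B : Set M) := fun p hp => by
    have hmap : ∀ p ∈ Subgroup.centralizer ({z} : Set M), ∀ m ∈ B, p * m * p⁻¹ ∈ B := by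
      intro p hp m hm
      obtain ⟨q, rfl⟩ := hsurj p hp
      rw [hB, mem_pull]
      show h * C.e (mPart C (h⁻¹ * C.e q * h) * m * (mPart C (h⁻¹ * C.e q * h))⁻¹) * h⁻¹ ∈ _
      rw [← E.conj_e (hct q) m]
      have h2 := (Subgroup.mem_normalizer_iff.mp (e_normalizes_tSup C (hzN q q.2)) _).mp (mem_pull.mp hm)
      convert h2 using 1; group
    refine Subgroup.mem_normalizer_iff.mpr fun m => ⟨hmap p hp m, fun hm => ?_⟩
    have := hmap _ (Subgroup.inv_mem _ hp) _ hm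
    convert this using 1; group
  have hzB : z ∈ B := E.mem_pull_alpha F.elemV hgt hα
  -- on `U` the pullback is the preimage of `U ∩ V`
  have hact : ∀ x ∈ U, ∃ y ∈ U, h * C.e x * h⁻¹ = C.e y := fun x hx => E.conj_mem_X hfz hspanU hzU hhN hx
  choose! f hfU hf using hact
  have hBU : Nat.card (B ⊓ U : Subgroup M) = 4 := by
    rw [← F.cardL]
    have hfinj : ∀ x ∈ U, ∀ y ∈ U, f x = f y → x = y := fun x hx y hy he => C.inj (by
      have h3 : h * C.e x * h⁻¹ = h * C.e y * h⁻¹ := by rw [hf x hx, hf y hy, he]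
      exact mul_left_cancel (mul_right_cancel h3))
    have hsurjU : ∀ y ∈ U, ∃ x ∈ U, f x = y := by
      intro y hy
      obtain ⟨x, hx⟩ := Finite.surjective_of_injective (f := fun x : U => (⟨f x, hfU x x.2⟩ : U))
        (fun a b hab => Subtype.ext (hfinj a a.2 b b.2 (congrArg Subtype.val hab))) ⟨y, hy⟩
      exact ⟨x, x.2, congrArg Subtype.val hx⟩
    have hmemV : ∀ x ∈ U, (x ∈ B ↔ f x ∈ V) := fun x hx => by
      rw [hB, mem_pull, hf x hx, e_mem_tSup_iff]
    refine Nat.card_congr (Equiv.ofBijective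
      (fun x : (B ⊓ U : Subgroup M) => (⟨f x, hfU _ x.2.2, (hmemV _ x.2.2).mp x.2.1⟩ : (U ⊓ V : Subgroup M))) ⟨?_, ?_⟩)
    · exact fun a b hab => Subtype.ext (hfinj a a.2.2 b b.2.2 (congrArg Subtype.val hab))
    · rintro ⟨y, hyU, hyV⟩
      obtain ⟨x, hx, rfl⟩ := hsurjU y hyU
      exact ⟨⟨x, (hmemV x hx).mpr hyV, hx⟩, rfl⟩
  have hBV : B = V := F.only_V B hBe hBc hzB hCB hBU
  refine ⟨h, ?_, hht⟩
  have hfwd : ∀ y ∈ tSup C V, h * y * h⁻¹ ∈ tSup C V := by
    rintro y ⟨x, hx, rfl | rfl⟩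
    · exact mem_pull.mp (hBV.symm ▸ hx : x ∈ B)
    · have h2 := (tSup C V).mul_mem hgt (mem_pull.mp (hBV.symm ▸ hx : x ∈ B))
      convert h2 using 1; group
  refine Subgroup.mem_normalizer_iff.mpr fun y => ⟨hfwd y, fun hy => ?_⟩
  have hinj' : Function.Injective fun w : tSup C V => (⟨h * w * h⁻¹, hfwd w w.2⟩ : tSup C V) := fun a b hab =>
    Subtype.ext (mul_left_cancel (mul_right_cancel (congrArg Subtype.val hab)))
  obtain ⟨w, hw⟩ := Finite.surjective_of_injective hinj' ⟨_, hy⟩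
  have : (w : G) = y := mul_left_cancel (mul_right_cancel (congrArg Subtype.val hw))
  exact this ▸ w.2

/-- Every translation of `V` occurs. -/
theorem exists_transV (hfus : ∃ m, m ≠ 1 ∧ Fused C m) :
    ∀ x ∈ V, ∃ g : G, (∀ y ∈ V, g * C.e y = C.e y * g) ∧ g * C.t * g⁻¹ = C.t * C.e x := by
  obtain ⟨h, hh, hht⟩ := exists_to_z_V E F hfus
  have hzV : z ∈ V := F.z_mem.2
  have hspan : V ≤ Subgroup.closure {y | ∃ n ∈ Subgroup.normalizer (V : Set M), n * z * n⁻¹ = y} := fun y hy => by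
    by_cases hy1 : y = 1
    · rw [hy1]; exact Subgroup.one_mem _
    · exact Subgroup.subset_closure (F.V_trans y hy hy1)
  have hact : ∀ x ∈ V, ∃ y ∈ V, h * C.e x * h⁻¹ = C.e y := fun x hx => E.conj_mem_X ⟨h, hht⟩ hspan hzV hh hx
  choose! f hfV hf using hact
  obtain ⟨n, hn, hnf⟩ := F.aut_V f hfV (fun x hx y hy => C.inj (by
    rw [map_mul, ← hf _ (V.mul_mem hx hy), ← hf x hx, ← hf y hy, map_mul]; group)) (fun x hx hfx => C.inj (by
    have := hf x hx
    rw [hfx, map_one] at this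
    rw [map_one]
    calc C.e x = h⁻¹ * (h * C.e x * h⁻¹) * h := by group
      _ = 1 := by rw [this]; group))
  have hg : ∀ y ∈ V, (C.e n)⁻¹ * h * C.e y = C.e y * ((C.e n)⁻¹ * h) := fun y hy => by
    have h2 : h * C.e y * h⁻¹ = C.e n * C.e y * (C.e n)⁻¹ := by rw [hf y hy, ← hnf y hy, C.e_conj]
    calc (C.e n)⁻¹ * h * C.e y = (C.e n)⁻¹ * (h * C.e y * h⁻¹) * h := by group
      _ = _ := by rw [h2]; group
  have hnm : n⁻¹ * z * n ∈ V := (Subgroup.mem_normalizer_iff''.mp hn z).mp hzV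
  have hgt : (C.e n)⁻¹ * h * C.t * ((C.e n)⁻¹ * h)⁻¹ = C.t * C.e (n⁻¹ * z * n) := by
    calc (C.e n)⁻¹ * h * C.t * ((C.e n)⁻¹ * h)⁻¹ = (C.e n)⁻¹ * (h * C.t * h⁻¹) * C.e n := by group
      _ = ((C.e n)⁻¹ * C.t) * C.e z * C.e n := by rw [hht]; group
      _ = C.t * ((C.e n)⁻¹ * C.e z * C.e n) := by
        rw [show (C.e n)⁻¹ * C.t = C.t * (C.e n)⁻¹ by rw [← map_inv, C.t_comm]]; group
      _ = _ := by rw [map_mul, map_mul, map_inv]
  intro x hx
  by_cases hx1 : x = 1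
  · exact ⟨1, fun y _ => by rw [one_mul, mul_one], by rw [hx1, map_one, mul_one, one_mul, inv_one, mul_one]⟩
  obtain ⟨k, hk, hkx⟩ := F.V_trans x hx hx1
  refine ⟨C.e (k * n) * ((C.e n)⁻¹ * h) * (C.e (k * n))⁻¹, ?_, ?_⟩
  · exact ((conj_mem_transSet C V (Subgroup.mul_mem _ hk hn) ⟨hg, _, hnm, hgt⟩).1).1
  · have h2 := (conj_mem_transSet C V (Subgroup.mul_mem _ hk hn) ⟨hg, _, hnm, hgt⟩)
    rw [tau_spec C V h2.1, h2.2, tau_eq C V ⟨hg, _, hnm, hgt⟩ hgt, ← hkx]
    congr 2; group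

end Cfsg.Lib.StdWreath
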