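import Cfsg.Agent.StdWreath.Wrap
import Cfsg.Agent.Components.Layer
import Cfsg.Agent.Components.Cores
import Cfsg.Agent.S1347
import Cfsg.Agent.S2064
import Cfsg.Agent.S0365

/-!
A standard subgroup of type M₂₄ with cyclic Sylow 2-subgroups in its centralizer: the layer is M₂₄ or M₂₄ × M₂₄,
given the local facts of M₂₄.
-/

set_option autoImplicit false

open scoped commutatorElement

namespace Cfsg.Lib.StdWreath.MTwentyFour

universe u

variable {G : Type u} [Group G] [Finite G]

theorem inner_auto (σ : ↥Cfsg.M24 ≃* ↥Cfsg.M24) : ∃ w, ∀ x, σ x = w * x * w⁻¹ := by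
  obtain ⟨hs, -⟩ := Nat.card_eq_one_iff_unique.mp Cfsg.Agent.S2064.result
  obtain ⟨w, hw⟩ := (QuotientGroup.eq_one_iff σ).mp (hs.elim ((σ : MulAut ↥Cfsg.M24) : Cfsg.Out ↥Cfsg.M24) 1)
  exact ⟨w, fun x => by rw [← hw]; rfl⟩

/-- A component centralizing a subgroup whose centralizer has cyclic Sylow 2-subgroups does not exist, when that
centralizer is normal and there is no odd core. -/
theorem no_component_in_centralizer (hO : Cfsg.oddCore G = ⊥) {H : Subgroup G} [H.Normal] [Nontrivial ↥H]
    (h2 : 2 ∣ Nat.card H) (hC : ∀ R : Sylow 2 H, IsCyclic (R : Subgroup H)) {K : Subgroup G}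
    (hK : Cfsg.IsComponent K) : ¬ K ≤ H := by
  intro hle
  haveI : Fact (Nat.Prime 2) := ⟨Nat.prime_two⟩
  let P : Sylow 2 H := default
  haveI := hC P
  have hP := IsCyclic.normalizer_le_centralizer ((Nat.minFac_eq_two_iff _).mpr h2) (hC P)
  set τ := MonoidHom.transferSylow P hP
  have hodd : Odd (Nat.card τ.ker) := by
    rw [Nat.odd_iff]
    have h : ¬2 ∣ Nat.card τ.ker := MonoidHom.not_dvd_card_ker_transferSylow P hP
    omega
  have hker : ∀ x : H, x ∈ τ.ker ↔ Odd (orderOf x) := by
    intro x
    constructor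
    · intro hx
      have h3 : orderOf (⟨x, hx⟩ : τ.ker) ∣ Nat.card τ.ker := orderOf_dvd_natCard _
      rw [Subgroup.orderOf_mk] at h3
      exact hodd.of_dvd_nat h3
    · intro hx
      obtain ⟨i, hi⟩ := P.isPGroup' (τ x)
      have h1 : orderOf (τ x) ∣ 2 ^ i := orderOf_dvd_of_pow_eq_one hi
      exact MonoidHom.mem_ker.mpr (orderOf_eq_one_iff.mp
        (Nat.eq_one_of_dvd_coprimes (Nat.Coprime.pow_right _ (Nat.coprime_two_right.mpr hx))
          (orderOf_map_dvd τ x) h1))
  have hn : (τ.ker.map H.subtype).Normal := by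
    constructor
    rintro _ ⟨x, hx, rfl⟩ g
    refine ⟨⟨g * x * g⁻¹, ‹H.Normal›.conj_mem x x.2 g⟩, (hker _).mpr ?_, rfl⟩
    rw [← Subgroup.orderOf_coe, show ((⟨g * x * g⁻¹, _⟩ : H) : G) = MulAut.conj g (x : G) from rfl,
      MulEquiv.orderOf_eq, Subgroup.orderOf_coe]
    exact (hker x).mp hx
  have hbot : τ.ker.map H.subtype = ⊥ := by
    rw [eq_bot_iff, ← hO]
    haveI := hn
    refine Cfsg.Lib.Components.le_pPrimeCore ?_
    rw [Subgroup.card_map_of_injective H.subtype_injective]
    exact Nat.coprime_two_right.mpr hodd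
  refine Cfsg.Lib.Components.comp_not_isMulCommutative hK ⟨⟨fun a c => ?_⟩⟩
  have hinj : Function.Injective τ := by
    rw [← MonoidHom.ker_eq_bot_iff]
    exact Subgroup.map_injective H.subtype_injective (by rw [hbot, Subgroup.map_bot])
  haveI : IsMulCommutative (P : Subgroup H) := inferInstance
  have h : (⟨a, hle a.2⟩ : H) * ⟨c, hle c.2⟩ = ⟨c, hle c.2⟩ * ⟨a, hle a.2⟩ := hinj (by
    rw [map_mul, map_mul]; exact IsMulCommutative.is_comm.comm _ _)
  exact Subtype.ext (congrArg (fun q : H => (q : G)) h)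

variable {V U S : Subgroup ↥Cfsg.M24} {z b : ↥Cfsg.M24}

theorem layer_of_facts (F : Facts24 V U S z b) (hO : Cfsg.oddCore G = ⊥)
    (L : Subgroup G) (hL : Cfsg.IsStandardSubgroup L) (eL : ↥L ≃* ↥Cfsg.M24)
    (hC : ∀ R : Sylow 2 ↥(Subgroup.centralizer (L : Set G)),
      IsCyclic ↥(R : Subgroup ↥(Subgroup.centralizer (L : Set G)))) :
    Nonempty (↥(Cfsg.layer G) ≃* ↥Cfsg.M24) ∨ Nonempty (↥(Cfsg.layer G) ≃* ↥Cfsg.M24 × ↥Cfsg.M24) := by
  haveI : Fact (Nat.Prime 2) := ⟨Nat.prime_two⟩
  set K := Subgroup.centralizer (L : Set G) with hKdef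
  have h2 : 2 ∣ Nat.card K := even_iff_two_dvd.mp hL.2.1.1
  haveI : Nontrivial K := Finite.one_lt_card_iff_nontrivial.mp (by
    have := Nat.card_pos (α := K); omega)
  by_cases hn : L.Normal
  · left
    haveI := hn
    haveI : K.Normal := by rw [hKdef]; infer_instance
    have hcomp : Cfsg.IsComponent L := ⟨hn.isSubnormal, hL.1⟩
    have he : Cfsg.layer G = L := by
      refine le_antisymm (sSup_le fun Q hQ => ?_) (Cfsg.Lib.Components.comp_le_layer hcomp)
      by_cases hQL : Q = L
      · rw [hQL]
      · exfalso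
        refine no_component_in_centralizer hO h2 hC hQ ?_
        rw [hKdef, ← Subgroup.commutator_eq_bot_iff_le_centralizer]
        exact Cfsg.Lib.Components.comp_commute hQ hcomp hQL
    exact ⟨(MulEquiv.subgroupCongr he).trans eL⟩
  obtain ⟨⟨t, htK⟩, ht⟩ := exists_prime_orderOf_dvd_card' (G := K) 2 h2
  rw [Subgroup.orderOf_mk] at ht
  rcases Cfsg.Agent.S1347.result L hL hO t ht htK with h | ⟨X, -, -, ⟨eX⟩, hcomm, hdisj, hsup, -⟩ | ⟨hle, hs, hna⟩
  · exact absurd h hn
  · right
    let Y := X.map (MulAut.conj t).toMonoidHom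
    let f := MonoidHom.noncommCoprod X.subtype Y.subtype fun a c => hcomm a a.2 c c.2
    have hf : Function.Injective f := (MonoidHom.noncommCoprod_injective _ _ _).mpr
      ⟨X.subtype_injective, Y.subtype_injective, by
        rw [Subgroup.range_subtype, Subgroup.range_subtype]; exact disjoint_iff.mpr hdisj⟩
    have hr : f.range = Cfsg.layer G := by
      rw [show f.range = _ from MonoidHom.noncommCoprod_range .., Subgroup.range_subtype, Subgroup.range_subtype, hsup]
    let eY : Y ≃* X := (X.equivMapOfInjective (MulAut.conj t).toMonoidHom (MulEquiv.injective _)).symm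
    exact ⟨((MonoidHom.ofInjective hf).trans (MulEquiv.subgroupCongr hr)).symm.trans
      (MulEquiv.prodCongr (eX.trans eL) ((eY.trans eX).trans eL))⟩
  · exfalso
    have hr : (L.subtype.comp eL.symm.toMonoidHom).range = L := by
      rw [MonoidHom.range_comp, MonoidHom.range_eq_top.mpr eL.symm.surjective, ← MonoidHom.range_eq_map,
        Subgroup.range_subtype]
    let X : Std G ↥Cfsg.M24 :=
      { e := L.subtype.comp eL.symm.toMonoidHom
        inj := L.subtype_injective.comp eL.symm.injective
        std := by rw [hr]; exact hL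
        cyc := by rw [hr]; exact hC
        inner := inner_auto
        center := by
          haveI := Cfsg.Agent.S0365.result
          rcases (inferInstance : (Subgroup.center ↥Cfsg.M24).Normal).eq_bot_or_eq_top with h | h
          · exact h
          · exfalso
            have hz := F.inv_derived z F.order_z
            have hbot : ⁅Subgroup.centralizer ({z} : Set ↥Cfsg.M24), Subgroup.centralizer ({z} : Set ↥Cfsg.M24)⁆ = ⊥ := by
              rw [Subgroup.commutator_eq_bot_iff_le_centralizer]
              intro x _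
              exact Subgroup.mem_centralizer_iff.mpr fun y _ =>
                (Subgroup.mem_center_iff.mp (h ▸ Subgroup.mem_top x) y)
            rw [hbot, Subgroup.mem_bot] at hz
            have h1 := F.order_z
            rw [hz, orderOf_one] at h1
            omega
        derived := F.inv_derived
        noRoot := F.no_root }
    have htX : t ∈ X.K := by
      show t ∈ Subgroup.centralizer (X.e.range : Set G)
      rw [hr]; exact htK
    obtain ⟨C, hCe, hE, hfus⟩ := X.exists_exact htX ht hO (by rw [hr]; exact hn)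
    refine false_twentyFour hE F hfus (Cfsg.layer G) inferInstance hs hna fun m => hle ?_
    rw [hCe, ← hr]
    exact ⟨m, rfl⟩

end Cfsg.Lib.StdWreath.MTwentyFour
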