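import Cfsg.Agent.StdWreath.Split

/-!
Fusion of `t` inside `<t> × X`: the configuration with exact centraliser, the group `<t> × X`, its normaliser, and
the pullback of `<t> × X` along an element moving `t`.
-/

set_option autoImplicit false
set_option linter.unusedSectionVars false

namespace Cfsg.Lib.StdWreath

universe u v

variable {G : Type u} {M : Type v} [Group G] [Group M]

/-- The centraliser of `t` is `M × <t> × D`, and `t` is not conjugate into `M`. -/
structure Exact (C : Cfg G M) : Prop where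
  cent_t : ∀ g, g * C.t = C.t * g → ∃ m, ∃ d ∈ C.D, g = C.e m * d ∨ g = C.e m * C.t * d
  not_conj : ∀ m g, g * C.t * g⁻¹ ≠ C.e m
  center : Subgroup.center M = ⊥

/-- `x` is fused to `1`: `t x` is conjugate to `t`. -/
def Fused (C : Cfg G M) (x : M) : Prop := ∃ g, g * C.t * g⁻¹ = C.t * C.e x

/-- The group `<t> × X`. -/
def tSup (C : Cfg G M) (X : Subgroup M) : Subgroup G where
  carrier := {g | ∃ x ∈ X, g = C.e x ∨ g = C.t * C.e x}
  one_mem' := ⟨1, X.one_mem, Or.inl (map_one _).symm⟩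
  mul_mem' := by
    rintro a b ⟨x, hx, rfl | rfl⟩ ⟨y, hy, rfl | rfl⟩ <;> refine ⟨x * y, X.mul_mem hx hy, ?_⟩
    · exact Or.inl (map_mul _ _ _).symm
    · exact Or.inr (by rw [← mul_assoc, ← C.t_comm, map_mul, mul_assoc])
    · exact Or.inr (by rw [map_mul, mul_assoc])
    · exact Or.inl (by rw [mul_assoc, ← mul_assoc (C.e x), ← C.t_comm, mul_assoc, C.tt, map_mul])
  inv_mem' := by
    rintro a ⟨x, hx, rfl | rfl⟩ <;> refine ⟨x⁻¹, X.inv_mem hx, ?_⟩
    · exact Or.inl (map_inv _ _).symm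
    · exact Or.inr (by rw [mul_inv_rev, C.t_inv, ← map_inv, C.t_comm])

theorem mem_tSup {C : Cfg G M} {X : Subgroup M} {g : G} :
    g ∈ tSup C X ↔ ∃ x ∈ X, g = C.e x ∨ g = C.t * C.e x := Iff.rfl

theorem t_mem_tSup (C : Cfg G M) (X : Subgroup M) : C.t ∈ tSup C X :=
  ⟨1, X.one_mem, Or.inr (by rw [map_one, mul_one])⟩

theorem e_mem_tSup (C : Cfg G M) {X : Subgroup M} {x : M} (hx : x ∈ X) : C.e x ∈ tSup C X := ⟨x, hx, Or.inl rfl⟩

theorem e_mem_tSup_iff (C : Cfg G M) {X : Subgroup M} {x : M} : C.e x ∈ tSup C X ↔ x ∈ X := by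
  refine ⟨?_, e_mem_tSup C⟩
  rintro ⟨y, hy, h | h⟩
  · exact C.inj h ▸ hy
  · exfalso
    apply C.t_not (x * y⁻¹)
    rw [map_mul, map_inv, h, mul_inv_cancel_right]

theorem e_mul_t (C : Cfg G M) (x : M) : C.t * C.e x * C.t = C.e x := by
  rw [C.t_comm, mul_assoc, C.t_sq, mul_one]

theorem e_normalizes_tSup (C : Cfg G M) {X : Subgroup M} {n : M} (hn : n ∈ Subgroup.normalizer (X : Set M)) :
    C.e n ∈ Subgroup.normalizer (tSup C X : Set G) := by
  have key : ∀ k ∈ Subgroup.normalizer (X : Set M), ∀ g ∈ tSup C X, C.e k * g * (C.e k)⁻¹ ∈ tSup C X := by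
    rintro k hk g ⟨x, hx, rfl | rfl⟩
    · exact ⟨_, (Subgroup.mem_normalizer_iff.mp hk x).mp hx, Or.inl (C.e_conj k x)⟩
    · refine ⟨_, (Subgroup.mem_normalizer_iff.mp hk x).mp hx, Or.inr ?_⟩
      rw [← C.e_conj, ← mul_assoc, ← C.t_comm]; group
  refine Subgroup.mem_normalizer_iff.mpr fun g => ⟨key n hn g, fun h => ?_⟩
  have := key _ (Subgroup.inv_mem _ hn) _ h
  rw [map_inv] at this
  convert this using 1; group

theorem sq_tSup {C : Cfg G M} {X : Subgroup M} (hX : Cfsg.IsElementaryAbelian 2 X) {g : G} (hg : g ∈ tSup C X) :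
    g * g = 1 := by
  obtain ⟨x, hx, rfl | rfl⟩ := hg
  · rw [← map_mul, ← pow_two, hX.2 x hx, map_one]
  · rw [← mul_assoc, e_mul_t, ← map_mul, ← pow_two, hX.2 x hx, map_one]

theorem t_commutes_tSup {C : Cfg G M} {X : Subgroup M} {g : G} (hg : g ∈ tSup C X) : g * C.t = C.t * g := by
  obtain ⟨x, hx, rfl | rfl⟩ := hg
  · exact (C.t_comm x).symm
  · rw [mul_assoc, ← C.t_comm]

namespace Exact

variable {C : Cfg G M} [Finite G] (E : Exact C)
include E

theorem D_inter {d : G} (hd : d ∈ C.D) (m : M) (h : d = C.e m) : d = 1 := by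
  have hm : m ∈ Subgroup.center M := Subgroup.mem_center_iff.mpr fun x => C.inj (by
    rw [map_mul, map_mul, ← h, C.D_comm d hd x])
  rw [E.center, Subgroup.mem_bot] at hm
  rw [h, hm, map_one]

/-- An element of `C(t)` squaring to `1` lies in `<t> × M`. -/
theorem invol_cases {g : G} (hc : g * C.t = C.t * g) (hsq : g * g = 1) :
    ∃ m, m * m = 1 ∧ (g = C.e m ∨ g = C.t * C.e m) := by
  obtain ⟨m, d, hd, hg | hg⟩ := E.cent_t g hc
  · have h1 : d * d = C.e (m * m)⁻¹ := by
      have h2 : C.e m * C.e m * (d * d) = 1 := by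
        rw [← hsq, hg]
        calc C.e m * C.e m * (d * d) = C.e m * (C.e m * d) * d := by group
          _ = C.e m * (d * C.e m) * d := by rw [C.D_comm d hd m]
          _ = _ := by group
      rw [map_inv, map_mul]
      exact eq_inv_of_mul_eq_one_right h2
    have hdd : d = 1 := by
      obtain ⟨k, hk⟩ := C.D_odd
      have hN : d ^ (2 * k + 1) = 1 := by
        rw [← hk]; exact congrArg Subtype.val (pow_card_eq_one' (G := C.D) (x := ⟨d, hd⟩))
      by_contra hne
      have hdK : (C.e (m * m)⁻¹) ^ k * d = 1 := by rw [← h1, ← pow_two, ← pow_mul, ← pow_succ, hN]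
      have hde : d = C.e (((m * m)⁻¹) ^ k)⁻¹ := by
        rw [map_inv, map_pow]; exact eq_inv_of_mul_eq_one_right hdK
      exact hne (E.D_inter hd _ hde)
    refine ⟨m, ?_, Or.inl (by rw [hg, hdd, mul_one])⟩
    rw [hdd, mul_one] at h1
    exact inv_eq_one.mp (C.inj (h1.symm.trans (map_one _).symm))
  · have h1 : (C.e m * C.t) * (C.e m * C.t) * (d * d) = 1 := by
      rw [← hsq, hg]
      have hc' : C.e m * C.t * d = d * (C.e m * C.t) := by
        rw [← mul_assoc, C.D_comm d hd, mul_assoc, mul_assoc, C.D_t d hd]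
      calc C.e m * C.t * (C.e m * C.t) * (d * d) = C.e m * C.t * (C.e m * C.t * d) * d := by group
        _ = C.e m * C.t * (d * (C.e m * C.t)) * d := by rw [hc']
        _ = _ := by group
    rw [mul_assoc (C.e m), ← mul_assoc C.t, e_mul_t, ← map_mul] at h1
    have h2 : d * d = C.e (m * m)⁻¹ := by rw [map_inv]; exact eq_inv_of_mul_eq_one_right h1
    have hdd : d = 1 := by
      obtain ⟨k, hk⟩ := C.D_odd
      have hN : d ^ (2 * k + 1) = 1 := by
        rw [← hk]; exact congrArg Subtype.val (pow_card_eq_one' (G := C.D) (x := ⟨d, hd⟩))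
      have hdK : (C.e (m * m)⁻¹) ^ k * d = 1 := by rw [← h2, ← pow_two, ← pow_mul, ← pow_succ, hN]
      have hde : d = C.e (((m * m)⁻¹) ^ k)⁻¹ := by
        rw [map_inv, map_pow]; exact eq_inv_of_mul_eq_one_right hdK
      exact E.D_inter hd _ hde
    refine ⟨m, ?_, Or.inr (by rw [hg, hdd, mul_one, C.t_comm])⟩
    rw [hdd, mul_one] at h2
    exact inv_eq_one.mp (C.inj (h2.symm.trans (map_one _).symm))

end Exact

end Cfsg.Lib.StdWreath
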