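import Cfsg.Agent.StdWreath.Second

/-!
The commutators of the two doubled modules lie in their intersection; either they give a direct product or a twisted
action on `U × U`.
-/

set_option autoImplicit false
set_option linter.unusedSectionVars false

namespace Cfsg.Lib.StdWreath

universe u v

section Word

variable {G : Type u} [Group G]

theorem abab_comm_left {a b e m : G} (ha2 : a * a = 1) (hb2 : b * b = 1) (hm2 : m * m = 1) (hae : a * e = e * a)
    (hbe : b * e * b = e * m) (hma : m * a = a * m) (hmb : m * b = b * m) (hme : m * e = e * m) :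
    a * b * a * b * e = e * (a * b * a * b) := by
  have h1 : b * e = e * m * b := by rw [← hbe, mul_assoc, hb2, mul_one]
  calc a * b * a * b * e = a * b * (a * (e * m * b)) := by rw [mul_assoc (a * b * a), h1, mul_assoc (a * b)]
    _ = a * b * ((a * e) * m * b) := by group
    _ = a * (b * e) * (a * m) * b := by rw [hae]; group
    _ = a * e * (m * b) * (a * m) * b := by rw [h1]; group
    _ = e * a * (b * m) * (m * a) * b := by rw [hae, hmb, hma]
    _ = e * a * b * (m * m) * a * b := by group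
    _ = _ := by rw [hm2, mul_one]; group

theorem abab_comm_right {a b e m : G} (ha2 : a * a = 1) (hb2 : b * b = 1) (hm2 : m * m = 1) (hbe : b * e = e * b)
    (hae : a * e * a = e * m) (hma : m * a = a * m) (hmb : m * b = b * m) (hme : m * e = e * m) :
    a * b * a * b * e = e * (a * b * a * b) := by
  have h1 : a * e = e * m * a := by rw [← hae, mul_assoc, ha2, mul_one]
  calc a * b * a * b * e = a * b * (a * e) * b := by rw [mul_assoc, hbe]; group
    _ = a * (b * e) * (m * a) * b := by rw [h1]; group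
    _ = (a * e) * b * (a * m) * b := by rw [hbe, hma]; group
    _ = e * a * (m * b) * (a * m) * b := by rw [h1, mul_assoc e m a, hma]; group
    _ = e * a * (b * m) * (m * a) * b := by rw [hmb, hma]
    _ = e * a * b * (m * m) * a * b := by group
    _ = _ := by rw [hm2, mul_one]; group

end Word

variable {G : Type u} {M : Type v} [Group G] [Group M] {C : Cfg G M} {V U S : Subgroup M} {z : M}

/-- Sections over `V` and `U` agreeing on `U ⊓ V`. -/
structure Link (C : Cfg G M) (V U : Subgroup M) where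
  BV : Dbl C V
  BU : Dbl C U
  link : ∀ l ∈ U ⊓ V, BU.s l = BV.s l

namespace Link

variable (K : Link C V U)

/-- The commutator of the two sections. -/
def br (x u : M) : G := K.BV.s x * K.BU.s u * K.BV.s x * K.BU.s u

/-- The two modules give a direct product. -/
def IsProd : Prop := ∀ x ∈ V, ∀ u ∈ U, K.br x u = K.BV.s (comm x u)

variable [Finite M] (F : Frame V U S z)
include F

theorem V_inv {x : M} (hx : x ∈ V) : x⁻¹ = x :=
  inv_eq_of_mul_eq_one_right (by rw [← pow_two]; exact F.elemV.2 x hx)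

theorem U_inv {x : M} (hx : x ∈ U) : x⁻¹ = x :=
  inv_eq_of_mul_eq_one_right (by rw [← pow_two]; exact F.elemU.2 x hx)

omit K in
theorem comm_mem {x u : M} (hx : x ∈ V) (hu : u ∈ U) : comm x u ∈ U ⊓ V := by
  constructor
  · exact U.mul_mem ((Subgroup.mem_normalizer_iff.mp (V_le_NU F hx) u).mp hu) (U.inv_mem hu)
  · have h := V.mul_mem hx ((Subgroup.mem_normalizer_iff.mp (U_le_NV F hu) x⁻¹).mp (V.inv_mem hx))
    rwa [← mul_assoc, ← mul_assoc] at h

omit K in
theorem U_conj_V {x u : M} (hx : x ∈ V) (hu : u ∈ U) : u * x * u⁻¹ = x * comm x u := by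
  have hxx : x * x = 1 := by rw [← pow_two]; exact F.elemV.2 x hx
  calc u * x * u⁻¹ = (x * x) * u * x⁻¹ * u⁻¹ := by rw [hxx, inv_eq_of_mul_eq_one_right hxx, one_mul]
    _ = _ := by rw [comm]; group

omit K in
theorem V_conj_U {x u : M} (hx : x ∈ V) (hu : u ∈ U) : x * u * x⁻¹ = comm x u * u := by
  rw [comm]; group

omit K in
theorem comm_mul {x u u' : M} (hx : x ∈ V) (hu : u ∈ U) (hu' : u' ∈ U) :
    comm x (u * u') = comm x u * comm x u' := by
  have h := elem_comm F.elemU hu (comm_mem F hx hu').1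
  calc comm x (u * u') = comm x u * (u * comm x u' * u⁻¹) := by rw [comm, comm, comm]; group
    _ = _ := by rw [h, mul_inv_cancel_right]

omit K in
theorem comm_mul_left {x x' u : M} (hx : x ∈ V) (hx' : x' ∈ V) (hu : u ∈ U) :
    comm (x * x') u = comm x u * comm x' u := by
  have h := elem_comm F.elemV hx (comm_mem F hx' hu).2
  calc comm (x * x') u = x * comm x' u * x⁻¹ * comm x u := by rw [comm, comm, comm]; group
    _ = comm x' u * comm x u := by rw [h, mul_inv_cancel_right]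
    _ = _ := elem_comm F.elemV (comm_mem F hx' hu).2 (comm_mem F hx hu).2

theorem s_L_comm_U {l u : M} (hl : l ∈ U ⊓ V) (hu : u ∈ U) : K.BV.s l * K.BU.s u = K.BU.s u * K.BV.s l := by
  rw [← K.link l hl]; exact K.BU.comm l hl.1 u hu

theorem s_L_e_U {l u : M} (hl : l ∈ U ⊓ V) (hu : u ∈ U) : K.BV.s l * C.e u = C.e u * K.BV.s l := by
  rw [← K.link l hl]; exact K.BU.X_comm l hl.1 u hu

theorem sV_e_sV {x u : M} (hx : x ∈ V) (hu : u ∈ U) :
    K.BV.s x * C.e u * K.BV.s x = C.e u * K.BV.s (comm x u) := by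
  have hn := comm_mem F hx hu
  have h := K.BV.equiv u (U_le_NV F hu) x hx
  rw [U_conj_V F hx hu, K.BV.add x hx _ hn.2, mul_inv_eq_iff_eq_mul] at h
  rw [mul_assoc, h, ← mul_assoc, ← mul_assoc, K.BV.sq x hx, one_mul, K.s_L_e_U F hn hu]

theorem sU_e_sU {x u : M} (hx : x ∈ V) (hu : u ∈ U) :
    K.BU.s u * C.e x * K.BU.s u = C.e x * K.BV.s (comm x u) := by
  have hn := comm_mem F hx hu
  have h := K.BU.equiv x (V_le_NU F hx) u hu
  rw [V_conj_U F hx hu, K.BU.add _ hn.1 u hu, K.link _ hn, mul_inv_eq_iff_eq_mul] at h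
  rw [mul_assoc, h, ← mul_assoc, ← mul_assoc, ← K.s_L_comm_U F hn hu, mul_assoc (K.BV.s _), K.BU.sq u hu, mul_one,
    K.BV.X_comm _ hn.2 x hx]

theorem e_comm {x u : M} (hx : x ∈ V) (hu : u ∈ U) : C.e x * C.e u * C.e x = C.e (comm x u) * C.e u := by
  rw [← map_mul, ← map_mul, ← map_mul, ← V_conj_U F hx hu, V_inv F hx]

theorem t_br {x u : M} (hx : x ∈ V) (hu : u ∈ U) : C.t * K.br x u * C.t = K.br x u * C.e (comm x u) := by
  set a := K.BV.s x with ha
  set c := K.BU.s u with hc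
  set n := comm x u with hndef
  have hn : n ∈ U ⊓ V := comm_mem F hx hu
  have h1 : C.t * a * C.t = a * C.e x := K.BV.flip hx
  have h2 : C.t * c * C.t = c * C.e u := K.BU.flip hu
  have h3 : C.e x * c = c * (C.e x * K.BV.s n) := by
    rw [← K.sU_e_sU F hx hu, ← mul_assoc, ← mul_assoc, ← hc, K.BU.sq u hu, one_mul]
  have h4 : C.e u * a = a * (C.e u * K.BV.s n) := by
    rw [← K.sV_e_sV F hx hu, ← mul_assoc, ← mul_assoc, ← ha, K.BV.sq x hx, one_mul]
  have h5 : C.e x * a = a * C.e x := (K.BV.X_comm x hx x hx).symm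
  calc C.t * K.br x u * C.t = C.t * a * (C.t * C.t) * c * (C.t * C.t) * a * (C.t * C.t) * c * C.t := by
        rw [C.t_sq, br, ← ha, ← hc]; group
    _ = (C.t * a * C.t) * (C.t * c * C.t) * (C.t * a * C.t) * (C.t * c * C.t) := by group
    _ = a * (C.e x * c) * (C.e u * a) * C.e x * c * C.e u := by rw [h1, h2]; group
    _ = a * c * C.e x * (K.BV.s n * a) * C.e u * K.BV.s n * C.e x * c * C.e u := by rw [h3, h4]; group
    _ = a * c * C.e x * a * (K.BV.s n * C.e u) * K.BV.s n * C.e x * c * C.e u := by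
        rw [ha, K.BV.comm n hn.2 x hx]; group
    _ = a * c * (C.e x * a) * C.e u * (K.BV.s n * K.BV.s n) * C.e x * c * C.e u := by
        rw [K.s_L_e_U F hn hu]; group
    _ = a * c * a * (C.e x * C.e u * C.e x) * c * C.e u := by rw [h5, K.BV.sq n hn.2]; group
    _ = a * c * a * C.e n * (C.e u * c) * C.e u := by rw [e_comm F hx hu, ← hndef]; group
    _ = a * c * a * (C.e n * c) * (C.e u * C.e u) := by rw [hc, ← K.BU.X_comm u hu u hu]; group
    _ = a * c * a * (c * C.e n) * (C.e u * C.e u) := by rw [hc, ← K.BU.X_comm u hu n hn.1]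
    _ = _ := by rw [Dbl.sq_e F.elemU hu, mul_one, br, ← ha, ← hc]; group

theorem br_V {x u y : M} (hx : x ∈ V) (hu : u ∈ U) (hy : y ∈ V) : K.br x u * C.e y = C.e y * K.br x u := by
  have hn := comm_mem F hy hu
  exact abab_comm_left (K.BV.sq x hx) (K.BU.sq u hu) (K.BV.sq _ hn.2) (K.BV.X_comm x hx y hy) (K.sU_e_sU F hy hu)
    (K.BV.comm _ hn.2 x hx) (K.s_L_comm_U F hn hu) (K.BV.X_comm _ hn.2 y hy)

theorem br_U {x u y : M} (hx : x ∈ V) (hu : u ∈ U) (hy : y ∈ U) : K.br x u * C.e y = C.e y * K.br x u := by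
  have hn := comm_mem F hx hy
  exact abab_comm_right (K.BV.sq x hx) (K.BU.sq u hu) (K.BV.sq _ hn.2) (K.BU.X_comm u hu y hy) (K.sV_e_sV F hx hy)
    (K.BV.comm _ hn.2 x hx) (K.s_L_comm_U F hn hu) (K.s_L_e_U F hn hy)

theorem br_L {x u l : M} (hx : x ∈ V) (hu : u ∈ U) (hl : l ∈ U ⊓ V) :
    K.br x u * K.BV.s l = K.BV.s l * K.br x u := by
  have h1 : Commute (K.BV.s x) (K.BV.s l) := K.BV.comm x hx l hl.2
  have h2 : Commute (K.BU.s u) (K.BV.s l) := (K.s_L_comm_U F hl hu).symm
  exact ((h1.mul_left h2).mul_left h1).mul_left h2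

variable [Finite G] (E : LocExact C V U)
include E

theorem br_eq {x u : M} (hx : x ∈ V) (hu : u ∈ U) :
    ∃ y ∈ U ⊓ V, K.br x u = K.BV.s (comm x u) * C.e y := by
  set n := comm x u with hndef
  have hn : n ∈ U ⊓ V := comm_mem F hx hu
  have hn2 : K.BV.s n * K.BV.s n = 1 := K.BV.sq n hn.2
  set g := K.BV.s n * K.br x u with hg
  have hgt : g * C.t = C.t * g := by
    have h1 : C.t * g * C.t = g := by
      calc C.t * g * C.t = C.t * K.BV.s n * (C.t * C.t) * K.br x u * C.t := by rw [C.t_sq, hg]; group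
        _ = (C.t * K.BV.s n * C.t) * (C.t * K.br x u * C.t) := by group
        _ = K.BV.s n * (C.e n * K.br x u) * C.e n := by rw [K.BV.flip hn.2, K.t_br F hx hu, ← hndef]; group
        _ = K.BV.s n * K.br x u * (C.e n * C.e n) := by rw [← K.br_V F hx hu hn.2]; group
        _ = g := by rw [Dbl.sq_e F.elemV hn.2, mul_one]
    calc g * C.t = C.t * g * C.t * C.t := by rw [h1]
      _ = _ := by rw [mul_assoc, C.t_sq, mul_one]
  have hgV : ∀ y ∈ V, g * C.e y = C.e y * g := fun y hy => by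
    rw [hg, mul_assoc, K.br_V F hx hu hy, ← mul_assoc, K.BV.X_comm n hn.2 y hy, mul_assoc]
  have hgL : ∀ l ∈ U ⊓ V, g * K.BV.s l = K.BV.s l * g := fun l hl => by
    rw [hg, mul_assoc, K.br_L F hx hu hl, ← mul_assoc, K.BV.comm n hn.2 l hl.2, mul_assoc]
  obtain ⟨y, hy, d, hd, hc⟩ := E.cent_of_V F.centralizer_V hgt hgV
  have hc' : g = C.e y * d := by
    refine hc.resolve_right fun hc => F.z_ne_one ?_
    have h1 := hgL z F.z_mem
    rw [hc, mul_assoc, K.BV.D_comm z F.z_mem.2 d hd, ← mul_assoc, ← mul_assoc] at h1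
    have h2 := mul_right_cancel h1
    rw [← mul_assoc (K.BV.s z), K.BV.X_comm z F.z_mem.2 y hy, mul_assoc, mul_assoc] at h2
    have h3 := mul_left_cancel h2
    have h4 := K.BV.flip F.z_mem.2
    rw [h3, mul_assoc, C.t_sq, mul_one] at h4
    exact C.inj (by rw [map_one]; exact mul_eq_left.mp h4.symm)
  have hyU : y ∈ U := by
    rw [← F.centralizer_U]
    refine Subgroup.mem_centralizer_iff.mpr fun w hw => C.inj ?_
    have h1 : g * C.e w = C.e w * g := by
      rw [hg, mul_assoc, K.br_U F hx hu hw, ← mul_assoc, K.s_L_e_U F hn hw, mul_assoc]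
    rw [hc', mul_assoc, C.D_comm d hd, ← mul_assoc, ← mul_assoc] at h1
    rw [map_mul, map_mul]
    exact (mul_right_cancel h1).symm
  refine ⟨y, ⟨hyU, hy⟩, ?_⟩
  have hbr : K.br x u = K.BV.s n * (C.e y * d) := by
    rw [← hc', hg, ← mul_assoc, hn2, one_mul]
  -- the commutator is its own inverse, so the `D`-part is trivial
  have hfix : K.BV.s x * K.br x u * K.BV.s x = K.br x u := by
    have h1 : Commute (K.BV.s x) (K.br x u) := by
      rw [hbr]
      exact (show Commute (K.BV.s x) (K.BV.s n) from K.BV.comm x hx n hn.2).mul_right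
        ((show Commute (K.BV.s x) (C.e y) from K.BV.X_comm x hx y hy).mul_right (K.BV.D_comm x hx d hd).symm)
    rw [h1.eq, mul_assoc, K.BV.sq x hx, mul_one]
  have hinv : K.br x u * K.br x u = 1 := by
    calc K.br x u * K.br x u = K.br x u * (K.BV.s x * K.br x u * K.BV.s x) := by rw [hfix]
      _ = K.br x u * (K.BV.s x * K.BV.s x) * K.BU.s u * K.BV.s x * (K.BU.s u * K.BV.s x) := by rw [br]; group
      _ = K.BV.s x * K.BU.s u * K.BV.s x * (K.BU.s u * K.BU.s u) * K.BV.s x * (K.BU.s u * K.BV.s x) := by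
          rw [K.BV.sq x hx, br]; group
      _ = K.BV.s x * K.BU.s u * (K.BV.s x * K.BV.s x) * (K.BU.s u * K.BV.s x) := by rw [K.BU.sq u hu]; group
      _ = K.BV.s x * (K.BU.s u * K.BU.s u) * K.BV.s x := by rw [K.BV.sq x hx]; group
      _ = 1 := by rw [K.BU.sq u hu, mul_one, K.BV.sq x hx]
  have hdd : d * d = 1 := by
    have h2 : Commute (K.BV.s n * C.e y) d :=
      (show Commute (K.BV.s n) d from (K.BV.D_comm n hn.2 d hd).symm).mul_left (C.D_comm d hd y).symm
    have h3 : (K.BV.s n * C.e y) * (K.BV.s n * C.e y) = 1 := by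
      calc K.BV.s n * C.e y * (K.BV.s n * C.e y) = K.BV.s n * (C.e y * K.BV.s n) * C.e y := by group
        _ = K.BV.s n * K.BV.s n * (C.e y * C.e y) := by rw [← K.BV.X_comm n hn.2 y hy]; group
        _ = 1 := by rw [hn2, Dbl.sq_e F.elemV hy, mul_one]
    rw [hbr, ← mul_assoc] at hinv
    calc d * d = (K.BV.s n * C.e y) * (K.BV.s n * C.e y) * (d * d) := by rw [h3, one_mul]
      _ = K.BV.s n * C.e y * d * (K.BV.s n * C.e y * d) := by
          rw [mul_assoc (K.BV.s n * C.e y) d, ← mul_assoc d, ← h2.eq]; group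
      _ = 1 := by simp only [mul_assoc] at hinv ⊢; exact hinv
  rw [hbr, C.D_sq_eq_one hd hdd, mul_one]

theorem br_comm_sU {x u u' : M} (hx : x ∈ V) (hu : u ∈ U) (hu' : u' ∈ U) :
    K.br x u * K.BU.s u' = K.BU.s u' * K.br x u := by
  obtain ⟨y, hy, he⟩ := K.br_eq F E hx hu
  rw [he]
  exact ((show Commute (K.BV.s (comm x u)) (K.BU.s u') from K.s_L_comm_U F (comm_mem F hx hu) hu').mul_left
    (show Commute (C.e y) (K.BU.s u') from (K.BU.X_comm u' hu' y hy.1).symm))

theorem br_comm_sV {x u x' : M} (hx : x ∈ V) (hu : u ∈ U) (hx' : x' ∈ V) :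
    K.br x u * K.BV.s x' = K.BV.s x' * K.br x u := by
  obtain ⟨y, hy, he⟩ := K.br_eq F E hx hu
  rw [he]
  exact ((show Commute (K.BV.s (comm x u)) (K.BV.s x') from K.BV.comm _ (comm_mem F hx hu).2 x' hx').mul_left
    (show Commute (C.e y) (K.BV.s x') from (K.BV.X_comm x' hx' y hy.2).symm))

theorem br_mul_right {x u u' : M} (hx : x ∈ V) (hu : u ∈ U) (hu' : u' ∈ U) :
    K.br x (u * u') = K.br x u * K.br x u' := by
  have h1 : K.BU.s u' * K.BV.s x = K.BV.s x * (K.br x u' * K.BU.s u') := by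
    calc K.BU.s u' * K.BV.s x
        = (K.BV.s x * K.BV.s x) * K.BU.s u' * K.BV.s x * (K.BU.s u' * K.BU.s u') := by
          rw [K.BV.sq x hx, K.BU.sq u' hu', one_mul, mul_one]
      _ = _ := by rw [br]; group
  calc K.br x (u * u') = K.BV.s x * K.BU.s u * (K.BU.s u' * K.BV.s x) * (K.BU.s u * K.BU.s u') := by
        rw [br, K.BU.add u hu u' hu']; group
    _ = K.BV.s x * K.BU.s u * K.BV.s x * K.br x u' * (K.BU.s u' * (K.BU.s u * K.BU.s u')) := by rw [h1]; group
    _ = K.BV.s x * K.BU.s u * K.BV.s x * (K.br x u' * K.BU.s u) * (K.BU.s u' * K.BU.s u') := by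
        rw [← mul_assoc (K.BU.s u') (K.BU.s u), K.BU.comm u' hu' u hu]; group
    _ = _ := by rw [K.br_comm_sU F E hx hu' hu, K.BU.sq u' hu', mul_one, br, br]; group

theorem br_mul_left {x x' u : M} (hx : x ∈ V) (hx' : x' ∈ V) (hu : u ∈ U) :
    K.br (x * x') u = K.br x u * K.br x' u := by
  have h1 : K.BU.s u * K.BV.s x = K.BV.s x * (K.br x u * K.BU.s u) := by
    calc K.BU.s u * K.BV.s x
        = (K.BV.s x * K.BV.s x) * K.BU.s u * K.BV.s x * (K.BU.s u * K.BU.s u) := by
          rw [K.BV.sq x hx, K.BU.sq u hu, one_mul, mul_one]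
      _ = _ := by rw [br]; group
  calc K.br (x * x') u = K.BV.s x * K.BV.s x' * (K.BU.s u * K.BV.s x) * K.BV.s x' * K.BU.s u := by
        rw [br, K.BV.add x hx x' hx']; group
    _ = K.BV.s x * (K.BV.s x' * K.BV.s x) * (K.br x u * K.BU.s u) * K.BV.s x' * K.BU.s u := by rw [h1]; group
    _ = (K.BV.s x * K.BV.s x) * (K.BV.s x' * K.br x u) * K.BU.s u * K.BV.s x' * K.BU.s u := by
        rw [K.BV.comm x' hx' x hx]; group
    _ = _ := by rw [K.BV.sq x hx, ← K.br_comm_sV F E hx hu hx', br, br]; group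

/-- Either a direct product or the twisted commutator. -/
theorem prod_or_twisted :
    K.IsProd ∨ ∀ x ∈ V, ∀ u ∈ U, K.br x u = K.BV.s (comm x u) * C.e (comm x u) := by
  have hex : ∀ x ∈ V, ∀ u ∈ U, ∃ y, y ∈ U ⊓ V ∧ K.br x u = K.BV.s (comm x u) * C.e y :=
    fun x hx u hu => K.br_eq F E hx hu
  choose! f hfL hf using hex
  have huniq : ∀ n ∈ U ⊓ V, ∀ p ∈ U ⊓ V, ∀ q ∈ U ⊓ V,
      K.BV.s n * C.e p = K.BV.s n * C.e q → p = q := fun n _ p _ q _ h => C.inj (mul_left_cancel h)
  have hmul : ∀ n ∈ U ⊓ V, ∀ n' ∈ U ⊓ V, ∀ p ∈ U ⊓ V, ∀ p' : M,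
      K.BV.s n * C.e p * (K.BV.s n' * C.e p') = K.BV.s (n * n') * C.e (p * p') := by
    intro n hn n' hn' p hp p'
    rw [K.BV.add n hn.2 n' hn'.2, map_mul]
    calc K.BV.s n * C.e p * (K.BV.s n' * C.e p') = K.BV.s n * (C.e p * K.BV.s n') * C.e p' := by group
      _ = _ := by rw [← K.BV.X_comm n' hn'.2 p hp.2]; group
  rcases F.bil_VU f hfL (fun x hx u hu u' hu' => by
      have h := hf x hx (u * u') (U.mul_mem hu hu')
      rw [K.br_mul_right F E hx hu hu', hf x hx u hu, hf x hx u' hu', hmul _ (comm_mem F hx hu) _ (comm_mem F hx hu') _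
        (hfL x hx u hu), ← comm_mul F hx hu hu'] at h
      exact (huniq _ (comm_mem F hx (U.mul_mem hu hu')) _ ((U ⊓ V).mul_mem (hfL x hx u hu) (hfL x hx u' hu')) _
        (hfL x hx _ (U.mul_mem hu hu')) h).symm)
    (fun u hu x hx x' hx' => by
      have h := hf (x * x') (V.mul_mem hx hx') u hu
      rw [K.br_mul_left F E hx hx' hu, hf x hx u hu, hf x' hx' u hu, hmul _ (comm_mem F hx hu) _ (comm_mem F hx' hu) _
        (hfL x hx u hu), ← comm_mul_left F hx hx' hu] at h
      exact (huniq _ (comm_mem F (V.mul_mem hx hx') hu) _ ((U ⊓ V).mul_mem (hfL x hx u hu) (hfL x' hx' u hu)) _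
        (hfL _ (V.mul_mem hx hx') u hu) h).symm)
    (fun x hx u hu h => by
      have h2 : comm x u = 1 ∧ K.br x u = 1 := by
        rcases h with h | h
        · refine ⟨by rw [comm, elem_comm F.elemU h hu]; group, ?_⟩
          rw [br, K.s_L_comm_U F ⟨h, hx⟩ hu, mul_assoc (K.BU.s u), K.BV.sq x hx, mul_one, K.BU.sq u hu]
        · refine ⟨by rw [comm, elem_comm F.elemV hx h]; group, ?_⟩
          rw [br, K.link u ⟨hu, h⟩, K.BV.comm x hx u h, mul_assoc (K.BV.s u), K.BV.sq x hx, mul_one, K.BV.sq u h]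
      have h3 := hf x hx u hu
      rw [h2.1, h2.2, K.BV.s_one, one_mul] at h3
      exact C.inj (h3.symm.trans (map_one _).symm))
    (fun g hg x hx u hu => by
      have hgx : g * x * g⁻¹ ∈ V := (Subgroup.mem_normalizer_iff.mp hg.2 x).mp hx
      have hgu : g * u * g⁻¹ ∈ U := (Subgroup.mem_normalizer_iff.mp hg.1 u).mp hu
      have hn : comm (g * x * g⁻¹) (g * u * g⁻¹) = g * comm x u * g⁻¹ := by rw [comm, comm]; group
      have hgy : g * f x u * g⁻¹ ∈ U ⊓ V :=
        ⟨(Subgroup.mem_normalizer_iff.mp hg.1 _).mp (hfL x hx u hu).1,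
          (Subgroup.mem_normalizer_iff.mp hg.2 _).mp (hfL x hx u hu).2⟩
      refine huniq _ (comm_mem F hgx hgu) _ (hfL _ hgx _ hgu) _ hgy ?_
      rw [← hf _ hgx _ hgu]
      calc K.br (g * x * g⁻¹) (g * u * g⁻¹) = C.e g * K.br x u * (C.e g)⁻¹ := by
            rw [br, br, ← K.BV.equiv g hg.2 x hx, ← K.BU.equiv g hg.1 u hu]; group
        _ = C.e g * K.BV.s (comm x u) * (C.e g)⁻¹ * (C.e g * C.e (f x u) * (C.e g)⁻¹) := by
            rw [hf x hx u hu]; group
        _ = _ := by rw [K.BV.equiv g hg.2 _ (comm_mem F hx hu).2, C.e_conj, hn]) with h0 | h1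
  · exact Or.inl fun x hx u hu => by rw [hf x hx u hu, h0 x hx u hu, map_one, mul_one]
  · exact Or.inr fun x hx u hu => by rw [hf x hx u hu, h1 x hx u hu]

end Link

end Cfsg.Lib.StdWreath
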