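import Cfsg.Agent.StdWreath.Orbit

/-!
Pulling `<t> × X` back along an element `g` with `g t g⁻¹` in it, and projecting centralisers into `M`.
-/

set_option autoImplicit false
set_option linter.unusedSectionVars false

namespace Cfsg.Lib.StdWreath

universe u v

variable {G : Type u} {M : Type v} [Group G] [Group M]

theorem elem_comm {X : Subgroup M} (hX : Cfsg.IsElementaryAbelian 2 X) {x y : M} (hx : x ∈ X) (hy : y ∈ X) :
    x * y = y * x :=
  congrArg Subtype.val (hX.1.is_comm.comm (⟨x, hx⟩ : X) ⟨y, hy⟩)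

theorem tSup_comm {C : Cfg G M} {X : Subgroup M} (hX : Cfsg.IsElementaryAbelian 2 X) {a b : G} (ha : a ∈ tSup C X)
    (hb : b ∈ tSup C X) : a * b = b * a := by
  have h1 := sq_tSup hX ha
  have h2 := sq_tSup hX hb
  have h3 := sq_tSup hX ((tSup C X).mul_mem ha hb)
  calc a * b = a * (a * b * (a * b)) * b := by rw [h3, mul_one]
    _ = (a * a) * (b * a) * (b * b) := by group
    _ = b * a := by rw [h1, h2, one_mul, mul_one]

/-- The elements of `M` carried by `g` into `<t> × X`. -/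
def pull (C : Cfg G M) (X : Subgroup M) (g : G) : Subgroup M :=
  ((tSup C X).comap (MulAut.conj g).toMonoidHom).comap C.e

theorem mem_pull {C : Cfg G M} {X : Subgroup M} {g : G} {m : M} :
    m ∈ pull C X g ↔ g * C.e m * g⁻¹ ∈ tSup C X := Iff.rfl

namespace Exact

variable {C : Cfg G M} [Finite G] (E : Exact C)
include E

theorem fused_sq {m : M} (h : Fused C m) : m * m = 1 := by
  obtain ⟨g, hg⟩ := h
  have h1 : (C.t * C.e m) * (C.t * C.e m) = 1 := by
    rw [← hg, ← pow_two, conj_pow, pow_two, C.t_sq, mul_one, mul_inv_cancel]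
  rw [← mul_assoc, e_mul_t, ← map_mul] at h1
  exact C.inj (h1.trans (map_one _).symm)

theorem fused_conj {m : M} (h : Fused C m) (n : M) : Fused C (n * m * n⁻¹) := by
  obtain ⟨g, hg⟩ := h
  refine ⟨C.e n * g, ?_⟩
  calc C.e n * g * C.t * (C.e n * g)⁻¹ = C.e n * (g * C.t * g⁻¹) * (C.e n)⁻¹ := by group
    _ = (C.e n * C.t) * C.e m * (C.e n)⁻¹ := by rw [hg]; group
    _ = C.t * (C.e n * C.e m * (C.e n)⁻¹) := by rw [← C.t_comm]; group
    _ = _ := by rw [C.e_conj]

theorem pre_t {g : G} {m : M} (hg : g * C.t * g⁻¹ = C.t * C.e m) :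
    ∃ α, g⁻¹ * C.t * g = C.t * C.e α := by
  have hcomm : g⁻¹ * C.t * g * C.t = C.t * (g⁻¹ * C.t * g) := by
    have h1 : C.t * (g * C.t * g⁻¹) = g * C.t * g⁻¹ * C.t := by
      rw [hg, mul_assoc C.t (C.e m), ← C.t_comm]
    calc g⁻¹ * C.t * g * C.t = g⁻¹ * (C.t * (g * C.t * g⁻¹)) * g := by group
      _ = g⁻¹ * (g * C.t * g⁻¹ * C.t) * g := by rw [h1]
      _ = _ := by group
  have hsq : (g⁻¹ * C.t * g) * (g⁻¹ * C.t * g) = 1 := by
    calc (g⁻¹ * C.t * g) * (g⁻¹ * C.t * g) = g⁻¹ * (C.t * C.t) * g := by group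
      _ = 1 := by rw [C.t_sq]; group
  obtain ⟨α, -, hα | hα⟩ := E.invol_cases hcomm hsq
  · exact absurd (show g⁻¹ * C.t * g⁻¹⁻¹ = C.e α by rw [inv_inv, hα]) (E.not_conj α g⁻¹)
  · exact ⟨α, hα⟩

theorem conj_t_of_normalizer {X : Subgroup M} {h : G} (hh : h ∈ Subgroup.normalizer (tSup C X : Set G)) :
    ∃ c ∈ X, h * C.t * h⁻¹ = C.t * C.e c := by
  obtain ⟨c, hc, hc' | hc'⟩ := (Subgroup.mem_normalizer_iff.mp hh C.t).mp (t_mem_tSup C X)
  · exact absurd hc' (E.not_conj c h)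
  · exact ⟨c, hc, hc'⟩

/-- An element normalising `<t> × X` normalises `X`, as soon as `X` is spanned by fused elements. -/
theorem conj_mem_X {X : Subgroup M} {x0 : M} (hf : Fused C x0)
    (hspan : X ≤ Subgroup.closure {y | ∃ n ∈ Subgroup.normalizer (X : Set M), n * x0 * n⁻¹ = y})
    (hx0 : x0 ∈ X) {h : G} (hh : h ∈ Subgroup.normalizer (tSup C X : Set G)) {x : M} (hx : x ∈ X) :
    ∃ y ∈ X, h * C.e x * h⁻¹ = C.e y := by
  obtain ⟨c, hc, hct⟩ := E.conj_t_of_normalizer hh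
  let K : Subgroup M := (X.map C.e).comap ((MulAut.conj h).toMonoidHom.comp C.e)
  have hle : X ≤ K := hspan.trans <| by
    rw [Subgroup.closure_le]
    rintro y ⟨n, hn, rfl⟩
    obtain ⟨g, hg⟩ := E.fused_conj hf n
    set y := n * x0 * n⁻¹
    have hy : y ∈ X := (Subgroup.mem_normalizer_iff.mp hn x0).mp hx0
    have hm : h * (C.t * C.e y) * h⁻¹ ∈ tSup C X :=
      (Subgroup.mem_normalizer_iff.mp hh _).mp ⟨y, hy, Or.inr rfl⟩
    obtain ⟨a, ha, ha' | ha'⟩ := hm
    · refine absurd ?_ (E.not_conj a (h * g))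
      rw [← ha', ← hg]; group
    · refine ⟨c * a, X.mul_mem hc ha, ?_⟩
      show C.e (c * a) = h * C.e y * h⁻¹
      calc C.e (c * a) = C.e c * C.e a := map_mul _ _ _
        _ = (C.t * C.e c * C.t) * C.e a := by rw [e_mul_t]
        _ = (C.t * C.e c) * (C.t * C.e a) := by group
        _ = h * C.t * h⁻¹ * (h * (C.t * C.e y) * h⁻¹) := by rw [hct, ha']
        _ = h * (C.t * C.t) * C.e y * h⁻¹ := by group
        _ = h * C.e y * h⁻¹ := by rw [C.t_sq, mul_one]
  obtain ⟨y, hy, he⟩ := hle hx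
  exact ⟨y, hy, he.symm⟩

variable {X : Subgroup M} (hX : Cfsg.IsElementaryAbelian 2 X) {g : G} (hg : g * C.t * g⁻¹ ∈ tSup C X)
include hX hg

theorem pull_cases {y : G} (hy : y ∈ tSup C X) :
    ∃ m ∈ pull C X g, g⁻¹ * y * g = C.e m ∨ g⁻¹ * y * g = C.t * C.e m := by
  have hc : g⁻¹ * y * g * C.t = C.t * (g⁻¹ * y * g) := by
    calc g⁻¹ * y * g * C.t = g⁻¹ * (y * (g * C.t * g⁻¹)) * g := by group
      _ = g⁻¹ * ((g * C.t * g⁻¹) * y) * g := by rw [tSup_comm hX hy hg]
      _ = _ := by group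
  have hsq : g⁻¹ * y * g * (g⁻¹ * y * g) = 1 := by
    calc g⁻¹ * y * g * (g⁻¹ * y * g) = g⁻¹ * (y * y) * g := by group
      _ = 1 := by rw [sq_tSup hX hy]; group
  obtain ⟨m, -, hm | hm⟩ := E.invol_cases hc hsq
  · refine ⟨m, ?_, Or.inl hm⟩
    rw [mem_pull, ← hm]
    convert hy using 1; group
  · refine ⟨m, ?_, Or.inr hm⟩
    rw [mem_pull]
    have h1 : g * C.e m * g⁻¹ = (g * C.t * g⁻¹) * y := by
      have h2 : C.e m = C.t * (g⁻¹ * y * g) := by rw [hm, C.tt]
      rw [h2]; group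
    rw [h1]
    exact (tSup C X).mul_mem hg hy

theorem pull_elem : Cfsg.IsElementaryAbelian 2 (pull C X g) := by
  refine ⟨⟨⟨fun a b => Subtype.ext (C.inj ?_)⟩⟩, fun a ha => C.inj ?_⟩
  · have := tSup_comm hX (mem_pull.mp a.2) (mem_pull.mp b.2)
    rw [Subgroup.coe_mul, Subgroup.coe_mul, map_mul, map_mul]
    calc C.e a * C.e b = g⁻¹ * ((g * C.e a * g⁻¹) * (g * C.e b * g⁻¹)) * g := by group
      _ = g⁻¹ * ((g * C.e b * g⁻¹) * (g * C.e a * g⁻¹)) * g := by rw [this]
      _ = _ := by group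
  · have := sq_tSup hX (mem_pull.mp ha)
    rw [pow_two, map_mul, map_one]
    calc C.e a * C.e a = g⁻¹ * ((g * C.e a * g⁻¹) * (g * C.e a * g⁻¹)) * g := by group
      _ = 1 := by rw [this]; group

theorem pull_card : Nat.card (pull C X g) = Nat.card X := by
  classical
  have h1 : Nat.card (Bool × pull C X g) = Nat.card (tSup C X) := by
    refine Nat.card_congr (Equiv.ofBijective (fun p => (⟨g * ((if p.1 then C.t else 1) * C.e p.2) * g⁻¹, ?_⟩ :
      tSup C X)) ⟨?_, ?_⟩)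
    · rcases p with ⟨_ | _, m⟩
      · simpa using mem_pull.mp m.2
      · have h := (tSup C X).mul_mem hg (mem_pull.mp m.2)
        simp only [↓reduceIte]
        convert h using 1; group
    · rintro ⟨i, m⟩ ⟨j, k⟩ h
      have h2 : (if i then C.t else 1) * C.e m = (if j then C.t else 1) * C.e k :=
        mul_left_cancel (mul_right_cancel (congrArg Subtype.val h))
      rcases i with _ | _ <;> rcases j with _ | _ <;> simp only [Bool.false_eq_true, ↓reduceIte, one_mul] at h2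
      · exact Prod.ext rfl (Subtype.ext (C.inj h2))
      · exfalso
        apply C.t_not ((m : M) * (k : M)⁻¹)
        rw [map_mul, map_inv, h2, mul_inv_cancel_right]
      · exfalso
        apply C.t_not ((k : M) * (m : M)⁻¹)
        rw [map_mul, map_inv, ← h2, mul_inv_cancel_right]
      · exact Prod.ext rfl (Subtype.ext (C.inj (mul_left_cancel h2)))
    · rintro ⟨y, hy⟩
      obtain ⟨m, hm, hc | hc⟩ := E.pull_cases hX hg hy
      · exact ⟨(false, ⟨m, hm⟩), Subtype.ext (by simp [← hc]; group)⟩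
      · exact ⟨(true, ⟨m, hm⟩), Subtype.ext (by simp [← hc]; group)⟩
  have h2 : Nat.card (Bool × X) = Nat.card (tSup C X) := by
    refine Nat.card_congr (Equiv.ofBijective (fun p => (⟨(if p.1 then C.t else 1) * C.e p.2, ?_⟩ : tSup C X))
      ⟨?_, ?_⟩)
    · rcases p with ⟨_ | _, m⟩
      · exact ⟨m, m.2, Or.inl (by simp)⟩
      · exact ⟨m, m.2, Or.inr (by simp)⟩
    · rintro ⟨i, m⟩ ⟨j, k⟩ h
      have h2 : (if i then C.t else 1) * C.e m = (if j then C.t else 1) * C.e k := congrArg Subtype.val h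
      rcases i with _ | _ <;> rcases j with _ | _ <;> simp only [Bool.false_eq_true, ↓reduceIte, one_mul] at h2
      · exact Prod.ext rfl (Subtype.ext (C.inj h2))
      · exfalso
        apply C.t_not ((m : M) * (k : M)⁻¹)
        rw [map_mul, map_inv, h2, mul_inv_cancel_right]
      · exfalso
        apply C.t_not ((k : M) * (m : M)⁻¹)
        rw [map_mul, map_inv, ← h2, mul_inv_cancel_right]
      · exact Prod.ext rfl (Subtype.ext (C.inj (mul_left_cancel h2)))
    · rintro ⟨y, x, hx, rfl | rfl⟩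
      · exact ⟨(false, ⟨x, hx⟩), Subtype.ext (by simp)⟩
      · exact ⟨(true, ⟨x, hx⟩), Subtype.ext (by simp)⟩
  rw [Nat.card_prod] at h1 h2
  exact mul_left_cancel₀ (Nat.card_pos (α := Bool)).ne' (h1.trans h2.symm)

theorem mem_pull_alpha {α : M} (hα : g⁻¹ * C.t * g = C.t * C.e α) : α ∈ pull C X g := by
  rw [mem_pull]
  have h2 : C.e α = C.t * (g⁻¹ * C.t * g) := by rw [hα, C.tt]
  have h3 : g * C.e α * g⁻¹ = g * C.t * g⁻¹ * C.t := by rw [h2]; group
  rw [h3]
  exact (tSup C X).mul_mem hg (t_mem_tSup C X)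

end Exact

/-! ### Projection of conjugated centralisers into `M` -/

open Classical in
/-- The `M`-component of an element of `C(t)`. -/
noncomputable def mPart (C : Cfg G M) (g : G) : M :=
  if h : ∃ m, ∃ d ∈ C.D, g = C.e m * d ∨ g = C.e m * C.t * d then h.choose else 1

namespace Exact

variable {C : Cfg G M} [Finite G] (E : Exact C)
include E

theorem mPart_spec {g : G} (hg : g * C.t = C.t * g) :
    ∀ x, (C.e (mPart C g))⁻¹ * g * C.e x = C.e x * ((C.e (mPart C g))⁻¹ * g) := by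
  intro x
  have h := E.cent_t g hg
  rw [mPart, dif_pos h]
  obtain ⟨d, hd, hc | hc⟩ := h.choose_spec
  · generalize h.choose = m at hc ⊢
    rw [hc, inv_mul_cancel_left, C.D_comm d hd]
  · generalize h.choose = m at hc ⊢
    rw [hc, mul_assoc (C.e m), inv_mul_cancel_left, mul_assoc, C.D_comm d hd, ← mul_assoc, C.t_comm, mul_assoc]

theorem mPart_unique {g : G} (hg : g * C.t = C.t * g) {m : M}
    (hm : ∀ x, (C.e m)⁻¹ * g * C.e x = C.e x * ((C.e m)⁻¹ * g)) : mPart C g = m := by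
  have h1 := E.mPart_spec hg
  set k := mPart C g
  have : m⁻¹ * k ∈ Subgroup.center M := by
    refine Subgroup.mem_center_iff.mpr fun x => C.inj ?_
    have h2 : ((C.e m)⁻¹ * g) * ((C.e k)⁻¹ * g)⁻¹ = C.e (m⁻¹ * k) := by
      rw [map_mul, map_inv]; group
    rw [map_mul C.e x, map_mul C.e (m⁻¹ * k) x, ← h2]
    have h3 : ((C.e k)⁻¹ * g)⁻¹ * C.e x = C.e x * ((C.e k)⁻¹ * g)⁻¹ :=
      (Commute.inv_left (show Commute ((C.e k)⁻¹ * g) (C.e x) from h1 x)).eq
    rw [← mul_assoc (C.e x) ((C.e m)⁻¹ * g), ← hm x, mul_assoc ((C.e m)⁻¹ * g) (C.e x), ← h3, ← mul_assoc]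
  rw [E.center, Subgroup.mem_bot, inv_mul_eq_one] at this
  exact this.symm

theorem mPart_mul {g k : G} (hg : g * C.t = C.t * g) (hk : k * C.t = C.t * k) :
    mPart C (g * k) = mPart C g * mPart C k := by
  refine E.mPart_unique (by rw [mul_assoc, hk, ← mul_assoc, hg, mul_assoc]) fun x => ?_
  have h1 := E.mPart_spec hg
  have h2 := E.mPart_spec hk
  set a := (C.e (mPart C g))⁻¹ * g with ha
  set b := (C.e (mPart C k))⁻¹ * k with hb
  generalize hmg : mPart C g = mg at ha h1 ⊢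
  generalize hmk : mPart C k = mk at hb h2 ⊢
  have hga : g = C.e mg * a := by rw [ha, mul_inv_cancel_left]
  have hkb : k = C.e mk * b := by rw [hb, mul_inv_cancel_left]
  have he : (C.e (mg * mk))⁻¹ * (g * k) = a * b := by
    rw [map_mul, hga, hkb]
    calc (C.e mg * C.e mk)⁻¹ * (C.e mg * a * (C.e mk * b))
        = (C.e mk)⁻¹ * (a * C.e mk) * b := by group
      _ = _ := by rw [h1]; group
  rw [he, mul_assoc, h2, ← mul_assoc, h1, mul_assoc]

theorem conj_e {g : G} (hg : g * C.t = C.t * g) (x : M) :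
    g * C.e x * g⁻¹ = C.e (mPart C g * x * (mPart C g)⁻¹) := by
  have h1 := E.mPart_spec hg x
  set a := (C.e (mPart C g))⁻¹ * g with ha
  have hga : g = C.e (mPart C g) * a := by rw [ha, mul_inv_cancel_left]
  conv_lhs => rw [hga]
  calc C.e (mPart C g) * a * C.e x * (C.e (mPart C g) * a)⁻¹
      = C.e (mPart C g) * (a * C.e x * a⁻¹) * (C.e (mPart C g))⁻¹ := by group
    _ = _ := by rw [h1, mul_inv_cancel_right, C.e_conj]

theorem mPart_e (x : M) : mPart C (C.e x) = x :=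
  E.mPart_unique (C.t_comm x).symm fun y => by rw [inv_mul_cancel, one_mul, mul_one]

/-- A 2-element of `C(t)` with trivial `M`-part is `1` or `t`. -/
theorem eq_of_mPart_one {g : G} (hg : g * C.t = C.t * g) (h1 : mPart C g = 1) {k : ℕ} (hk : g ^ 2 ^ k = 1) :
    g = 1 ∨ g = C.t := by
  obtain ⟨m, d, hd, hc⟩ := E.cent_t g hg
  have hm : m = 1 := by
    rw [← h1]
    symm
    refine E.mPart_unique hg fun x => ?_
    rcases hc with hc | hc
    · rw [hc, inv_mul_cancel_left, C.D_comm d hd]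
    · rw [hc, mul_assoc (C.e m), inv_mul_cancel_left, mul_assoc, C.D_comm d hd, ← mul_assoc, C.t_comm, mul_assoc]
  subst hm
  simp only [map_one, one_mul] at hc
  have hd1 : d = 1 := by
    refine C.D_eq_one hd (k := k + 1) ?_
    have h2 : g ^ 2 ^ (k + 1) = 1 := by rw [pow_succ, pow_mul, hk, one_pow]
    rcases hc with hc | hc
    · rwa [← hc]
    · rw [hc, (show Commute C.t d from (C.D_t d hd).symm).mul_pow, pow_succ', pow_mul C.t, pow_two, C.t_sq,
        one_pow, one_mul, ← pow_succ'] at h2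
      exact h2
  rcases hc with hc | hc
  · left; rw [hc, hd1]
  · right; rw [hc, hd1, mul_one]

end Exact

end Cfsg.Lib.StdWreath
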