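import Cfsg.Agent.StdWreath.First

/-!
The two doubled modules, over `V` and over `U`, with one section on `U ⊓ V`.
-/

set_option autoImplicit false
set_option linter.unusedSectionVars false

namespace Cfsg.Lib.StdWreath

universe u v

variable {G : Type u} {M : Type v} [Group G] [Group M] [Finite G] [Finite M] {C : Cfg G M} {V U S : Subgroup M}
  {z b : M}

/-- The centraliser of `t` is `M × <t> × D` on the elements normalising `V` or `U`. -/
structure LocExact (C : Cfg G M) (V U : Subgroup M) : Prop where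
  cent_t : ∀ g, g * C.t = C.t * g →
    (∀ x ∈ V, ∃ y ∈ V, g * C.e x * g⁻¹ = C.e y) ∨ (∀ x ∈ U, ∃ y ∈ U, g * C.e x * g⁻¹ = C.e y) →
    ∃ m, ∃ d ∈ C.D, g = C.e m * d ∨ g = C.e m * C.t * d

/-- An exact configuration is exact locally. -/
theorem Exact.loc (E : Exact C) : LocExact C V U := ⟨fun g hg _ => E.cent_t g hg⟩

/-- An element of `M × <t> × D` centralising a self-centralising subgroup. -/
theorem cent_of_form {X : Subgroup M} (hX : Subgroup.centralizer (X : Set M) = X) {c : G} {m : M} {d : G}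
    (hd : d ∈ C.D) (hm : c = C.e m * d ∨ c = C.e m * C.t * d) (hcX : ∀ x ∈ X, c * C.e x = C.e x * c) :
    ∃ x ∈ X, ∃ d ∈ C.D, c = C.e x * d ∨ c = C.e x * C.t * d := by
  refine ⟨m, ?_, d, hd, hm⟩
  rw [← hX, Subgroup.mem_centralizer_iff]
  intro x hx
  have h1 := hcX x hx
  refine C.inj ?_
  rw [map_mul, map_mul]
  rcases hm with hm | hm <;> rw [hm] at h1
  · rw [mul_assoc, C.D_comm d hd, ← mul_assoc, ← mul_assoc] at h1
    exact (mul_right_cancel h1).symm
  · rw [mul_assoc, C.D_comm d hd, ← mul_assoc, mul_assoc (C.e m), C.t_comm, ← mul_assoc, ← mul_assoc,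
      ← mul_assoc] at h1
    exact (mul_right_cancel (mul_right_cancel h1)).symm

/-- An element centralising `t` and a self-centralising subgroup. -/
theorem Exact.cent_of_self {X : Subgroup M} (E : Exact C) (hX : Subgroup.centralizer (X : Set M) = X) {c : G}
    (hc : c * C.t = C.t * c) (hcX : ∀ x ∈ X, c * C.e x = C.e x * c) :
    ∃ x ∈ X, ∃ d ∈ C.D, c = C.e x * d ∨ c = C.e x * C.t * d := by
  obtain ⟨m, d, hd, hm⟩ := E.cent_t c hc
  exact cent_of_form hX hd hm hcX

theorem LocExact.cent_of_V (E : LocExact C V U) (hX : Subgroup.centralizer (V : Set M) = V) {c : G}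
    (hc : c * C.t = C.t * c) (hcX : ∀ x ∈ V, c * C.e x = C.e x * c) :
    ∃ x ∈ V, ∃ d ∈ C.D, c = C.e x * d ∨ c = C.e x * C.t * d := by
  obtain ⟨m, d, hd, hm⟩ := E.cent_t c hc (Or.inl fun x hx => ⟨x, hx, by rw [hcX x hx, mul_inv_cancel_right]⟩)
  exact cent_of_form hX hd hm hcX

theorem LocExact.cent_of_U (E : LocExact C V U) (hX : Subgroup.centralizer (U : Set M) = U) {c : G}
    (hc : c * C.t = C.t * c) (hcX : ∀ x ∈ U, c * C.e x = C.e x * c) :
    ∃ x ∈ U, ∃ d ∈ C.D, c = C.e x * d ∨ c = C.e x * C.t * d := by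
  obtain ⟨m, d, hd, hm⟩ := E.cent_t c hc (Or.inr fun x hx => ⟨x, hx, by rw [hcX x hx, mul_inv_cancel_right]⟩)
  exact cent_of_form hX hd hm hcX

section Twenty4

variable (E : Exact C) (F : Facts24 V U S z b)
include E F

theorem ctx_V (hfus : ∃ m, m ≠ 1 ∧ Fused C m) : TCtx C V where
  elem := F.elemV
  card := by rw [F.cardV]; omega
  span := fun x hx hx1 y hy => by
    by_cases hy1 : y = 1
    · rw [hy1]; exact Subgroup.one_mem _
    obtain ⟨n, hn, hny⟩ := F.V_trans y hy hy1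
    obtain ⟨k, hk, hkx⟩ := F.V_trans x hx hx1
    refine Subgroup.subset_closure ⟨n * k⁻¹, Subgroup.mul_mem _ hn (Subgroup.inv_mem _ hk), ?_⟩
    rw [← hny, ← hkx]; group
  cobDual := F.cobDual_V
  cobEnd := F.cobEnd_V
  wedge := F.wedge_V
  endS := F.end_V
  quad := F.quad_V
  cent := fun _ hc hcV => E.cent_of_self F.centralizer_V hc hcV
  trans := exists_transV E F hfus

end Twenty4

variable (E : LocExact C V U) (F : Frame V U S z)
include E F

theorem exists_dblV (hV : TCtx C V) : ∃ _B : Dbl C V, True := by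
  obtain ⟨W, hW⟩ := exists_hull C V hV
  obtain ⟨B, -⟩ := hW.exists_dbl hV (hW.elementary_of_noLift hV F.noLift_V)
  exact ⟨B, trivial⟩

omit E in
theorem U_le_NV : U ≤ Subgroup.normalizer (V : Set M) := F.U_le.trans F.S_le_NV

omit E in
theorem V_le_NU : V ≤ Subgroup.normalizer (U : Set M) := F.V_le.trans F.S_le_NU

omit E in
theorem U_conj {u x : M} (hu : u ∈ U) (hx : x ∈ U) : u * x * u⁻¹ = x := by
  rw [elem_comm F.elemU hu hx, mul_inv_cancel_right]

omit E in
theorem V_conj {u x : M} (hu : u ∈ V) (hx : x ∈ V) : u * x * u⁻¹ = x := by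
  rw [elem_comm F.elemV hu hx, mul_inv_cancel_right]

omit E in
theorem dblV_comm_U (B : Dbl C V) {l u : M} (hl : l ∈ U ⊓ V) (hu : u ∈ U) : B.s l * C.e u = C.e u * B.s l := by
  have h := B.equiv u (U_le_NV F hu) l hl.2
  rw [U_conj F hu hl.1] at h
  exact (eq_mul_inv_iff_mul_eq.mp h.symm)

theorem ctx_U (hV : TCtx C V) : TCtx C U where
  elem := F.elemU
  card := by rw [← F.cardL]; exact Subgroup.card_le_of_le inf_le_left
  span := F.U_span
  cobDual := F.cobDual_U
  cobEnd := F.cobEnd_U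
  wedge := F.wedge_U
  endS := F.end_U
  quad := F.quad_U
  cent := fun _ hc hcU => E.cent_of_U F.centralizer_U hc hcU
  trans := by
    obtain ⟨B, -⟩ := exists_dblV E F hV
    have hg0 : B.s z ∈ transSet C U :=
      ⟨fun u hu => dblV_comm_U F B F.z_mem hu, z, F.z_mem.1, B.tau z F.z_mem.2⟩
    let K : Subgroup M :=
      { carrier := {y | ∃ g ∈ transSet C U, tau C U g = y}
        one_mem' := ⟨1, (transSet C U).one_mem, tau_one C U⟩
        mul_mem' := by
          rintro a c ⟨g, hg, rfl⟩ ⟨g', hg', rfl⟩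
          exact ⟨g * g', (transSet C U).mul_mem hg hg', tau_mul C U hg hg'⟩
        inv_mem' := by
          rintro a ⟨g, hg, rfl⟩
          exact ⟨g⁻¹, (transSet C U).inv_mem hg, tau_inv C U hg⟩ }
    have hle : U ≤ K := (F.U_span z F.z_mem.1 F.z_ne_one).trans <| by
      rw [Subgroup.closure_le]
      rintro _ ⟨n, hn, rfl⟩
      exact ⟨_, (conj_mem_transSet C U hn hg0).1,
        by rw [(conj_mem_transSet C U hn hg0).2, tau_eq C U hg0 (B.tau z F.z_mem.2)]⟩
    intro x hx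
    obtain ⟨g, hg, rfl⟩ := hle hx
    exact ⟨g, hg.1, tau_spec C U hg⟩

/-- Sections over `V` and `U` which agree on `U ⊓ V`. -/
theorem exists_linked (hV : TCtx C V) :
    ∃ (BV : Dbl C V) (BU : Dbl C U), ∀ l ∈ U ⊓ V, BU.s l = BV.s l := by
  classical
  obtain ⟨BV, -⟩ := exists_dblV E F hV
  have hU := ctx_U E F hV
  obtain ⟨W, hW⟩ := exists_hull C U hU
  have hsD : ∀ l ∈ U ⊓ V, BV.s l ∈ transD C U ∧ tau C U (BV.s l) = l := by
    intro l hl
    have hs : BV.s l ∈ transSet C U := ⟨fun u hu => dblV_comm_U F BV hl hu, l, hl.1, BV.tau l hl.2⟩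
    exact ⟨⟨hs, Subgroup.mem_centralizer_iff.mpr fun d hd => BV.D_comm l hl.2 d hd⟩, tau_eq C U hs (BV.tau l hl.2)⟩
  have hcases : ∀ l ∈ U ⊓ V, BV.s l ∈ W ∨ BV.s l * C.t ∈ W := by
    intro l hl
    obtain ⟨hd, ht⟩ := hsD l hl
    obtain ⟨w, hw, hwt⟩ := hW.onto l hl.1
    have hw2 : w⁻¹ * BV.s l ∈ transTwo C U hU :=
      (transTwo C U hU).mul_mem ((transTwo C U hU).inv_mem ⟨hW.le_trans hw, hW.sq w hw⟩)
        ⟨hd, 1, U.one_mem, by rw [BV.sq l hl.2, map_one]⟩
    obtain ⟨x, hx, hc | hc⟩ := two_kernel C U hU hw2 (by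
      rw [tau_mul C U ((transSet C U).inv_mem (hW.mem_trans hw)) hd.1, tau_inv C U (hW.mem_trans hw), hwt, ht,
        inv_mul_cancel])
    · exact Or.inl (by rw [← mul_inv_cancel_left w (BV.s l), hc]; exact W.mul_mem hw (hW.e_mem x hx))
    · refine Or.inr ?_
      rw [← mul_inv_cancel_left w (BV.s l), hc, mul_assoc w, mul_assoc (C.e x), C.t_sq, mul_one]
      exact W.mul_mem hw (hW.e_mem x hx)
  -- membership is constant on the non-trivial elements
  have hconst : BV.s z ∈ W → ∀ l ∈ U ⊓ V, l ≠ 1 → BV.s l ∈ W := by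
    intro hz l hl hl1
    obtain ⟨n, hn, hnl⟩ := F.L_trans l hl hl1
    rw [← hnl, ← BV.equiv n hn.2 z F.z_mem.2]
    exact hW.conj n hn.1 _ hz
  have hz : BV.s z ∈ W := by
    by_contra hz
    have hno : ∀ l ∈ U ⊓ V, l ≠ 1 → BV.s l ∉ W := by
      intro l hl hl1 hlW
      obtain ⟨n, hn, hnl⟩ := F.L_trans l hl hl1
      refine hz ?_
      have h := hW.conj n⁻¹ (Subgroup.inv_mem _ hn.1) _ hlW
      rw [BV.equiv n⁻¹ (Subgroup.inv_mem _ hn.2) l hl.2, ← hnl] at h
      convert h using 2; group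
    obtain ⟨l, hl, hl1, hlz⟩ : ∃ l ∈ U ⊓ V, l ≠ 1 ∧ l ≠ z := by
      by_contra hcon
      push Not at hcon
      have h4 := F.cardL
      have : Function.Injective fun l : (U ⊓ V : Subgroup M) => decide ((l : M) = 1) := by
        intro a c hac
        simp only [decide_eq_decide] at hac
        by_cases ha : (a : M) = 1
        · exact Subtype.ext (by rw [ha, hac.mp ha])
        · exact Subtype.ext (by rw [hcon a a.2 ha, hcon c c.2 (fun h => ha (hac.mpr h))])
      have := Nat.card_le_card_of_injective _ this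
      rw [Nat.card_eq_fintype_card (α := Bool), Fintype.card_bool] at this
      omega
    have hlz1 : l * z ≠ 1 := fun h => hlz (by
      rw [mul_eq_one_iff_eq_inv, hU.inv_eq F.z_mem.1] at h; exact h)
    have h1 := (hcases l hl).resolve_left (hno l hl hl1)
    have h2 := (hcases z F.z_mem).resolve_left hz
    refine hno (l * z) ((U ⊓ V).mul_mem hl F.z_mem) hlz1 ?_
    have h3 := W.mul_mem (W.mul_mem h1 h2) (hW.e_mem z F.z_mem.1)
    have h4 : BV.s l * C.t * (BV.s z * C.t) * C.e z = BV.s l * BV.s z := by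
      calc BV.s l * C.t * (BV.s z * C.t) * C.e z = BV.s l * (C.t * BV.s z * C.t) * C.e z := by group
        _ = BV.s l * BV.s z * (C.e z * C.e z) := by rw [BV.flip F.z_mem.2]; group
        _ = _ := by rw [Dbl.sq_e F.elemV F.z_mem.2, mul_one]
    rwa [h4, ← BV.add l hl.2 z F.z_mem.2] at h3
  have hin : ∀ l ∈ U ⊓ V, BV.s l ∈ W := fun l hl => by
    by_cases hl1 : l = 1
    · rw [hl1, BV.s_one]; exact W.one_mem
    · exact hconst hz l hl hl1
  obtain ⟨B, hB⟩ := hW.exists_dbl hU (hW.elementary_of_mem hU hz (BV.sq z F.z_mem.2)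
    (by rw [(hsD z F.z_mem).2]; exact F.z_ne_one))
  -- the difference of the two sections
  have hdiff : ∀ l ∈ U ⊓ V, ∃ m ∈ U ⊓ V, B.s l = BV.s l * C.e m := by
    intro l hl
    obtain ⟨m, hm, he⟩ := hW.ker ((BV.s l)⁻¹ * B.s l) (W.mul_mem (W.inv_mem (hin l hl)) (hB l hl.1)) (by
      rw [tau_mul C U ((transSet C U).inv_mem (hsD l hl).1.1) (hW.mem_trans (hB l hl.1)),
        tau_inv C U (hsD l hl).1.1, (hsD l hl).2, tau_eq C U (hW.mem_trans (hB l hl.1)) (B.tau l hl.1),
        inv_mul_cancel])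
    have hmB : B.s l = BV.s l * C.e m := by rw [← he, mul_inv_cancel_left]
    refine ⟨m, ⟨hm, ?_⟩, hmB⟩
    rw [← F.centralizer_V]
    refine Subgroup.mem_centralizer_iff.mpr fun x hx => C.inj ?_
    have h1 : B.s l * C.e x = C.e x * B.s l := by
      have h := B.equiv x (V_le_NU F hx) l hl.1
      rw [V_conj F hx hl.2] at h
      exact eq_mul_inv_iff_mul_eq.mp h.symm
    rw [hmB, mul_assoc, ← mul_assoc (C.e x), ← BV.X_comm l hl.2 x hx, mul_assoc] at h1
    rw [map_mul, map_mul]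
    exact (mul_left_cancel h1).symm
  choose! f hfL hf using hdiff
  rcases F.L_end f hfL (fun a ha c hc => C.inj (mul_left_cancel (a := BV.s (a * c)) (by
      rw [← hf (a * c) ((U ⊓ V).mul_mem ha hc), map_mul, BV.add a ha.2 c hc.2, B.add a ha.1 c hc.1, hf a ha, hf c hc]
      calc BV.s a * C.e (f a) * (BV.s c * C.e (f c)) = BV.s a * (C.e (f a) * BV.s c) * C.e (f c) := by group
        _ = _ := by rw [← BV.X_comm c hc.2 _ (hfL a ha).2]; group)))
    (fun g hg x hx => C.inj (mul_left_cancel (a := BV.s (g * x * g⁻¹)) (by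
      have hgx : g * x * g⁻¹ ∈ U ⊓ V :=
        ⟨(Subgroup.mem_normalizer_iff.mp hg.1 x).mp hx.1, (Subgroup.mem_normalizer_iff.mp hg.2 x).mp hx.2⟩
      rw [← hf _ hgx, ← B.equiv g hg.1 x hx.1, ← C.e_conj, hf x hx, ← BV.equiv g hg.2 x hx.2]
      group))) with h0 | hid
  · exact ⟨BV, B, fun l hl => by rw [hf l hl, h0 l hl, map_one, mul_one]⟩
  · refine ⟨BV, B.swap F.elemU, fun l hl => ?_⟩
    rw [Dbl.swap_s, hf l hl, hid l hl, mul_assoc, Dbl.sq_e F.elemV hl.2, mul_one]

end Cfsg.Lib.StdWreath
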