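import Cfsg.Agent.StdWreath.Double

/-!
The translation group is elementary or a lift of the action to exponent four, and in the first case it splits.
-/

set_option autoImplicit false
set_option linter.unusedSectionVars false

namespace Cfsg.Lib.StdWreath

universe u v

variable {G : Type u} {M : Type v} [Group G] [Group M] [Finite G] {C : Cfg G M} {X : Subgroup M} {W : Subgroup G}

/-- A copy of `Fin N` carrying no arithmetic. -/
def Code (N : ℕ) : Type := Fin N

instance (N : ℕ) : Finite (Code N) := inferInstanceAs (Finite (Fin N))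

namespace Hull

theorem mem_trans (H : Hull C X W) {w : G} (hw : w ∈ W) : w ∈ transSet C X := (H.le_trans hw).1

theorem X_comm (H : Hull C X W) {w : G} (hw : w ∈ W) {x : M} (hx : x ∈ X) : w * C.e x = C.e x * w :=
  (H.mem_trans hw).1 x hx

/-- Either the group is elementary, or every square recovers the translation vector. -/
theorem dichotomy (H : Hull C X W) (h : TCtx C X) :
    (∀ w ∈ W, w * w = 1) ∨ ∀ w ∈ W, w * w = C.e (tau C X w) := by
  classical
  let K : M → G := fun x => if hx : x ∈ X then (H.onto x hx).choose else 1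
  have hK : ∀ x ∈ X, K x ∈ W ∧ tau C X (K x) = x := fun x hx => by
    simp only [K, dif_pos hx]; exact (H.onto x hx).choose_spec
  let f : M → M := fun x => if hc : ∃ m ∈ X, K x * K x = C.e m then hc.choose else 1
  have hf : ∀ x ∈ X, ∀ w ∈ W, tau C X w = x → f x ∈ X ∧ w * w = C.e (f x) := by
    intro x hx w hw hwt
    obtain ⟨hKx, hKxt⟩ := hK x hx
    have hc := H.sq _ hKx
    simp only [f, dif_pos hc]
    refine ⟨hc.choose_spec.1, ?_⟩
    rw [← hc.choose_spec.2]
    obtain ⟨p, hp, he⟩ := H.ker ((K x)⁻¹ * w) (W.mul_mem (W.inv_mem hKx) hw) (by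
      rw [tau_mul C X ((transSet C X).inv_mem (H.mem_trans hKx)) (H.mem_trans hw), tau_inv C X (H.mem_trans hKx),
        hKxt, hwt, inv_mul_cancel])
    have hw' : w = K x * C.e p := by rw [← he, mul_inv_cancel_left]
    calc w * w = K x * (C.e p * K x) * C.e p := by rw [hw']; group
      _ = K x * K x * (C.e p * C.e p) := by rw [← H.X_comm hKx hp]; group
      _ = K x * K x := by rw [← map_mul, h.mul_self hp, map_one, mul_one]
  have key : ∀ w ∈ W, w * w = C.e (f (tau C X w)) := fun w hw => (hf _ (tau_mem C X w) w hw rfl).2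
  rcases h.endS f (fun x hx => (hf x hx _ (hK x hx).1 (hK x hx).2).1) (fun x hx y hy => C.inj (by
      obtain ⟨hKx, hKxt⟩ := hK x hx
      obtain ⟨hKy, hKyt⟩ := hK y hy
      rw [map_mul, ← (hf x hx _ hKx hKxt).2, ← (hf y hy _ hKy hKyt).2,
        ← (hf (x * y) (X.mul_mem hx hy) _ (W.mul_mem hKx hKy)
          (by rw [tau_mul C X (H.mem_trans hKx) (H.mem_trans hKy), hKxt, hKyt])).2]
      calc K x * K y * (K x * K y) = K x * (K y * K x) * K y := by group
        _ = _ := by rw [H.comm _ hKy _ hKx]; group))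
    (fun n hn x hx => C.inj (by
      obtain ⟨hKx, hKxt⟩ := hK x hx
      rw [← C.e_conj, ← (hf x hx _ hKx hKxt).2,
        ← (hf _ ((Subgroup.mem_normalizer_iff.mp hn x).mp hx) _ (H.conj n hn _ hKx)
          (by rw [(conj_mem_transSet C X hn (H.mem_trans hKx)).2, hKxt])).2]
      group)) with h0 | h1
  · left
    intro w hw
    rw [key w hw, h0 _ (tau_mem C X w), map_one]
  · right
    intro w hw
    rw [key w hw, h1 _ (tau_mem C X w)]

theorem elementary_of_mem (H : Hull C X W) (h : TCtx C X) {w : G} (hw : w ∈ W) (hsq : w * w = 1)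
    (hne : tau C X w ≠ 1) : ∀ v ∈ W, v * v = 1 := by
  refine (H.dichotomy h).resolve_right fun h1 => hne (C.inj ?_)
  rw [map_one, ← h1 w hw, hsq]

theorem card_eq (H : Hull C X W) (h : TCtx C X) : Nat.card W = Nat.card X * Nat.card X := by
  let φ : W →* M :=
    { toFun := fun w => tau C X (w : G)
      map_one' := tau_one C X
      map_mul' := fun a b => tau_mul C X (H.mem_trans a.2) (H.mem_trans b.2) }
  have hr : φ.range = X := by
    ext x
    constructor
    · rintro ⟨w, rfl⟩; exact tau_mem C X _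
    · intro hx
      obtain ⟨w, hw, hwt⟩ := H.onto x hx
      exact ⟨⟨w, hw⟩, hwt⟩
  have hk : Nat.card φ.ker = Nat.card X := by
    refine (Nat.card_congr (Equiv.ofBijective
      (fun x : X => (⟨⟨C.e x, H.e_mem _ x.2⟩, ?_⟩ : φ.ker)) ⟨?_, ?_⟩)).symm
    · exact MonoidHom.mem_ker.mpr (tau_e C X h.elem x.2)
    · intro x y hxy
      exact Subtype.ext (C.inj (congrArg (fun z : φ.ker => ((z : W) : G)) hxy))
    · rintro ⟨⟨w, hw⟩, hk⟩
      obtain ⟨x, hx, he⟩ := H.ker w hw (MonoidHom.mem_ker.mp hk)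
      exact ⟨⟨x, hx⟩, Subtype.ext (Subtype.ext he.symm)⟩
  rw [Subgroup.card_eq_card_quotient_mul_card_subgroup φ.ker,
    Nat.card_congr (QuotientGroup.quotientKerEquivRange φ).toEquiv, hr, hk]

theorem elementary_of_noLift (H : Hull C X W) (h : TCtx C X) (hno : NoLift X) : ∀ v ∈ W, v * v = 1 := by
  classical
  refine (H.dichotomy h).resolve_right fun h1 => ?_
  letI : CommGroup W := { (inferInstance : Group W) with
    mul_comm := fun a b => Subtype.ext (H.comm _ a.2 _ b.2) }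
  obtain ⟨N, ⟨ε0⟩⟩ := Finite.exists_equiv_fin W
  let ε : W ≃ Code N := ε0
  letI : CommGroup (Code N) := Equiv.commGroup ε.symm
  let μ : Code N ≃* W := Equiv.mulEquiv ε.symm
  let π : Code N →* M :=
    { toFun := fun y => tau C X ((μ y : W) : G)
      map_one' := by rw [map_one, Subgroup.coe_one, tau_one]
      map_mul' := fun a b => by
        rw [map_mul, Subgroup.coe_mul, tau_mul C X (H.mem_trans (μ a).2) (H.mem_trans (μ b).2)] }
  let cj : (n : M) → n ∈ Subgroup.normalizer (X : Set M) → (W ≃* W) := fun n hn =>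
    { toFun := fun w => ⟨C.e n * w * (C.e n)⁻¹, H.conj n hn _ w.2⟩
      invFun := fun w => ⟨C.e n⁻¹ * w * (C.e n⁻¹)⁻¹, H.conj _ (Subgroup.inv_mem _ hn) _ w.2⟩
      left_inv := fun w => Subtype.ext (by simp only [map_inv]; group)
      right_inv := fun w => Subtype.ext (by simp only [map_inv]; group)
      map_mul' := fun a b => Subtype.ext (by simp only [Subgroup.coe_mul]; group) }
  let ρ : M → Code N ≃* Code N := fun n =>
    if hn : n ∈ Subgroup.normalizer (X : Set M) then (μ.trans (cj n hn)).trans μ.symm else MulEquiv.refl _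
  have hρ : ∀ n (hn : n ∈ Subgroup.normalizer (X : Set M)) (y : Code N),
      ((μ (ρ n y) : W) : G) = C.e n * (μ y : W) * (C.e n)⁻¹ := fun n hn y => by
    simp only [ρ, dif_pos hn, MulEquiv.trans_apply, MulEquiv.apply_symm_apply]
    rfl
  refine hno (Code N) π ρ ?_ ?_ ?_ ?_ ?_ ?_
  · ext x
    constructor
    · rintro ⟨y, rfl⟩; exact tau_mem C X _
    · intro hx
      obtain ⟨w, hw, hwt⟩ := H.onto x hx
      exact ⟨μ.symm ⟨w, hw⟩, by
        show tau C X ((μ (μ.symm ⟨w, hw⟩) : W) : G) = x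
        rw [MulEquiv.apply_symm_apply]; exact hwt⟩
  · rw [Nat.card_congr μ.toEquiv, H.card_eq h]
  · intro y
    constructor
    · intro hy
      obtain ⟨x, hx, he⟩ := H.ker _ (μ y).2 hy
      obtain ⟨w, hw, hwt⟩ := H.onto x hx
      refine ⟨μ.symm ⟨w, hw⟩, μ.injective (Subtype.ext ?_)⟩
      rw [map_pow, MulEquiv.apply_symm_apply, pow_two, Subgroup.coe_mul]
      rw [h1 w hw, hwt, he]
    · rintro ⟨x, rfl⟩
      rw [pow_two, map_mul]
      exact h.mul_self (tau_mem C X _)
  · intro y hy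
    show tau C X ((μ y : W) : G) = 1
    have h2 := congrArg (fun z => ((μ z : W) : G)) hy
    simp only [pow_two, map_mul, map_one, Subgroup.coe_mul, Subgroup.coe_one] at h2
    rw [h1 _ (μ y).2] at h2
    exact C.inj (by rw [h2, map_one])
  · intro g hg k hk y
    refine μ.injective (Subtype.ext ?_)
    rw [hρ _ (Subgroup.mul_mem _ hg hk), hρ g hg, hρ k hk, map_mul]
    group
  · intro g hg y
    show tau C X ((μ (ρ g y) : W) : G) = _
    rw [hρ g hg, (conj_mem_transSet C X hg (H.mem_trans (μ y).2)).2]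
    rfl

/-- An elementary translation group splits equivariantly. -/
theorem exists_dbl (H : Hull C X W) (h : TCtx C X) (hel : ∀ w ∈ W, w * w = 1) :
    ∃ B : Dbl C X, ∀ x ∈ X, B.s x ∈ W := by
  classical
  let Good : Subgroup G → Prop := fun P => P ≤ W ∧ ∀ x ∈ X, C.e x ∈ P → x = 1
  obtain ⟨P, -, hP⟩ := (Set.toFinite {P | Good P}).exists_le_maximal
    (show Good ⊥ from ⟨bot_le, fun x _ hx => C.inj (by rw [Subgroup.mem_bot.mp hx, map_one])⟩)
  obtain ⟨hPW, hPe⟩ := hP.1
  have hsur : ∀ x ∈ X, ∃ p ∈ P, tau C X p = x := by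
    intro x hx
    obtain ⟨w, hw, hwt⟩ := H.onto x hx
    by_cases hwP : ∃ y ∈ X, w * C.e y ∈ P
    · obtain ⟨y, hy, hp⟩ := hwP
      exact ⟨_, hp, by rw [tau_mul C X (H.mem_trans hw) (e_mem_transSet C X h.elem hy), hwt, tau_e C X h.elem hy,
        mul_one]⟩
    · exfalso
      let P' : Subgroup G :=
        { carrier := {g | g ∈ P ∨ (g ∈ W ∧ g * w ∈ P)}
          one_mem' := Or.inl P.one_mem
          mul_mem' := by
            rintro a b (ha | ⟨haW, ha⟩) (hb | ⟨hbW, hb⟩)
            · exact Or.inl (P.mul_mem ha hb)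
            · exact Or.inr ⟨W.mul_mem (hPW ha) hbW, by rw [mul_assoc]; exact P.mul_mem ha hb⟩
            · refine Or.inr ⟨W.mul_mem haW (hPW hb), ?_⟩
              rw [mul_assoc, H.comm b (hPW hb) w hw, ← mul_assoc]
              exact P.mul_mem ha hb
            · refine Or.inl ?_
              have := P.mul_mem ha hb
              rwa [mul_assoc, ← mul_assoc w, H.comm w hw b hbW, mul_assoc b, hel w hw, mul_one] at this
          inv_mem' := by
            rintro a (ha | ⟨haW, ha⟩)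
            · exact Or.inl (P.inv_mem ha)
            · refine Or.inr ⟨W.inv_mem haW, ?_⟩
              rw [inv_eq_of_mul_eq_one_right (hel a haW)]; exact ha }
      have hgood : Good P' := by
        refine ⟨fun g hg => hg.elim (fun hg => hPW hg) And.left, fun y hy hyP => hyP.elim (hPe y hy) ?_⟩
        rintro ⟨-, hyw⟩
        exact absurd ⟨y, hy, by rwa [H.X_comm hw hy]⟩ hwP
      exact hwP ⟨1, X.one_mem, by
        rw [map_one, mul_one]
        exact hP.2 hgood (fun g hg => Or.inl hg) (Or.inr ⟨hw, by rw [hel w hw]; exact P.one_mem⟩)⟩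
  let s0 : M → G := fun x => if hx : x ∈ X then (hsur x hx).choose else 1
  have hs0 : ∀ x ∈ X, s0 x ∈ P ∧ tau C X (s0 x) = x := fun x hx => by
    simp only [s0, dif_pos hx]; exact (hsur x hx).choose_spec
  have huniq : ∀ p ∈ P, p = s0 (tau C X p) := by
    intro p hp
    obtain ⟨hq, hqt⟩ := hs0 _ (tau_mem C X p)
    obtain ⟨y, hy, he⟩ := H.ker ((s0 (tau C X p))⁻¹ * p) (W.mul_mem (W.inv_mem (hPW hq)) (hPW hp)) (by
      rw [tau_mul C X ((transSet C X).inv_mem (H.mem_trans (hPW hq))) (H.mem_trans (hPW hp)),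
        tau_inv C X (H.mem_trans (hPW hq)), hqt, inv_mul_cancel])
    have hy1 : y = 1 := hPe y hy (by rw [← he]; exact P.mul_mem (P.inv_mem hq) hp)
    rw [hy1, map_one, inv_mul_eq_one] at he
    exact he.symm
  have hs0add : ∀ x ∈ X, ∀ y ∈ X, s0 (x * y) = s0 x * s0 y := fun x hx y hy => by
    have h1 := huniq _ (P.mul_mem (hs0 x hx).1 (hs0 y hy).1)
    rwa [tau_mul C X (H.mem_trans (hPW (hs0 x hx).1)) (H.mem_trans (hPW (hs0 y hy).1)), (hs0 x hx).2,
      (hs0 y hy).2, eq_comm] at h1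
  let D : M → M → M := fun n x =>
    if hc : ∃ m ∈ X, C.e n * s0 x * (C.e n)⁻¹ = s0 (n * x * n⁻¹) * C.e m then hc.choose else 1
  have hD : ∀ n ∈ Subgroup.normalizer (X : Set M), ∀ x ∈ X,
      D n x ∈ X ∧ C.e n * s0 x * (C.e n)⁻¹ = s0 (n * x * n⁻¹) * C.e (D n x) := by
    intro n hn x hx
    have hx' : n * x * n⁻¹ ∈ X := (Subgroup.mem_normalizer_iff.mp hn x).mp hx
    have hc : ∃ m ∈ X, C.e n * s0 x * (C.e n)⁻¹ = s0 (n * x * n⁻¹) * C.e m := by
      obtain ⟨hq, hqt⟩ := hs0 _ hx'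
      obtain ⟨hp, hpt⟩ := hs0 x hx
      obtain ⟨y, hy, he⟩ := H.ker ((s0 (n * x * n⁻¹))⁻¹ * (C.e n * s0 x * (C.e n)⁻¹))
        (W.mul_mem (W.inv_mem (hPW hq)) (H.conj n hn _ (hPW hp))) (by
        rw [tau_mul C X ((transSet C X).inv_mem (H.mem_trans (hPW hq))) (H.mem_trans (H.conj n hn _ (hPW hp))),
          tau_inv C X (H.mem_trans (hPW hq)), hqt, (conj_mem_transSet C X hn (H.mem_trans (hPW hp))).2, hpt,
          inv_mul_cancel])
      exact ⟨y, hy, by rw [← he, mul_inv_cancel_left]⟩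
    simp only [D, dif_pos hc]
    exact hc.choose_spec
  have hDadd : ∀ n ∈ Subgroup.normalizer (X : Set M), AddOn X (D n) := by
    intro n hn x hx y hy
    obtain ⟨hx1, ex⟩ := hD n hn x hx
    obtain ⟨hy1, ey⟩ := hD n hn y hy
    obtain ⟨hxy1, exy⟩ := hD n hn (x * y) (X.mul_mem hx hy)
    have hxn := (Subgroup.mem_normalizer_iff.mp hn x).mp hx
    have hyn := (Subgroup.mem_normalizer_iff.mp hn y).mp hy
    have hc : n * (x * y) * n⁻¹ = (n * x * n⁻¹) * (n * y * n⁻¹) := by group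
    refine C.inj ?_
    rw [hs0add x hx y hy, hc, hs0add _ hxn _ hyn] at exy
    have h2 : C.e n * (s0 x * s0 y) * (C.e n)⁻¹ = s0 (n * x * n⁻¹) * s0 (n * y * n⁻¹) * C.e (D n x * D n y) := by
      calc C.e n * (s0 x * s0 y) * (C.e n)⁻¹ = (C.e n * s0 x * (C.e n)⁻¹) * (C.e n * s0 y * (C.e n)⁻¹) := by group
        _ = s0 (n * x * n⁻¹) * (C.e (D n x) * s0 (n * y * n⁻¹)) * C.e (D n y) := by rw [ex, ey]; group
        _ = _ := by rw [← H.X_comm (hPW (hs0 _ hyn).1) hx1, map_mul]; group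
    exact mul_left_cancel (exy.symm.trans h2)
  obtain ⟨φ, hφ, hφX, hφD⟩ := h.cobEnd D hDadd (fun n hn x hx => (hD n hn x hx).1) (fun g hg k hk x hx => by
    obtain ⟨hk1, ek⟩ := hD k hk x hx
    have hxk := (Subgroup.mem_normalizer_iff.mp hk x).mp hx
    obtain ⟨hg1, eg⟩ := hD g hg _ hxk
    obtain ⟨-, egk⟩ := hD (g * k) (Subgroup.mul_mem _ hg hk) x hx
    refine C.inj ?_
    have hc : g * k * x * (g * k)⁻¹ = g * (k * x * k⁻¹) * g⁻¹ := by group
    rw [hc] at egk
    have h2 : C.e (g * k) * s0 x * (C.e (g * k))⁻¹ =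
        s0 (g * (k * x * k⁻¹) * g⁻¹) * C.e (D g (k * x * k⁻¹) * (g * D k x * g⁻¹)) := by
      calc C.e (g * k) * s0 x * (C.e (g * k))⁻¹ = C.e g * (C.e k * s0 x * (C.e k)⁻¹) * (C.e g)⁻¹ := by
            rw [map_mul]; group
        _ = C.e g * s0 (k * x * k⁻¹) * (C.e g)⁻¹ * (C.e g * C.e (D k x) * (C.e g)⁻¹) := by rw [ek]; group
        _ = _ := by rw [eg, C.e_conj, mul_assoc, ← map_mul]
    exact mul_left_cancel (egk.symm.trans h2))
  let s : M → G := fun x => s0 x * C.e (φ x)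
  have hsW : ∀ x ∈ X, s x ∈ W := fun x hx => W.mul_mem (hPW (hs0 x hx).1) (H.e_mem _ (hφX x hx))
  have hst : ∀ x ∈ X, tau C X (s x) = x := fun x hx => by
    rw [tau_mul C X (H.mem_trans (hPW (hs0 x hx).1)) (e_mem_transSet C X h.elem (hφX x hx)), (hs0 x hx).2,
      tau_e C X h.elem (hφX x hx), mul_one]
  refine ⟨⟨s, fun x hx y hy => ?_, fun x hx => hel _ (hsW x hx), fun x hx => ?_,
    fun x hx y hy => H.comm _ (hsW x hx) _ (hsW y hy), fun x hx y hy => H.X_comm (hsW x hx) hy,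
    fun x hx d hd => (transD_comm C X (H.le_trans (hsW x hx)) hd).symm, fun n hn x hx => ?_⟩, hsW⟩
  · show s0 (x * y) * C.e (φ (x * y)) = s0 x * C.e (φ x) * (s0 y * C.e (φ y))
    rw [hs0add x hx y hy, hφ x hx y hy, map_mul]
    calc s0 x * s0 y * (C.e (φ x) * C.e (φ y)) = s0 x * (s0 y * C.e (φ x)) * C.e (φ y) := by group
      _ = _ := by rw [H.X_comm (hPW (hs0 y hy).1) (hφX x hx)]; group
  · rw [tau_spec C X (H.mem_trans (hsW x hx)), hst x hx]
  · have hxn := (Subgroup.mem_normalizer_iff.mp hn x).mp hx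
    obtain ⟨hd, ed⟩ := hD n hn x hx
    have hgx : n * φ x * n⁻¹ ∈ X := (Subgroup.mem_normalizer_iff.mp hn _).mp (hφX x hx)
    show C.e n * (s0 x * C.e (φ x)) * (C.e n)⁻¹ = s0 (n * x * n⁻¹) * C.e (φ (n * x * n⁻¹))
    calc C.e n * (s0 x * C.e (φ x)) * (C.e n)⁻¹
        = (C.e n * s0 x * (C.e n)⁻¹) * (C.e n * C.e (φ x) * (C.e n)⁻¹) := by group
      _ = s0 (n * x * n⁻¹) * C.e (φ (n * x * n⁻¹) * (n * φ x * n⁻¹) * (n * φ x * n⁻¹)) := by
        rw [ed, C.e_conj, mul_assoc, ← map_mul, hφD n hn x hx]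
      _ = _ := by rw [mul_assoc (φ (n * x * n⁻¹)), h.mul_self hgx, mul_one]

end Hull

end Cfsg.Lib.StdWreath
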