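import Cfsg.Agent.StdWreath.Cfg

/-!
The translation group over `X`: the elements centralising `X` and moving `t` inside `tX`, its part centralising `D`,
and the 2-part `R` of the latter with all squares and commutators in the image of `X`.
-/

set_option autoImplicit false
set_option linter.unusedSectionVars false

namespace Cfsg.Lib.StdWreath

universe u v

namespace TCtx

variable {G : Type u} {M : Type v} [Group G] [Group M] {C : Cfg G M} {X : Subgroup M}

theorem mul_self (h : TCtx C X) {x : M} (hx : x ∈ X) : x * x = 1 := by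
  have := h.elem.2 x hx
  rwa [pow_two] at this

theorem inv_eq (h : TCtx C X) {x : M} (hx : x ∈ X) : x⁻¹ = x :=
  inv_eq_of_mul_eq_one_right (h.mul_self hx)

theorem mul_comm (h : TCtx C X) {x y : M} (hx : x ∈ X) (hy : y ∈ X) : x * y = y * x := by
  have := h.elem.1
  exact congrArg Subtype.val (h.elem.1.is_comm.comm (⟨x, hx⟩ : X) ⟨y, hy⟩)

/-- Some element of the normaliser moves every non-trivial element of `X`. -/
theorem exists_moved (h : TCtx C X) :
    ∃ n ∈ Subgroup.normalizer (X : Set M), ∃ x ∈ X, n * x * n⁻¹ ≠ x := by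
  by_contra hcon
  push Not at hcon
  obtain ⟨x, hx, hx1⟩ : ∃ x ∈ X, x ≠ 1 := by
    by_contra h0
    push Not at h0
    have : X = ⊥ := (Subgroup.eq_bot_iff_forall _).mpr h0
    have hc := h.card
    rw [this, Subgroup.card_bot] at hc
    omega
  have hle : X ≤ Subgroup.zpowers x := (h.span x hx hx1).trans <| by
    rw [Subgroup.closure_le]
    rintro y ⟨n, hn, rfl⟩
    rw [hcon n hn x hx]
    exact Subgroup.mem_zpowers x
  have heq : X = Subgroup.zpowers x := le_antisymm hle ((Subgroup.zpowers_le).mpr hx)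
  have hc := h.card
  rw [heq, Nat.card_zpowers] at hc
  have := orderOf_dvd_of_pow_eq_one (h.elem.2 x hx)
  have := Nat.le_of_dvd two_pos this
  omega

end TCtx

variable {G : Type u} {M : Type v} [Group G] [Group M] (C : Cfg G M) (X : Subgroup M)

/-- Translations: elements centralising `X` which carry `t` into `tX`. -/
def transSet : Subgroup G where
  carrier := {g | (∀ y ∈ X, g * C.e y = C.e y * g) ∧ ∃ x ∈ X, g * C.t * g⁻¹ = C.t * C.e x}
  one_mem' := ⟨fun y _ => by rw [one_mul, mul_one], 1, X.one_mem, by simp⟩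
  mul_mem' := by
    rintro g g' ⟨hg, x, hx, hgt⟩ ⟨hg', x', hx', hgt'⟩
    refine ⟨fun y hy => by rw [mul_assoc, hg' y hy, ← mul_assoc, hg y hy, mul_assoc], x * x', X.mul_mem hx hx', ?_⟩
    calc g * g' * C.t * (g * g')⁻¹ = g * (g' * C.t * g'⁻¹) * g⁻¹ := by group
      _ = g * C.t * g⁻¹ * (g * C.e x' * g⁻¹) := by rw [hgt']; group
      _ = C.t * C.e (x * x') := by
        rw [hgt, hg x' hx', mul_inv_cancel_right, map_mul, mul_assoc]
  inv_mem' := by
    rintro g ⟨hg, x, hx, hgt⟩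
    have hg' : ∀ y ∈ X, g⁻¹ * C.e y = C.e y * g⁻¹ := fun y hy => by
      rw [← mul_inv_eq_iff_eq_mul, inv_inv, mul_assoc, ← hg y hy, inv_mul_cancel_left]
    refine ⟨hg', x⁻¹, X.inv_mem hx, ?_⟩
    rw [inv_inv, map_inv]
    have h1 : C.t = g⁻¹ * C.t * g * C.e x := by
      calc C.t = g⁻¹ * (g * C.t * g⁻¹) * g := by group
        _ = g⁻¹ * (C.t * C.e x) * g := by rw [hgt]
        _ = g⁻¹ * C.t * g * C.e x := by
          rw [mul_assoc (g⁻¹) (C.t * C.e x), mul_assoc C.t, ← hg x hx]; group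
    conv_rhs => rw [h1]
    group

theorem mem_transSet {g : G} :
    g ∈ transSet C X ↔ (∀ y ∈ X, g * C.e y = C.e y * g) ∧ ∃ x ∈ X, g * C.t * g⁻¹ = C.t * C.e x := Iff.rfl

open Classical in
/-- The translation vector of an element. -/
noncomputable def tau (g : G) : M :=
  if h : ∃ x ∈ X, g * C.t * g⁻¹ = C.t * C.e x then h.choose else 1

theorem tau_mem (g : G) : tau C X g ∈ X := by
  unfold tau
  split_ifs with h
  · exact h.choose_spec.1
  · exact X.one_mem

theorem tau_spec {g : G} (hg : g ∈ transSet C X) : g * C.t * g⁻¹ = C.t * C.e (tau C X g) := by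
  unfold tau
  rw [dif_pos hg.2]
  exact hg.2.choose_spec.2

theorem tau_eq {g : G} {x : M} (hg : g ∈ transSet C X) (hgt : g * C.t * g⁻¹ = C.t * C.e x) : tau C X g = x :=
  C.inj (mul_left_cancel ((tau_spec C X hg).symm.trans hgt))

theorem tau_mul {g g' : G} (hg : g ∈ transSet C X) (hg' : g' ∈ transSet C X) :
    tau C X (g * g') = tau C X g * tau C X g' := by
  refine tau_eq C X ((transSet C X).mul_mem hg hg') ?_
  calc g * g' * C.t * (g * g')⁻¹ = g * (g' * C.t * g'⁻¹) * g⁻¹ := by group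
    _ = g * C.t * g⁻¹ * (g * C.e (tau C X g') * g⁻¹) := by rw [tau_spec C X hg']; group
    _ = C.t * C.e (tau C X g * tau C X g') := by
      rw [tau_spec C X hg, hg.1 _ (tau_mem C X g'), mul_inv_cancel_right, map_mul, mul_assoc]

theorem tau_one : tau C X (1 : G) = 1 := tau_eq C X (transSet C X).one_mem (by simp)

theorem tau_inv {g : G} (hg : g ∈ transSet C X) : tau C X g⁻¹ = (tau C X g)⁻¹ :=
  eq_inv_of_mul_eq_one_left (by rw [← tau_mul C X ((transSet C X).inv_mem hg) hg, inv_mul_cancel, tau_one])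

theorem t_mem_transSet : C.t ∈ transSet C X :=
  ⟨fun y _ => C.t_comm y, 1, X.one_mem, by simp⟩

theorem tau_t : tau C X C.t = 1 := tau_eq C X (t_mem_transSet C X) (by simp)

theorem D_mem_transSet {d : G} (hd : d ∈ C.D) : d ∈ transSet C X :=
  ⟨fun y _ => C.D_comm d hd y, 1, X.one_mem, by rw [map_one, mul_one, C.D_t d hd, mul_inv_cancel_right]⟩

theorem e_mem_transSet (hX : Cfsg.IsElementaryAbelian 2 X) {y : M} (hy : y ∈ X) : C.e y ∈ transSet C X :=
  ⟨fun w hw => by
      rw [← map_mul, ← map_mul]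
      exact congrArg C.e (congrArg Subtype.val (hX.1.is_comm.comm (⟨y, hy⟩ : X) ⟨w, hw⟩)),
    1, X.one_mem, by rw [map_one, mul_one, ← C.t_comm, mul_inv_cancel_right]⟩

theorem tau_e (hX : Cfsg.IsElementaryAbelian 2 X) {y : M} (hy : y ∈ X) : tau C X (C.e y) = 1 :=
  tau_eq C X (e_mem_transSet C X hX hy) (by rw [map_one, mul_one, ← C.t_comm, mul_inv_cancel_right])

/-- Conjugation by the normaliser of `X`. -/
theorem conj_mem_transSet {n : M} (hn : n ∈ Subgroup.normalizer (X : Set M)) {g : G} (hg : g ∈ transSet C X) :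
    C.e n * g * (C.e n)⁻¹ ∈ transSet C X ∧
      tau C X (C.e n * g * (C.e n)⁻¹) = n * tau C X g * n⁻¹ := by
  have hmem : n * tau C X g * n⁻¹ ∈ X := (Subgroup.mem_normalizer_iff.mp hn _).mp (tau_mem C X g)
  have hx : C.e n * g * (C.e n)⁻¹ * C.t * (C.e n * g * (C.e n)⁻¹)⁻¹ = C.t * C.e (n * tau C X g * n⁻¹) := by
    have ht : (C.e n)⁻¹ * C.t * C.e n = C.t := by rw [mul_assoc, C.t_comm, inv_mul_cancel_left]
    calc C.e n * g * (C.e n)⁻¹ * C.t * (C.e n * g * (C.e n)⁻¹)⁻¹
        = C.e n * (g * ((C.e n)⁻¹ * C.t * C.e n) * g⁻¹) * (C.e n)⁻¹ := by group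
      _ = C.e n * (C.t * C.e (tau C X g)) * (C.e n)⁻¹ := by rw [ht, tau_spec C X hg]
      _ = C.e n * C.t * (C.e n)⁻¹ * (C.e n * C.e (tau C X g) * (C.e n)⁻¹) := by group
      _ = C.t * C.e (n * tau C X g * n⁻¹) := by rw [← C.t_comm, mul_inv_cancel_right, C.e_conj]
  have hc : C.e n * g * (C.e n)⁻¹ ∈ transSet C X := by
    refine ⟨fun y hy => ?_, _, hmem, hx⟩
    have hy' : n⁻¹ * y * n ∈ X := by
      have := (Subgroup.mem_normalizer_iff''.mp hn y).mp hy
      exact this
    have he : C.e y = C.e n * C.e (n⁻¹ * y * n) * (C.e n)⁻¹ := by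
      rw [C.e_conj]; congr 1; group
    rw [he]
    calc C.e n * g * (C.e n)⁻¹ * (C.e n * C.e (n⁻¹ * y * n) * (C.e n)⁻¹)
        = C.e n * (g * C.e (n⁻¹ * y * n)) * (C.e n)⁻¹ := by group
      _ = C.e n * (C.e (n⁻¹ * y * n) * g) * (C.e n)⁻¹ := by rw [hg.1 _ hy']
      _ = _ := by group
  exact ⟨hc, tau_eq C X hc hx⟩

/-- Equal translation vectors: the quotient fixes `t` and centralises `X`. -/
theorem cent_of_tau_eq (h : TCtx C X) {g g' : G} (hg : g ∈ transSet C X) (hg' : g' ∈ transSet C X)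
    (he : tau C X g = tau C X g') :
    ∃ x ∈ X, ∃ d ∈ C.D, g⁻¹ * g' = C.e x * d ∨ g⁻¹ * g' = C.e x * C.t * d := by
  have hm : g⁻¹ * g' ∈ transSet C X := (transSet C X).mul_mem ((transSet C X).inv_mem hg) hg'
  have ht : tau C X (g⁻¹ * g') = 1 := by
    rw [tau_mul C X ((transSet C X).inv_mem hg) hg', tau_inv C X hg, he, inv_mul_cancel]
  have := tau_spec C X hm
  rw [ht, map_one, mul_one, mul_inv_eq_iff_eq_mul] at this
  exact h.cent _ this hm.1

theorem cent_of_tau_one (h : TCtx C X) {g : G} (hg : g ∈ transSet C X) (he : tau C X g = 1) :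
    ∃ x ∈ X, ∃ d ∈ C.D, g = C.e x * d ∨ g = C.e x * C.t * d := by
  simpa using cent_of_tau_eq C X h (transSet C X).one_mem hg (by rw [tau_one, he])

variable [Finite G]

/-- Translations normalise `D`. -/
theorem conj_D_mem (h : TCtx C X) {g d : G} (hg : g ∈ transSet C X) (hd : d ∈ C.D) : g * d * g⁻¹ ∈ C.D := by
  have hm : g * d * g⁻¹ ∈ transSet C X :=
    (transSet C X).mul_mem ((transSet C X).mul_mem hg (D_mem_transSet C X hd)) ((transSet C X).inv_mem hg)
  have ht : tau C X (g * d * g⁻¹) = 1 := by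
    rw [tau_mul C X ((transSet C X).mul_mem hg (D_mem_transSet C X hd)) ((transSet C X).inv_mem hg),
      tau_mul C X hg (D_mem_transSet C X hd), tau_inv C X hg,
      tau_eq C X (D_mem_transSet C X hd) (x := 1) (by rw [map_one, mul_one, C.D_t d hd, mul_inv_cancel_right]),
      mul_one, mul_inv_cancel]
  obtain ⟨x, hx, d', hd', hc⟩ := cent_of_tau_one C X h hm ht
  set N := Nat.card C.D with hN
  have hdN : ∀ e' ∈ C.D, e' ^ N = 1 := fun e' he' => by
    have h0 : (⟨e', he'⟩ : C.D) ^ Nat.card C.D = 1 := pow_card_eq_one'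
    rw [hN]
    exact congrArg Subtype.val h0
  have hpow : (g * d * g⁻¹) ^ N = 1 := by rw [conj_pow, hdN d hd, mul_one, mul_inv_cancel]
  obtain ⟨k, hk⟩ := C.D_odd
  have hxx : C.e x * C.e x = 1 := by rw [← map_mul, h.mul_self hx, map_one]
  rcases hc with hc | hc
  · rw [hc] at hpow
    have hcomm : Commute (C.e x) d' := (C.D_comm d' hd' x).symm
    rw [hcomm.mul_pow, hdN d' hd', mul_one] at hpow
    have hx1 : C.e x = 1 := by
      rw [hN, hk, pow_succ, pow_mul, pow_two, hxx, one_pow, one_mul] at hpow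
      exact hpow
    rw [hc, hx1, one_mul]
    exact hd'
  · exfalso
    rw [hc] at hpow
    have hcomm : Commute (C.e x * C.t) d' :=
      (Commute.mul_left (C.D_comm d' hd' x).symm (C.D_t d' hd').symm)
    rw [hcomm.mul_pow, hdN d' hd', mul_one] at hpow
    have hsq : (C.e x * C.t) * (C.e x * C.t) = 1 := by
      rw [mul_assoc, ← mul_assoc C.t, C.t_comm, mul_assoc, C.t_sq, mul_one, hxx]
    have hx1 : C.e x * C.t = 1 := by
      rw [hN, hk, pow_succ, pow_mul, pow_two, hsq, one_pow, one_mul] at hpow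
      exact hpow
    apply C.t_not x
    calc C.e x = (C.e x * C.t) * C.t := by rw [mul_assoc, C.t_sq, mul_one]
      _ = C.t := by rw [hx1, one_mul]

/-- The translations centralising `D`. -/
def transD : Subgroup G := transSet C X ⊓ Subgroup.centralizer (C.D : Set G)

theorem transD_comm {g d : G} (hg : g ∈ transD C X) (hd : d ∈ C.D) : g * d = d * g :=
  (Subgroup.mem_centralizer_iff.mp hg.2 d hd).symm

theorem t_mem_transD : C.t ∈ transD C X :=
  ⟨t_mem_transSet C X, Subgroup.mem_centralizer_iff.mpr fun d hd => C.D_t d hd⟩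

theorem e_mem_transD (hX : Cfsg.IsElementaryAbelian 2 X) {y : M} (hy : y ∈ X) : C.e y ∈ transD C X :=
  ⟨e_mem_transSet C X hX hy, Subgroup.mem_centralizer_iff.mpr fun d hd => C.D_comm d hd y⟩

theorem e_conj_D (n : M) {d : G} (hd : d ∈ C.D) : C.e n * d * (C.e n)⁻¹ = d := by
  rw [← C.D_comm d hd, mul_inv_cancel_right]

theorem conj_mem_transD {n : M} (hn : n ∈ Subgroup.normalizer (X : Set M)) {g : G} (hg : g ∈ transD C X) :
    C.e n * g * (C.e n)⁻¹ ∈ transD C X := by
  refine ⟨(conj_mem_transSet C X hn hg.1).1, Subgroup.mem_centralizer_iff.mpr fun d hd => ?_⟩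
  calc d * (C.e n * g * (C.e n)⁻¹) = (d * C.e n) * g * (C.e n)⁻¹ := by group
    _ = C.e n * (d * g) * (C.e n)⁻¹ := by rw [C.D_comm d hd]; group
    _ = C.e n * g * (d * (C.e n)⁻¹) := by rw [← transD_comm C X hg hd]; group
    _ = C.e n * g * (C.e n)⁻¹ * d := by
      rw [show d * (C.e n)⁻¹ = (C.e n)⁻¹ * d by rw [← map_inv, C.D_comm d hd]]; group

/-- The commutator of a translation with the normaliser centralises `D`. -/
theorem conj_div_mem_transD (h : TCtx C X) {n : M} (hn : n ∈ Subgroup.normalizer (X : Set M)) {g : G}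
    (hg : g ∈ transSet C X) : g⁻¹ * (C.e n * g * (C.e n)⁻¹) ∈ transD C X := by
  refine ⟨(transSet C X).mul_mem ((transSet C X).inv_mem hg) (conj_mem_transSet C X hn hg).1,
    Subgroup.mem_centralizer_iff.mpr fun d hd => ?_⟩
  have h2 : C.e n * g * (C.e n)⁻¹ * d * (C.e n * g⁻¹ * (C.e n)⁻¹) = g * d * g⁻¹ := by
    calc C.e n * g * (C.e n)⁻¹ * d * (C.e n * g⁻¹ * (C.e n)⁻¹)
        = C.e n * (g * ((C.e n)⁻¹ * d * C.e n) * g⁻¹) * (C.e n)⁻¹ := by group
      _ = C.e n * (g * d * g⁻¹) * (C.e n)⁻¹ := by rw [mul_assoc _ d, C.D_comm d hd, inv_mul_cancel_left]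
      _ = _ := e_conj_D C n (conj_D_mem C X h hg hd)
  symm
  calc g⁻¹ * (C.e n * g * (C.e n)⁻¹) * d
      = g⁻¹ * (C.e n * g * (C.e n)⁻¹ * d * (C.e n * g⁻¹ * (C.e n)⁻¹)) * (C.e n * g * (C.e n)⁻¹) := by group
    _ = g⁻¹ * (g * d * g⁻¹) * (C.e n * g * (C.e n)⁻¹) := by rw [h2]
    _ = _ := by group

theorem exists_transD (h : TCtx C X) {x : M} (hx : x ∈ X) : ∃ g ∈ transD C X, tau C X g = x := by
  let S : Subgroup M :=
    { carrier := {y | ∃ g ∈ transD C X, tau C X g = y}
      one_mem' := ⟨1, (transD C X).one_mem, tau_one C X⟩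
      mul_mem' := by
        rintro a b ⟨g, hg, rfl⟩ ⟨g', hg', rfl⟩
        exact ⟨g * g', (transD C X).mul_mem hg hg', tau_mul C X hg.1 hg'.1⟩
      inv_mem' := by
        rintro a ⟨g, hg, rfl⟩
        exact ⟨g⁻¹, (transD C X).inv_mem hg, tau_inv C X hg.1⟩ }
  obtain ⟨n, hn, w, hw, hne⟩ := h.exists_moved
  obtain ⟨g, hgc, hgt⟩ := h.trans w hw
  have hgm : g ∈ transSet C X := ⟨hgc, w, hw, hgt⟩
  set y := w⁻¹ * (n * w * n⁻¹) with hy
  have hyS : y ∈ S := ⟨_, conj_div_mem_transD C X h hn hgm, by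
    rw [tau_mul C X ((transSet C X).inv_mem hgm) (conj_mem_transSet C X hn hgm).1, tau_inv C X hgm,
      (conj_mem_transSet C X hn hgm).2, tau_eq C X hgm hgt]⟩
  have hyX : y ∈ X := X.mul_mem (X.inv_mem hw) ((Subgroup.mem_normalizer_iff.mp hn _).mp hw)
  have hy1 : y ≠ 1 := fun h0 => hne (by
    rw [hy, inv_mul_eq_one] at h0
    exact h0.symm)
  have hle : X ≤ S := (h.span y hyX hy1).trans <| by
    rw [Subgroup.closure_le]
    rintro _ ⟨m, hm, rfl⟩
    obtain ⟨g', hg', hgy⟩ := hyS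
    exact ⟨_, conj_mem_transD C X hm hg', by rw [(conj_mem_transSet C X hm hg'.1).2, hgy]⟩
  exact hle hx

end Cfsg.Lib.StdWreath
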