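import Cfsg.Agent.StdWreath.TranslTwo

/-!
An invariant abelian complement `W` to `t` in the 2-part of the translations.
-/

set_option autoImplicit false
set_option linter.unusedSectionVars false

namespace Cfsg.Lib.StdWreath

universe u v

variable {G : Type u} {M : Type v} [Group G] [Group M]

/-- An abelian translation group over `X`, before it is known to be elementary. -/
structure Hull (C : Cfg G M) (X : Subgroup M) (W : Subgroup G) : Prop where
  le_trans : W ≤ transD C X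
  e_mem : ∀ x ∈ X, C.e x ∈ W
  t_not : C.t ∉ W
  t_conj : ∀ w ∈ W, C.t * w * C.t ∈ W
  conj : ∀ n ∈ Subgroup.normalizer (X : Set M), ∀ w ∈ W, C.e n * w * (C.e n)⁻¹ ∈ W
  sq : ∀ w ∈ W, ∃ x ∈ X, w * w = C.e x
  comm : ∀ v ∈ W, ∀ w ∈ W, v * w = w * v
  onto : ∀ x ∈ X, ∃ w ∈ W, tau C X w = x
  ker : ∀ w ∈ W, tau C X w = 1 → ∃ x ∈ X, w = C.e x

variable [Finite G] (C : Cfg G M) (X : Subgroup M)

theorem t_mem_transTwo (h : TCtx C X) : C.t ∈ transTwo C X h :=
  ⟨t_mem_transD C X, 1, X.one_mem, by rw [C.t_sq, map_one]⟩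

theorem e_mem_transTwo (h : TCtx C X) {x : M} (hx : x ∈ X) : C.e x ∈ transTwo C X h :=
  ⟨e_mem_transD C X h.elem hx, 1, X.one_mem, by rw [← map_mul, h.mul_self hx]⟩

theorem conj_mem_transTwo (h : TCtx C X) {n : M} (hn : n ∈ Subgroup.normalizer (X : Set M)) {g : G}
    (hg : g ∈ transTwo C X h) : C.e n * g * (C.e n)⁻¹ ∈ transTwo C X h := by
  obtain ⟨hgD, x, hx, hsq⟩ := hg
  refine ⟨conj_mem_transD C X hn hgD, n * x * n⁻¹, (Subgroup.mem_normalizer_iff.mp hn x).mp hx, ?_⟩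
  rw [← C.e_conj, ← hsq]; group

theorem two_kernel (h : TCtx C X) {g : G} (hg : g ∈ transTwo C X h) (ht : tau C X g = 1) :
    ∃ x ∈ X, g = C.e x ∨ g = C.e x * C.t := by
  obtain ⟨hgD, y, hy, hsq⟩ := hg
  obtain ⟨x, hx, d, hd, hc⟩ := cent_of_tau_one C X h hgD.1 ht
  refine ⟨x, hx, ?_⟩
  have key : ∀ a : G, a * a = 1 → a * d = d * a → g = a * d → d = 1 := fun a ha had hga => by
    have h1 : g * g = d * d := by
      rw [hga]
      calc a * d * (a * d) = a * (d * a) * d := by group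
        _ = a * a * (d * d) := by rw [← had]; group
        _ = d * d := by rw [ha, one_mul]
    refine C.D_eq_one hd (k := 2) ?_
    have h4 : (d * d) * (d * d) = 1 := by rw [← h1, hsq, ← map_mul, h.mul_self hy, map_one]
    rw [show 2 ^ 2 = 4 from rfl, pow_succ, pow_succ, pow_two]
    simpa [mul_assoc] using h4
  rcases hc with hc | hc
  · left
    have := key _ (by rw [← map_mul, h.mul_self hx, map_one]) (C.D_comm d hd x).symm hc
    rw [hc, this, mul_one]
  · right
    have := key (C.e x * C.t)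
      (by rw [mul_assoc, ← mul_assoc C.t, C.t_comm, mul_assoc, C.t_sq, mul_one, ← map_mul, h.mul_self hx, map_one])
      ((Commute.mul_left (C.D_comm d hd x).symm (C.D_t d hd).symm)) hc
    rw [hc, this, mul_one]

theorem two_comm (h : TCtx C X) {g k : G} (hg : g ∈ transTwo C X h) (hk : k ∈ transTwo C X h) :
    ∃ x ∈ X, k * g * k⁻¹ = g * C.e x := by
  obtain ⟨x, hx, he⟩ := comm_eq_e C X h hg.1 hk.1
  exact ⟨x, hx, by rw [← he]; group⟩

/-- A subgroup between the image of `X` and the 2-part, missing `t`. -/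
def GoodSub (h : TCtx C X) (P : Subgroup G) : Prop :=
  P ≤ transTwo C X h ∧ C.t ∉ P ∧ ∀ x ∈ X, C.e x ∈ P

theorem exists_index_two (h : TCtx C X) :
    ∃ P : Subgroup G, GoodSub C X h P ∧ ∀ r ∈ transTwo C X h, r ∈ P ∨ C.t * r ∈ P := by
  classical
  have h0 : GoodSub C X h (X.map C.e) := ⟨by rintro _ ⟨x, hx, rfl⟩; exact e_mem_transTwo C X h hx,
    by rintro ⟨x, -, hxt⟩; exact C.t_not x hxt, fun x hx => ⟨x, hx, rfl⟩⟩
  obtain ⟨P, -, hP⟩ := (Set.toFinite {P | GoodSub C X h P}).exists_le_maximal h0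
  refine ⟨P, hP.1, fun r hr => ?_⟩
  by_contra hcon
  push Not at hcon
  obtain ⟨hr1, hr2⟩ := hcon
  obtain ⟨hPR, htP, heP⟩ := hP.1
  have hrr : r * r ∈ P := by
    obtain ⟨x, hx, hsq⟩ := hr.2
    rw [hsq]; exact heP x hx
  have hrc : ∀ p ∈ P, r * p * r⁻¹ ∈ P := fun p hp => by
    obtain ⟨x, hx, he⟩ := two_comm C X h (hPR hp) hr
    rw [he]; exact P.mul_mem hp (heP x hx)
  have hrc' : ∀ p ∈ P, r⁻¹ * p * r ∈ P := fun p hp => by
    obtain ⟨x, hx, he⟩ := two_comm C X h (hPR hp) ((transTwo C X h).inv_mem hr)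
    rw [inv_inv] at he
    rw [he]; exact P.mul_mem hp (heP x hx)
  let P' : Subgroup G :=
    { carrier := {x | x ∈ P ∨ x * r ∈ P}
      one_mem' := Or.inl P.one_mem
      mul_mem' := by
        rintro a b (ha | ha) (hb | hb)
        · exact Or.inl (P.mul_mem ha hb)
        · exact Or.inr (by rw [mul_assoc]; exact P.mul_mem ha hb)
        · refine Or.inr ?_
          have := P.mul_mem ha (hrc' b hb)
          convert this using 1; group
        · refine Or.inl ?_
          have := P.mul_mem (P.mul_mem ha (hrc' _ hb)) (P.inv_mem hrr)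
          convert this using 1; group
      inv_mem' := by
        rintro a (ha | ha)
        · exact Or.inl (P.inv_mem ha)
        · refine Or.inr ?_
          have := P.mul_mem (hrc _ (P.inv_mem ha)) hrr
          convert this using 1; group }
  have hPP : P ≤ P' := fun x hx => Or.inl hx
  have hrP' : r ∈ P' := Or.inr hrr
  have hgood : GoodSub C X h P' := by
    refine ⟨?_, ?_, fun x hx => hPP (heP x hx)⟩
    · rintro x (hx | hx)
      · exact hPR hx
      · have := (transTwo C X h).mul_mem (hPR hx) ((transTwo C X h).inv_mem hr)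
        rwa [mul_inv_cancel_right] at this
    · rintro (ht | ht)
      · exact htP ht
      · exact hr2 ht
  exact hr1 (hP.2 hgood hPP hrP')

/-- There is an invariant abelian complement to `t`. -/
theorem exists_hull (h : TCtx C X) : ∃ W : Subgroup G, Hull C X W := by
  classical
  obtain ⟨P, ⟨hPR, htP, heP⟩, hP2⟩ := exists_index_two C X h
  let σ : G → Multiplicative (ZMod 2) := fun r => if r ∈ P then 1 else Multiplicative.ofAdd 1
  have htR := t_mem_transTwo C X h
  have hσ : ∀ a ∈ transTwo C X h, ∀ b ∈ transTwo C X h, σ (a * b) = σ a * σ b := by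
    intro a ha b hb
    have hone : Multiplicative.ofAdd (1 : ZMod 2) * Multiplicative.ofAdd (1 : ZMod 2) = 1 := by decide
    by_cases h1 : a ∈ P <;> by_cases h2 : b ∈ P
    · simp [σ, h1, h2, P.mul_mem h1 h2]
    · have : a * b ∉ P := fun h3 => h2 (by simpa using P.mul_mem (P.inv_mem h1) h3)
      simp [σ, h1, h2, this]
    · have : a * b ∉ P := fun h3 => h1 (by simpa using P.mul_mem h3 (P.inv_mem h2))
      simp [σ, h1, h2, this]
    · have h3 := (hP2 a ha).resolve_left h1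
      have h4 := (hP2 b hb).resolve_left h2
      obtain ⟨x, hx, he⟩ := two_comm C X h ha htR
      have he' : C.t * a = a * C.e x * C.t := by
        rw [← he, inv_mul_cancel_right]
      have h5 : a * b ∈ P := by
        have h6 : C.t * a * (C.t * b) ∈ P := P.mul_mem h3 h4
        rw [he'] at h6
        have h7 : a * C.e x * C.t * (C.t * b) = a * b * C.e x := by
          rw [mul_assoc _ C.t, C.tt, mul_assoc, mul_assoc, e_central C X hb.1 hx]
        rw [h7] at h6
        simpa using P.mul_mem h6 (P.inv_mem (heP x hx))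
      simp [σ, h1, h2, h5, hone]
  have hσe : ∀ x ∈ X, σ (C.e x) = 1 := fun x hx => by simp [σ, heP x hx]
  have hσt : σ C.t = Multiplicative.ofAdd 1 := by simp [σ, htP]
  have hex : ∀ x, x ∈ X → ∃ g ∈ transTwo C X h, tau C X g = x ∧ σ g = 1 := fun x hx => by
    obtain ⟨g, hg, hgt⟩ := exists_transTwo C X h hx
    rcases hP2 g hg with h1 | h1
    · exact ⟨g, hg, hgt, by simp [σ, h1]⟩
    · refine ⟨C.t * g, (transTwo C X h).mul_mem htR hg, ?_, by simp [σ, h1]⟩
      rw [tau_mul C X (t_mem_transSet C X) hg.1.1, tau_t, hgt, one_mul]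
  let L : M → G := fun x => if hx : x ∈ X then (hex x hx).choose else 1
  have hL : ∀ x ∈ X, L x ∈ transTwo C X h ∧ tau C X (L x) = x ∧ σ (L x) = 1 := fun x hx => by
    simp only [L, dif_pos hx]; exact (hex x hx).choose_spec
  let D : M → M → Multiplicative (ZMod 2) := fun n x => σ (C.e n * L x * (C.e n)⁻¹)
  have key : ∀ n ∈ Subgroup.normalizer (X : Set M), ∀ r ∈ transTwo C X h,
      σ (C.e n * r * (C.e n)⁻¹) = σ r * D n (tau C X r) := by
    intro n hn r hr
    obtain ⟨hl, hlt, hls⟩ := hL _ (tau_mem C X r)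
    set l := L (tau C X r) with hl0
    have hk : l⁻¹ * r ∈ transTwo C X h := (transTwo C X h).mul_mem ((transTwo C X h).inv_mem hl) hr
    have hkt : tau C X (l⁻¹ * r) = 1 := by
      rw [tau_mul C X ((transSet C X).inv_mem hl.1.1) hr.1.1, tau_inv C X hl.1.1, hlt, inv_mul_cancel]
    have hkσ : σ (l⁻¹ * r) = σ r := by
      have h1 := hσ l hl (l⁻¹ * r) hk
      rw [mul_inv_cancel_left, hls, one_mul] at h1
      exact h1.symm
    have hcj : σ (C.e n * (l⁻¹ * r) * (C.e n)⁻¹) = σ (l⁻¹ * r) := by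
      obtain ⟨x, hx, hc | hc⟩ := two_kernel C X h hk hkt
      · rw [hc, C.e_conj, hσe _ ((Subgroup.mem_normalizer_iff.mp hn x).mp hx), hσe x hx]
      · have hx' := (Subgroup.mem_normalizer_iff.mp hn x).mp hx
        have he : C.e n * (C.e x * C.t) * (C.e n)⁻¹ = C.e (n * x * n⁻¹) * C.t := by
          calc C.e n * (C.e x * C.t) * (C.e n)⁻¹ = C.e n * C.e x * (C.t * C.e n⁻¹) := by rw [map_inv]; group
            _ = C.e n * C.e x * (C.e n)⁻¹ * C.t := by rw [C.t_comm, map_inv]; group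
            _ = _ := by rw [C.e_conj]
        rw [hc, he, hσ _ (e_mem_transTwo C X h hx') _ htR, hσ _ (e_mem_transTwo C X h hx) _ htR, hσe _ hx',
          hσe _ hx]
    have he : C.e n * r * (C.e n)⁻¹ = (C.e n * l * (C.e n)⁻¹) * (C.e n * (l⁻¹ * r) * (C.e n)⁻¹) := by group
    rw [he, hσ _ (conj_mem_transTwo C X h hn hl) _ (conj_mem_transTwo C X h hn hk), hcj, hkσ, mul_comm]
  have hDadd : ∀ n ∈ Subgroup.normalizer (X : Set M), AddOn X (D n) := by
    intro n hn x hx y hy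
    obtain ⟨hlx, hxt, hxs⟩ := hL x hx
    obtain ⟨hly, hyt, hys⟩ := hL y hy
    have h1 := key n hn (L x * L y) ((transTwo C X h).mul_mem hlx hly)
    rw [tau_mul C X hlx.1.1 hly.1.1, hxt, hyt, hσ _ hlx _ hly, hxs, hys, one_mul, one_mul] at h1
    rw [← h1]
    show σ _ = σ _ * σ _
    rw [← hσ _ (conj_mem_transTwo C X h hn hlx) _ (conj_mem_transTwo C X h hn hly)]
    congr 1; group
  obtain ⟨φ, hφ, hφD⟩ := h.cobDual D hDadd (fun g hg k hk x hx => by
    obtain ⟨hlx, hxt, hxs⟩ := hL x hx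
    have h1 := key g hg _ (conj_mem_transTwo C X h hk hlx)
    rw [(conj_mem_transSet C X hk hlx.1.1).2, hxt] at h1
    show σ _ = _
    have he : C.e (g * k) * L x * (C.e (g * k))⁻¹ = C.e g * (C.e k * L x * (C.e k)⁻¹) * (C.e g)⁻¹ := by
      rw [map_mul]; group
    rw [he, h1, mul_comm])
  have hsq : ∀ a : Multiplicative (ZMod 2), a * a = 1 := by decide
  have hφ1 : φ 1 = 1 := by
    have := hφ 1 X.one_mem 1 X.one_mem
    rw [one_mul, hsq] at this
    exact this
  have hσ1 : σ 1 = 1 := by simp [σ, P.one_mem]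
  let W : Subgroup G :=
    { carrier := {r | r ∈ transTwo C X h ∧ σ r = φ (tau C X r)}
      one_mem' := ⟨(transTwo C X h).one_mem, by rw [tau_one, hσ1, hφ1]⟩
      mul_mem' := by
        rintro a b ⟨ha, ha'⟩ ⟨hb, hb'⟩
        exact ⟨(transTwo C X h).mul_mem ha hb, by
          rw [hσ a ha b hb, tau_mul C X ha.1.1 hb.1.1, hφ _ (tau_mem C X a) _ (tau_mem C X b), ha', hb']⟩
      inv_mem' := by
        rintro a ⟨ha, ha'⟩
        have hi := (transTwo C X h).inv_mem ha
        refine ⟨hi, ?_⟩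
        have h1 := hσ a ha a⁻¹ hi
        rw [mul_inv_cancel, hσ1] at h1
        rw [tau_inv C X ha.1.1, h.inv_eq (tau_mem C X a), ← ha']
        calc σ a⁻¹ = σ a * σ a * σ a⁻¹ := by rw [hsq, one_mul]
          _ = σ a := by rw [mul_assoc, ← h1, mul_one] }
  have hWmem : ∀ r, r ∈ W ↔ r ∈ transTwo C X h ∧ σ r = φ (tau C X r) := fun r => Iff.rfl
  have heW : ∀ x ∈ X, C.e x ∈ W := fun x hx =>
    ⟨e_mem_transTwo C X h hx, by rw [hσe x hx, tau_e C X h.elem hx, hφ1]⟩
  have htW : C.t ∉ W := fun h1 => by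
    have := ((hWmem _).mp h1).2
    rw [hσt, tau_t, hφ1] at this
    exact absurd this (by decide)
  have honto : ∀ x ∈ X, ∃ w ∈ W, tau C X w = x := fun x hx => by
    obtain ⟨hl, hlt, hls⟩ := hL x hx
    by_cases h1 : φ x = 1
    · exact ⟨L x, ⟨hl, by rw [hls, hlt, h1]⟩, hlt⟩
    · have h2 : φ x = Multiplicative.ofAdd 1 :=
        (show ∀ a : Multiplicative (ZMod 2), a ≠ 1 → a = Multiplicative.ofAdd 1 by decide) _ h1
      have htx : tau C X (C.t * L x) = x := by rw [tau_mul C X (t_mem_transSet C X) hl.1.1, tau_t, hlt, one_mul]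
      exact ⟨C.t * L x, ⟨(transTwo C X h).mul_mem htR hl, by rw [hσ _ htR _ hl, hσt, hls, htx, h2, mul_one]⟩, htx⟩
  have hker : ∀ w ∈ W, tau C X w = 1 → ∃ x ∈ X, w = C.e x := fun w hw hwt => by
    obtain ⟨x, hx, hc | hc⟩ := two_kernel C X h hw.1 hwt
    · exact ⟨x, hx, hc⟩
    · exfalso
      refine htW ?_
      have := W.mul_mem (W.inv_mem (heW x hx)) hw
      rwa [hc, inv_mul_cancel_left] at this
  have hconj : ∀ n ∈ Subgroup.normalizer (X : Set M), ∀ w ∈ W, C.e n * w * (C.e n)⁻¹ ∈ W := by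
    intro n hn w hw
    refine ⟨conj_mem_transTwo C X h hn hw.1, ?_⟩
    have hx := tau_mem C X w
    rw [(conj_mem_transSet C X hn hw.1.1.1).2, key n hn w hw.1, hw.2, hφD n hn _ hx,
      mul_comm (φ (n * _ * n⁻¹)), ← mul_assoc, hsq, one_mul]
  refine ⟨W, fun w hw => hw.1.1, heW, htW, fun w hw => ?_, hconj, fun w hw => hw.1.2, ?_, honto, hker⟩
  · obtain ⟨x, hx, he⟩ := two_comm C X h hw.1 htR
    rw [C.t_inv] at he
    rw [he]; exact W.mul_mem hw (heW x hx)
  · -- the commutator gives an invariant alternating map on `X`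
    let K : M → G := fun x => if hx : x ∈ X then (honto x hx).choose else 1
    have hK : ∀ x ∈ X, K x ∈ W ∧ tau C X (K x) = x := fun x hx => by
      simp only [K, dif_pos hx]; exact (honto x hx).choose_spec
    let β : M → M → M := fun x y =>
      if hc : ∃ m ∈ X, (K x)⁻¹ * K y * K x * (K y)⁻¹ = C.e m then hc.choose else 1
    have hβ : ∀ x ∈ X, ∀ y ∈ X, ∀ a ∈ W, ∀ b ∈ W, tau C X a = x → tau C X b = y →
        β x y ∈ X ∧ a⁻¹ * b * a * b⁻¹ = C.e (β x y) := by
      intro x hx y hy a ha b hb hat hbt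
      obtain ⟨hKx, hKxt⟩ := hK x hx
      obtain ⟨hKy, hKyt⟩ := hK y hy
      have hc := comm_eq_e C X h hKx.1.1 hKy.1.1
      simp only [β, dif_pos hc]
      refine ⟨hc.choose_spec.1, ?_⟩
      rw [← hc.choose_spec.2]
      obtain ⟨p, hp, hap⟩ := hker ((K x)⁻¹ * a) (W.mul_mem (W.inv_mem hKx) ha) (by
        rw [tau_mul C X ((transSet C X).inv_mem hKx.1.1.1) ha.1.1.1, tau_inv C X hKx.1.1.1, hKxt, hat, inv_mul_cancel])
      obtain ⟨q, hq, hbq⟩ := hker ((K y)⁻¹ * b) (W.mul_mem (W.inv_mem hKy) hb) (by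
        rw [tau_mul C X ((transSet C X).inv_mem hKy.1.1.1) hb.1.1.1, tau_inv C X hKy.1.1.1, hKyt, hbt, inv_mul_cancel])
      have ha' : a = K x * C.e p := by rw [← hap, mul_inv_cancel_left]
      have hb' : b = K y * C.e q := by rw [← hbq, mul_inv_cancel_left]
      have c1 : ∀ z ∈ X, ∀ g ∈ W, g * C.e z = C.e z * g := fun z hz g hg => e_central C X hg.1.1 hz
      have c2 : C.e p * C.e q = C.e q * C.e p := by rw [← map_mul, ← map_mul, h.mul_comm hp hq]
      rw [ha', hb']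
      calc (K x * C.e p)⁻¹ * (K y * C.e q) * (K x * C.e p) * (K y * C.e q)⁻¹
          = (C.e p)⁻¹ * ((K x)⁻¹ * K y) * (C.e q * K x) * C.e p * (C.e q)⁻¹ * (K y)⁻¹ := by group
        _ = (C.e p)⁻¹ * ((K x)⁻¹ * K y * K x) * (C.e q * C.e p) * (C.e q)⁻¹ * (K y)⁻¹ := by
            rw [← c1 q hq (K x) hKx]; group
        _ = (C.e p)⁻¹ * (((K x)⁻¹ * K y * K x) * C.e p) * (K y)⁻¹ := by rw [← c2]; group
        _ = _ := by
            rw [c1 p hp _ (W.mul_mem (W.mul_mem (W.inv_mem hKx) hKy) hKx), inv_mul_cancel_left]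
    have hzero : ∀ x ∈ X, ∀ y ∈ X, β x y = 1 := by
      refine h.wedge β (fun x hx y hy => ?_) (fun x hx y hy y' hy' => ?_) (fun y hy x hx x' hx' => ?_)
        (fun x hx => ?_) (fun n hn x hx y hy => ?_)
      · exact (hβ x hx y hy _ (hK x hx).1 _ (hK y hy).1 (hK x hx).2 (hK y hy).2).1
      · obtain ⟨hKx, hKxt⟩ := hK x hx
        obtain ⟨hKy, hKyt⟩ := hK y hy
        obtain ⟨hKy', hKyt'⟩ := hK y' hy'
        obtain ⟨m1, e1⟩ := hβ x hx y hy _ hKx _ hKy hKxt hKyt
        obtain ⟨m2, e2⟩ := hβ x hx y' hy' _ hKx _ hKy' hKxt hKyt'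
        obtain ⟨m3, e3⟩ := hβ x hx (y * y') (X.mul_mem hy hy') _ hKx _ (W.mul_mem hKy hKy') hKxt
          (by rw [tau_mul C X hKy.1.1.1 hKy'.1.1.1, hKyt, hKyt'])
        refine C.inj ?_
        rw [map_mul, ← e3]
        calc (K x)⁻¹ * (K y * K y') * K x * (K y * K y')⁻¹
            = ((K x)⁻¹ * K y * K x * (K y)⁻¹) * (K y * ((K x)⁻¹ * K y' * K x * (K y')⁻¹) * (K y)⁻¹) := by group
          _ = _ := by rw [e1, e2, e_central C X hKy.1.1 m2, mul_inv_cancel_right]
      · obtain ⟨hKx, hKxt⟩ := hK x hx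
        obtain ⟨hKx', hKxt'⟩ := hK x' hx'
        obtain ⟨hKy, hKyt⟩ := hK y hy
        obtain ⟨m1, e1⟩ := hβ x hx y hy _ hKx _ hKy hKxt hKyt
        obtain ⟨m2, e2⟩ := hβ x' hx' y hy _ hKx' _ hKy hKxt' hKyt
        obtain ⟨m3, e3⟩ := hβ (x * x') (X.mul_mem hx hx') y hy _ (W.mul_mem hKx hKx') _ hKy
          (by rw [tau_mul C X hKx.1.1.1 hKx'.1.1.1, hKxt, hKxt']) hKyt
        refine C.inj ?_
        show C.e (β (x * x') y) = C.e (β x y * β x' y)
        rw [map_mul, ← e3]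
        calc (K x * K x')⁻¹ * K y * (K x * K x') * (K y)⁻¹
            = ((K x')⁻¹ * ((K x)⁻¹ * K y * K x * (K y)⁻¹) * K x') * ((K x')⁻¹ * K y * K x' * (K y)⁻¹) := by group
          _ = _ := by rw [e1, e2, mul_assoc (K x')⁻¹, ← e_central C X hKx'.1.1 m1, inv_mul_cancel_left]
      · obtain ⟨hKx, hKxt⟩ := hK x hx
        obtain ⟨m1, e1⟩ := hβ x hx x hx _ hKx _ hKx hKxt hKxt
        refine C.inj ?_
        rw [map_one, ← e1]; group
      · obtain ⟨hKx, hKxt⟩ := hK x hx
        obtain ⟨hKy, hKyt⟩ := hK y hy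
        obtain ⟨m1, e1⟩ := hβ x hx y hy _ hKx _ hKy hKxt hKyt
        obtain ⟨m2, e2⟩ := hβ _ ((Subgroup.mem_normalizer_iff.mp hn x).mp hx) _
          ((Subgroup.mem_normalizer_iff.mp hn y).mp hy) _ (hconj n hn _ hKx) _ (hconj n hn _ hKy)
          (by rw [(conj_mem_transSet C X hn hKx.1.1.1).2, hKxt])
          (by rw [(conj_mem_transSet C X hn hKy.1.1.1).2, hKyt])
        refine C.inj ?_
        rw [← C.e_conj, ← e1, ← e2]; group
    intro a ha b hb
    obtain ⟨-, e1⟩ := hβ _ (tau_mem C X a) _ (tau_mem C X b) a ha b hb rfl rfl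
    rw [hzero _ (tau_mem C X a) _ (tau_mem C X b), map_one, mul_inv_eq_one] at e1
    calc a * b = a * (a⁻¹ * b * a) := by rw [e1]
      _ = b * a := by group

end Cfsg.Lib.StdWreath
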