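import Cfsg.Agent.StdWreath.Transl

/-!
The invariant abelian group `W` over `X` with `[W, t] = X`: first the vanishing of the quadratic form given by
squaring, then the 2-part of the translations centralising `D`, then an invariant complement to `t`.
-/

set_option autoImplicit false
set_option linter.unusedSectionVars false

namespace Cfsg.Lib.StdWreath

universe u v

variable {G : Type u} {M : Type v} [Group G] [Group M] (C : Cfg G M) (X : Subgroup M)

/-- The part `e X · D` of the kernel. -/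
def EvenIn (g : G) : Prop := ∃ x ∈ X, ∃ d ∈ C.D, g = C.e x * d

open Classical in
/-- The exponent of `t` in a kernel element. -/
noncomputable def parity (g : G) : ZMod 2 := if EvenIn C X g then 0 else 1

theorem even_e {x : M} (hx : x ∈ X) : EvenIn C X (C.e x) := ⟨x, hx, 1, C.D.one_mem, (mul_one _).symm⟩

theorem even_mul {a b : G} (ha : EvenIn C X a) (hb : EvenIn C X b) : EvenIn C X (a * b) := by
  obtain ⟨x, hx, d, hd, rfl⟩ := ha
  obtain ⟨y, hy, d', hd', rfl⟩ := hb
  refine ⟨x * y, X.mul_mem hx hy, d * d', C.D.mul_mem hd hd', ?_⟩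
  rw [map_mul, mul_assoc, ← mul_assoc d, C.D_comm d hd]
  group

theorem even_inv {a : G} (ha : EvenIn C X a) : EvenIn C X a⁻¹ := by
  obtain ⟨x, hx, d, hd, rfl⟩ := ha
  refine ⟨x⁻¹, X.inv_mem hx, d⁻¹, C.D.inv_mem hd, ?_⟩
  rw [← C.D_comm d⁻¹ (C.D.inv_mem hd), mul_inv_rev, map_inv]

variable [Finite G]

theorem even_central {a g : G} (ha : EvenIn C X a) (hg : g ∈ transD C X) : g * a = a * g := by
  obtain ⟨x, hx, d, hd, rfl⟩ := ha
  calc g * (C.e x * d) = g * C.e x * d := (mul_assoc _ _ _).symm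
    _ = C.e x * (g * d) := by rw [hg.1 |>.1 x hx, mul_assoc]
    _ = C.e x * d * g := by rw [transD_comm C X hg hd, ← mul_assoc]

theorem even_tau {a : G} (hX : Cfsg.IsElementaryAbelian 2 X) (ha : EvenIn C X a) : tau C X a = 1 := by
  obtain ⟨x, hx, d, hd, rfl⟩ := ha
  rw [tau_mul C X (e_mem_transSet C X hX hx) (D_mem_transSet C X hd), tau_e C X hX hx, one_mul]
  exact tau_eq C X (D_mem_transSet C X hd) (by rw [map_one, mul_one, C.D_t d hd, mul_inv_cancel_right])

theorem not_even_t (h : TCtx C X) : ¬ EvenIn C X C.t := by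
  rintro ⟨x, hx, d, hd, ht⟩
  have h1 : d * d = 1 := by
    have := C.t_sq
    rw [ht, mul_assoc, ← mul_assoc d, C.D_comm d hd, mul_assoc, ← mul_assoc, ← map_mul, h.mul_self hx, map_one,
      one_mul] at this
    exact this
  rw [C.D_sq_eq_one hd h1, mul_one] at ht
  exact C.t_not x ht.symm

theorem even_or (h : TCtx C X) {g : G} (hg : g ∈ transD C X) (ht : tau C X g = 1) :
    EvenIn C X g ∨ EvenIn C X (g * C.t) := by
  obtain ⟨x, hx, d, hd, hc | hc⟩ := cent_of_tau_one C X h hg.1 ht
  · exact Or.inl ⟨x, hx, d, hd, hc⟩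
  · refine Or.inr ⟨x, hx, d, hd, ?_⟩
    rw [hc, mul_assoc _ d, C.D_t d hd, mul_assoc, ← mul_assoc C.t, C.t_sq, one_mul]

theorem not_even_mul_t (h : TCtx C X) {g : G} (hg : EvenIn C X g) : ¬ EvenIn C X (g * C.t) := fun h2 =>
  not_even_t C X h (by simpa using even_mul C X (even_inv C X hg) h2)

theorem parity_mul (h : TCtx C X) {a b : G} (ha : a ∈ transD C X) (hb : b ∈ transD C X)
    (hta : tau C X a = 1) (htb : tau C X b = 1) : parity C X (a * b) = parity C X a + parity C X b := by
  have hT := t_mem_transD C X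
  have hbt : b * C.t = C.t * b := by
    have h2 := tau_spec C X hb.1
    rw [htb, map_one, mul_one] at h2
    exact mul_inv_eq_iff_eq_mul.mp h2
  unfold parity
  by_cases h1 : EvenIn C X a <;> by_cases h2 : EvenIn C X b
  · rw [if_pos h1, if_pos h2, if_pos (even_mul C X h1 h2), add_zero]
  · have h3 := (even_or C X h hb htb).resolve_left h2
    have h4 : ¬ EvenIn C X (a * b) := fun h5 => h2 (by simpa using even_mul C X (even_inv C X h1) h5)
    rw [if_pos h1, if_neg h2, if_neg h4, zero_add]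
  · have h4 : ¬ EvenIn C X (a * b) := fun h5 => h1 (by simpa using even_mul C X h5 (even_inv C X h2))
    rw [if_neg h1, if_pos h2, if_neg h4, add_zero]
  · have h3 := (even_or C X h ha hta).resolve_left h1
    have h5 := (even_or C X h hb htb).resolve_left h2
    have h6 : EvenIn C X (a * b) := by
      have := even_mul C X h3 h5
      rwa [hbt, mul_assoc, ← mul_assoc C.t, C.t_sq, one_mul] at this
    rw [if_neg h1, if_neg h2, if_pos h6]
    rfl

theorem parity_conj (h : TCtx C X) {a g : G} (ha : a ∈ transD C X) (hta : tau C X a = 1) (hg : g ∈ transD C X) :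
    parity C X (g * a * g⁻¹) = parity C X a := by
  unfold parity
  rcases even_or C X h ha hta with h1 | h1
  · rw [even_central C X h1 hg, mul_inv_cancel_right]
  · have h2 : ¬ EvenIn C X a := fun h0 => not_even_mul_t C X h h0 h1
    have h3 : EvenIn C X (g * a * g⁻¹ * C.t) := by
      have he : g * a * g⁻¹ * C.t = (g * (a * C.t) * g⁻¹) * (g * C.t * g⁻¹ * C.t) := by
        have ht2 : (C.t : G) * C.t = 1 := C.t_sq
        calc g * a * g⁻¹ * C.t = g * a * (C.t * C.t) * g⁻¹ * C.t := by rw [ht2, mul_one]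
          _ = _ := by group
      have ht3 : ∀ x, C.t * C.e x * C.t = C.e x := fun x => by rw [C.t_comm, mul_assoc, C.t_sq, mul_one]
      rw [he, even_central C X h1 hg, mul_inv_cancel_right, tau_spec C X hg.1, ht3]
      exact even_mul C X h1 (even_e C X (tau_mem C X g))
    have h4 : ¬ EvenIn C X (g * a * g⁻¹) := fun h0 => not_even_mul_t C X h h0 h3
    rw [if_neg h2, if_neg h4]

/-- The commutator parity. -/
noncomputable def kappa (g k : G) : ZMod 2 := parity C X (g⁻¹ * k * g * k⁻¹)

theorem comm_mem {g k : G} (hg : g ∈ transD C X) (hk : k ∈ transD C X) :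
    g⁻¹ * k * g * k⁻¹ ∈ transD C X :=
  (transD C X).mul_mem ((transD C X).mul_mem ((transD C X).mul_mem ((transD C X).inv_mem hg) hk) hg)
    ((transD C X).inv_mem hk)

theorem tau_comm (h : TCtx C X) {g k : G} (hg : g ∈ transD C X) (hk : k ∈ transD C X) :
    tau C X (g⁻¹ * k * g * k⁻¹) = 1 := by
  have hg' := (transSet C X).inv_mem hg.1
  rw [tau_mul C X ((transSet C X).mul_mem ((transSet C X).mul_mem hg' hk.1) hg.1) ((transSet C X).inv_mem hk.1),
    tau_mul C X ((transSet C X).mul_mem hg' hk.1) hg.1, tau_mul C X hg' hk.1, tau_inv C X hg.1, tau_inv C X hk.1,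
    mul_assoc (tau C X g)⁻¹, h.mul_comm (tau_mem C X k) (tau_mem C X g)]
  group

theorem tau_sq (h : TCtx C X) {g : G} (hg : g ∈ transD C X) : tau C X (g * g) = 1 := by
  rw [tau_mul C X hg.1 hg.1, h.mul_self (tau_mem C X g)]

theorem parity_sq_mul (h : TCtx C X) {g k : G} (hg : g ∈ transD C X) (hk : k ∈ transD C X) :
    parity C X (g * k * (g * k)) = parity C X (g * g) + parity C X (k * k) + kappa C X g k := by
  have hgg := (transD C X).mul_mem hg hg
  have hkk := (transD C X).mul_mem hk hk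
  have hc := comm_mem C X hg hk
  have htc := tau_comm C X h hg hk
  have he : g * k * (g * k) = (g * g) * (g⁻¹ * k * g * k⁻¹) * (k * k) := by group
  rw [he, parity_mul C X h ((transD C X).mul_mem hgg hc) hkk
      (by rw [tau_mul C X hgg.1 hc.1, tau_sq C X h hg, htc, one_mul]) (tau_sq C X h hk),
    parity_mul C X h hgg hc (tau_sq C X h hg) htc]
  unfold kappa
  abel

theorem kappa_mul_right (h : TCtx C X) {g k k' : G} (hg : g ∈ transD C X) (hk : k ∈ transD C X)
    (hk' : k' ∈ transD C X) : kappa C X g (k * k') = kappa C X g k + kappa C X g k' := by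
  unfold kappa
  have he : g⁻¹ * (k * k') * g * (k * k')⁻¹ = (g⁻¹ * k * g * k⁻¹) * (k * (g⁻¹ * k' * g * k'⁻¹) * k⁻¹) := by group
  have hc' := comm_mem C X hg hk'
  have hm : k * (g⁻¹ * k' * g * k'⁻¹) * k⁻¹ ∈ transD C X :=
    (transD C X).mul_mem ((transD C X).mul_mem hk hc') ((transD C X).inv_mem hk)
  have htm : tau C X (k * (g⁻¹ * k' * g * k'⁻¹) * k⁻¹) = 1 := by
    rw [tau_mul C X ((transSet C X).mul_mem hk.1 hc'.1) ((transSet C X).inv_mem hk.1), tau_mul C X hk.1 hc'.1,
      tau_comm C X h hg hk', mul_one, tau_inv C X hk.1, mul_inv_cancel]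
  rw [he, parity_mul C X h (comm_mem C X hg hk) hm (tau_comm C X h hg hk) htm,
    parity_conj C X h hc' (tau_comm C X h hg hk') hk]

theorem kappa_mul_left (h : TCtx C X) {g g' k : G} (hg : g ∈ transD C X) (hg' : g' ∈ transD C X)
    (hk : k ∈ transD C X) : kappa C X (g * g') k = kappa C X g k + kappa C X g' k := by
  unfold kappa
  have he : (g * g')⁻¹ * k * (g * g') * k⁻¹ =
      (g'⁻¹ * (g⁻¹ * k * g * k⁻¹) * g'⁻¹⁻¹) * (g'⁻¹ * k * g' * k⁻¹) := by group
  have hc := comm_mem C X hg hk
  have hg'i := (transD C X).inv_mem hg'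
  have hm : g'⁻¹ * (g⁻¹ * k * g * k⁻¹) * g'⁻¹⁻¹ ∈ transD C X :=
    (transD C X).mul_mem ((transD C X).mul_mem hg'i hc) ((transD C X).inv_mem hg'i)
  have htm : tau C X (g'⁻¹ * (g⁻¹ * k * g * k⁻¹) * g'⁻¹⁻¹) = 1 := by
    rw [tau_mul C X ((transSet C X).mul_mem hg'i.1 hc.1) ((transSet C X).inv_mem hg'i.1), tau_mul C X hg'i.1 hc.1,
      tau_comm C X h hg hk, mul_one, tau_inv C X hg'i.1, mul_inv_cancel]
  rw [he, parity_mul C X h hm (comm_mem C X hg' hk) htm (tau_comm C X h hg' hk),
    parity_conj C X h hc (tau_comm C X h hg hk) hg'i]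

/-- Squares of translations centralising `D` have no `t`-component. -/
theorem even_sq (h : TCtx C X) {g : G} (hg : g ∈ transD C X) : EvenIn C X (g * g) := by
  classical
  let L : M → G := fun x => if hx : x ∈ X then (exists_transD C X h hx).choose else 1
  have hL : ∀ x ∈ X, L x ∈ transD C X ∧ tau C X (L x) = x := fun x hx => by
    simp only [L, dif_pos hx]; exact (exists_transD C X h hx).choose_spec
  let q : M → ZMod 2 := fun x => parity C X (L x * L x)
  have hind : ∀ k ∈ transD C X, parity C X (k * k) = q (tau C X k) := fun k hk => by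
    have hx := tau_mem C X k
    obtain ⟨hl, hlt⟩ := hL _ hx
    set l := L (tau C X k)
    have hkm : l⁻¹ * k ∈ transD C X := (transD C X).mul_mem ((transD C X).inv_mem hl) hk
    have hkt : tau C X (l⁻¹ * k) = 1 := by
      rw [tau_mul C X ((transSet C X).inv_mem hl.1) hk.1, tau_inv C X hl.1, hlt, inv_mul_cancel]
    have hkm' : (l⁻¹ * k) ∈ transD C X := hkm
    have hc : kappa C X l (l⁻¹ * k) = 0 := by
      unfold kappa
      have hcj : l⁻¹ * (l⁻¹ * k) * l⁻¹⁻¹ ∈ transD C X :=
        (transD C X).mul_mem ((transD C X).mul_mem ((transD C X).inv_mem hl) hkm)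
          ((transD C X).inv_mem ((transD C X).inv_mem hl))
      have htj : tau C X (l⁻¹ * (l⁻¹ * k) * l⁻¹⁻¹) = 1 := by
        rw [tau_mul C X ((transSet C X).mul_mem ((transSet C X).inv_mem hl.1) hkm.1)
            ((transSet C X).inv_mem ((transSet C X).inv_mem hl.1)),
          tau_mul C X ((transSet C X).inv_mem hl.1) hkm.1, hkt, mul_one,
          tau_inv C X ((transSet C X).inv_mem hl.1), mul_inv_cancel]
      have he : l⁻¹ * (l⁻¹ * k) * l * (l⁻¹ * k)⁻¹ = (l⁻¹ * (l⁻¹ * k) * l⁻¹⁻¹) * (l⁻¹ * k)⁻¹ := by group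
      have hki : parity C X (l⁻¹ * k)⁻¹ = parity C X (l⁻¹ * k) := by
        have h0 := parity_mul C X h hkm ((transD C X).inv_mem hkm) hkt
          (by rw [tau_inv C X hkm.1, hkt, inv_one])
        rw [mul_inv_cancel] at h0
        have h1 : parity C X (1 : G) = 0 := by
          unfold parity; rw [if_pos]; simpa using even_e C X X.one_mem
        rw [h1] at h0
        exact (show ∀ a b : ZMod 2, 0 = a + b → b = a by decide) _ _ h0
      rw [he, parity_mul C X h hcj ((transD C X).inv_mem hkm) htj (by rw [tau_inv C X hkm.1, hkt, inv_one]),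
        parity_conj C X h hkm hkt ((transD C X).inv_mem hl), hki]
      exact CharTwo.add_self_eq_zero _
    have := parity_sq_mul C X h hl hkm
    rw [mul_inv_cancel_left, hc, add_zero] at this
    rw [this, parity_mul C X h hkm hkm hkt hkt, CharTwo.add_self_eq_zero, add_zero]
  have hq : ∀ x ∈ X, q x = 0 := by
    refine h.quad q (fun n hn x hx => ?_) ?_ (fun x hx y hy w hw => ?_)
    · obtain ⟨hl, hlt⟩ := hL x hx
      have := hind _ (conj_mem_transD C X hn hl)
      rw [(conj_mem_transSet C X hn hl.1).2, hlt] at this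
      rw [← this]
      have he : C.e n * L x * (C.e n)⁻¹ * (C.e n * L x * (C.e n)⁻¹) = C.e n * (L x * L x) * (C.e n)⁻¹ := by group
      rw [he]
      unfold parity q
      congr 1
      apply propext
      constructor
      · rintro ⟨y, hy, d, hd, hE⟩
        refine ⟨n⁻¹ * y * n, (Subgroup.mem_normalizer_iff''.mp hn y).mp hy, d, hd, ?_⟩
        calc L x * L x = (C.e n)⁻¹ * (C.e n * (L x * L x) * (C.e n)⁻¹) * C.e n := by group
          _ = (C.e n)⁻¹ * C.e y * (d * C.e n) := by rw [hE]; group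
          _ = (C.e n)⁻¹ * C.e y * C.e n * d := by rw [C.D_comm d hd]; group
          _ = _ := by rw [map_mul, map_mul, map_inv]
      · rintro ⟨y, hy, d, hd, hE⟩
        refine ⟨n * y * n⁻¹, (Subgroup.mem_normalizer_iff.mp hn y).mp hy, d, hd, ?_⟩
        rw [hE, ← C.e_conj]
        calc C.e n * (C.e y * d) * (C.e n)⁻¹ = C.e n * C.e y * (d * C.e n⁻¹) := by rw [map_inv]; group
          _ = _ := by rw [C.D_comm d hd, map_inv]; group
    · have h0 := hind 1 (transD C X).one_mem
      rw [tau_one] at h0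
      rw [← h0, mul_one]
      unfold parity
      rw [if_pos]
      simpa using even_e C X X.one_mem
    · obtain ⟨ha, hat⟩ := hL x hx
      obtain ⟨hb, hbt⟩ := hL y hy
      obtain ⟨hc, hct⟩ := hL w hw
      set a := L x
      set b := L y
      set c := L w
      have hab := (transD C X).mul_mem ha hb
      have t1 : q (x * y * w) = parity C X (a * b * c * (a * b * c)) := by
        rw [hind _ ((transD C X).mul_mem hab hc), tau_mul C X hab.1 hc.1, tau_mul C X ha.1 hb.1, hat, hbt, hct]
      have t2 : q (x * y) = parity C X (a * b * (a * b)) := by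
        rw [hind _ hab, tau_mul C X ha.1 hb.1, hat, hbt]
      have t3 : q (x * w) = parity C X (a * c * (a * c)) := by
        rw [hind _ ((transD C X).mul_mem ha hc), tau_mul C X ha.1 hc.1, hat, hct]
      have t4 : q (y * w) = parity C X (b * c * (b * c)) := by
        rw [hind _ ((transD C X).mul_mem hb hc), tau_mul C X hb.1 hc.1, hbt, hct]
      rw [t1, t2, t3, t4, parity_sq_mul C X h hab hc, parity_sq_mul C X h ha hb, parity_sq_mul C X h ha hc,
        parity_sq_mul C X h hb hc, kappa_mul_left C X h ha hb hc]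
      show _ + parity C X (a * a) + parity C X (b * b) + parity C X (c * c) = 0
      ring_nf
      simp [show (4 : ZMod 2) = 0 from rfl, show (2 : ZMod 2) = 0 from rfl]
  have h0 := hind g hg
  rw [hq _ (tau_mem C X g)] at h0
  by_contra hne
  unfold parity at h0
  rw [if_neg hne] at h0
  exact one_ne_zero h0

theorem even_comm (h : TCtx C X) {g k : G} (hg : g ∈ transD C X) (hk : k ∈ transD C X) :
    EvenIn C X (g⁻¹ * k * g * k⁻¹) := by
  have h1 := even_mul C X (even_mul C X (even_inv C X (even_sq C X h hg))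
    (even_sq C X h ((transD C X).mul_mem hg hk))) (even_inv C X (even_sq C X h hk))
  have he : (g * g)⁻¹ * (g * k * (g * k)) * (k * k)⁻¹ = g⁻¹ * k * g * k⁻¹ := by group
  rwa [he] at h1

/-- Commutators of translations centralising `D` lie in the image of `X`. -/
theorem comm_eq_e (h : TCtx C X) {g k : G} (hg : g ∈ transD C X) (hk : k ∈ transD C X) :
    ∃ x ∈ X, g⁻¹ * k * g * k⁻¹ = C.e x := by
  have hev := even_comm C X h hg hk
  set c := g⁻¹ * k * g * k⁻¹ with hc
  have h1 : k * g * k⁻¹ = g * c := by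
    show k * g * k⁻¹ = g * (g⁻¹ * k * g * k⁻¹)
    rw [← mul_assoc, ← mul_assoc, ← mul_assoc, mul_inv_cancel, one_mul]
  have h2 : k * c * k⁻¹ = c := by rw [even_central C X hev hk, mul_inv_cancel_right]
  have h3 : k * k * g * (k * k)⁻¹ = g * (c * c) := by
    calc k * k * g * (k * k)⁻¹ = k * (k * g * k⁻¹) * k⁻¹ := by group
      _ = k * (g * c) * k⁻¹ := by rw [h1]
      _ = (k * g * k⁻¹) * (k * c * k⁻¹) := by group
      _ = g * (c * c) := by rw [h1, h2, mul_assoc]
  have h4 : k * k * g * (k * k)⁻¹ = g := by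
    rw [← even_central C X (even_sq C X h hk) hg, mul_inv_cancel_right]
  have h5 : c * c = 1 := mul_eq_left.mp (h3.symm.trans h4)
  obtain ⟨x, hx, d, hd, he⟩ := hev
  refine ⟨x, hx, ?_⟩
  rw [he] at h5 ⊢
  rw [mul_assoc, ← mul_assoc d, C.D_comm d hd, mul_assoc, ← mul_assoc, ← map_mul, h.mul_self hx, map_one,
    one_mul] at h5
  rw [C.D_sq_eq_one hd h5, mul_one]

theorem e_central {g : G} (hg : g ∈ transD C X) {x : M} (hx : x ∈ X) : g * C.e x = C.e x * g := hg.1.1 x hx

/-- The elements with square in the image of `X`. -/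
def TwoPart (g : G) : Prop := g ∈ transD C X ∧ ∃ x ∈ X, g * g = C.e x

/-- The 2-part of the translations centralising `D`. -/
def transTwo (h : TCtx C X) : Subgroup G where
  carrier := {g | TwoPart C X g}
  one_mem' := ⟨(transD C X).one_mem, 1, X.one_mem, by simp⟩
  mul_mem' := by
    rintro g k ⟨hg, x, hx, hgx⟩ ⟨hk, y, hy, hky⟩
    obtain ⟨w, hw, hc⟩ := comm_eq_e C X h hg hk
    refine ⟨(transD C X).mul_mem hg hk, x * w * y, X.mul_mem (X.mul_mem hx hw) hy, ?_⟩
    rw [map_mul, map_mul, ← hgx, ← hky, ← hc]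
    group
  inv_mem' := by
    rintro g ⟨hg, x, hx, hgx⟩
    exact ⟨(transD C X).inv_mem hg, x⁻¹, X.inv_mem hx, by rw [map_inv, ← hgx, mul_inv_rev]⟩

theorem mem_transTwo (h : TCtx C X) {g : G} :
    g ∈ transTwo C X h ↔ g ∈ transD C X ∧ ∃ x ∈ X, g * g = C.e x := Iff.rfl

theorem exists_transTwo (h : TCtx C X) {x : M} (hx : x ∈ X) : ∃ g ∈ transTwo C X h, tau C X g = x := by
  obtain ⟨g, hg, hgt⟩ := exists_transD C X h hx
  obtain ⟨y, hy, d, hd, hsq⟩ := even_sq C X h hg
  obtain ⟨k, hk⟩ := C.D_odd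
  have hdk : d ^ k ∈ C.D := pow_mem hd k
  have hdc : d ^ k ∈ transD C X := by
    refine ⟨D_mem_transSet C X hdk, Subgroup.mem_centralizer_iff.mpr fun d' hd' => ?_⟩
    have h1 : g * g * d' = d' * (g * g) := by
      rw [mul_assoc, transD_comm C X hg hd', ← mul_assoc, transD_comm C X hg hd', mul_assoc]
    rw [hsq] at h1
    have h2 : d * d' = d' * d := by
      have h3 : C.e y * (d * d') = C.e y * (d' * d) := by
        rw [← mul_assoc, h1, ← mul_assoc, C.D_comm d' hd', mul_assoc]
      exact mul_left_cancel h3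
    exact ((Commute.pow_left h2 k).eq).symm
  refine ⟨g * d ^ k, ⟨(transD C X).mul_mem hg hdc, y, hy, ?_⟩, ?_⟩
  · have hc : g * d ^ k = d ^ k * g := transD_comm C X hg hdk
    have hN : d ^ (2 * k + 1) = 1 := by
      have h0 : (⟨d, hd⟩ : C.D) ^ Nat.card C.D = 1 := pow_card_eq_one'
      rw [← hk]
      exact congrArg Subtype.val h0
    calc g * d ^ k * (g * d ^ k) = g * (d ^ k * g) * d ^ k := by group
      _ = g * g * (d ^ k * d ^ k) := by rw [← hc]; group
      _ = C.e y * (d * (d ^ k * d ^ k)) := by rw [hsq, mul_assoc]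
      _ = C.e y := by rw [← pow_add, ← pow_succ', ← two_mul, hN, mul_one]
  · rw [tau_mul C X hg.1 hdc.1, hgt,
      tau_eq C X hdc.1 (x := 1) (by rw [map_one, mul_one, C.D_t _ hdk, mul_inv_cancel_right]), mul_one]

end Cfsg.Lib.StdWreath
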