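import Cfsg.Agent.StdWreath.Pair

/-!
The twisted action is realised inside the normaliser of the doubled module over `U`, which is impossible; so the two
doubled modules give a direct product.
-/

set_option autoImplicit false
set_option linter.unusedSectionVars false

namespace Cfsg.Lib.StdWreath

universe u v

variable {G : Type u} {M : Type v} [Group G] [Group M] {C : Cfg G M} {V U S : Subgroup M} {z : M}

namespace Dbl

variable {X : Subgroup M} (B : Dbl C X) (hX : Cfsg.IsElementaryAbelian 2 X)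

/-- The element with the given two coordinates; `t` exchanges them. -/
def pt (p : M × M) : G := B.s (p.1 * p.2) * C.e p.2

include hX in
theorem pt_mem {p : M × M} (h1 : p.1 ∈ X) (h2 : p.2 ∈ X) : B.pt p ∈ B.W hX :=
  ⟨_, X.mul_mem h1 h2, _, h2, rfl⟩

theorem pt_diag {y : M} (hX : Cfsg.IsElementaryAbelian 2 X) (hy : y ∈ X) : B.pt (y, y) = C.e y := by
  rw [pt, ← pow_two, hX.2 y hy, B.s_one, one_mul]

include hX in
theorem t_pt {y w : M} (hy : y ∈ X) (hw : w ∈ X) : C.t * B.pt (y, w) * C.t = B.pt (w, y) := by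
  have hyw : w * y = y * w := elem_comm hX hw hy
  rw [pt, pt, B.t_flip_mk (X.mul_mem hy hw), map_mul C.e y w]
  show _ = B.s (w * y) * C.e y
  rw [hyw, mul_assoc _ (C.e y * C.e w), mul_assoc (C.e y), sq_e hX hw, mul_one]

include hX in
theorem exists_pt {g : G} (hg : g ∈ B.W hX) : ∃ y ∈ X, ∃ w ∈ X, g = B.pt (y, w) := by
  obtain ⟨a, ha, c, hc, rfl⟩ := hg
  refine ⟨a * c, X.mul_mem ha hc, c, hc, ?_⟩
  show _ = B.s (a * c * c) * C.e c
  rw [mul_assoc a c, ← pow_two, hX.2 c hc, mul_one]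

end Dbl

namespace Link

variable [Finite M] [Finite G] (K : Link C V U) (F : Frame V U S z)
include F

theorem conj_pt_sV (htw : ∀ x ∈ V, ∀ u ∈ U, K.br x u = K.BV.s (comm x u) * C.e (comm x u)) {x y w : M}
    (hx : x ∈ V) (hy : y ∈ U) (hw : w ∈ U) :
    K.BV.s x * K.BU.pt (y, w) * K.BV.s x = K.BU.pt (y * comm x w, w * (comm x y * comm x w)) := by
  have hny := comm_mem F hx hy
  have hnw := comm_mem F hx hw
  set a := comm x y with ha
  set c := comm x w with hc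
  have hyw := U.mul_mem hy hw
  have h1 : K.BV.s x * K.BU.s (y * w) * K.BV.s x = K.BV.s (a * c) * C.e (a * c) * K.BU.s (y * w) := by
    rw [ha, hc, ← comm_mul F hx hy hw, ← htw x hx _ hyw, br, mul_assoc _ (K.BU.s (y * w)) (K.BU.s (y * w)),
      K.BU.sq _ hyw, mul_one]
  have hac : a * c ∈ U := U.mul_mem hny.1 hnw.1
  have hcc : c * c = 1 := by rw [← pow_two]; exact F.elemU.2 c hnw.1
  calc K.BV.s x * K.BU.pt (y, w) * K.BV.s x
      = K.BV.s x * K.BU.s (y * w) * (K.BV.s x * K.BV.s x) * C.e w * K.BV.s x := by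
        rw [K.BV.sq x hx, Dbl.pt]; group
    _ = (K.BV.s x * K.BU.s (y * w) * K.BV.s x) * (K.BV.s x * C.e w * K.BV.s x) := by group
    _ = K.BV.s (a * c) * C.e (a * c) * K.BU.s (y * w) * (C.e w * K.BV.s c) := by rw [h1, K.sV_e_sV F hx hw]
    _ = K.BV.s (a * c) * (C.e (a * c) * K.BU.s (y * w)) * (K.BV.s c * C.e w) := by
        rw [K.s_L_e_U F hnw hw]; group
    _ = K.BU.s (a * c) * (K.BU.s (y * w) * C.e (a * c)) * (K.BU.s c * C.e w) := by
        rw [K.BU.X_comm _ hyw _ hac, K.link _ ((U ⊓ V).mul_mem hny hnw), K.link c hnw]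
    _ = (K.BU.s (a * c) * K.BU.s (y * w)) * (C.e (a * c) * K.BU.s c) * C.e w := by group
    _ = (K.BU.s (a * c) * K.BU.s (y * w) * K.BU.s c) * (C.e (a * c) * C.e w) := by
        rw [← K.BU.X_comm c hnw.1 _ hac]; group
    _ = K.BU.s (y * w * a) * C.e (w * (a * c)) := by
        rw [← K.BU.add _ hac _ hyw, ← K.BU.add _ (U.mul_mem hac hyw) _ hnw.1, ← map_mul,
          elem_comm F.elemU hac hw]
        congr 2
        rw [elem_comm F.elemU hac hyw, mul_assoc, mul_assoc a c c, hcc, mul_one]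
    _ = K.BU.s ((y * c) * (w * (a * c))) * C.e (w * (a * c)) := by
        congr 2
        calc y * w * a = y * (w * a) * (c * c) := by rw [hcc, mul_one]; group
          _ = y * ((w * a) * c) * c := by group
          _ = y * (c * (w * a)) * c := by rw [elem_comm F.elemU (U.mul_mem hw hny.1) hnw.1]
          _ = _ := by group
    _ = _ := rfl

theorem exists_real (htw : ∀ x ∈ V, ∀ u ∈ U, K.br x u = K.BV.s (comm x u) * C.e (comm x u))
    {f : M × M → M × M} (hf : TwistWord V U f) :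
    (∀ y ∈ U, ∀ w ∈ U, (f (y, w)).1 ∈ U ∧ (f (y, w)).2 ∈ U) ∧
      ∃ g : G, ∀ y ∈ U, ∀ w ∈ U, g * K.BU.pt (y, w) * g⁻¹ = K.BU.pt (f (y, w)) := by
  induction hf with
  | id => exact ⟨fun y hy w hw => ⟨hy, hw⟩, 1, fun y _ w _ => by rw [one_mul, inv_one, mul_one]⟩
  | diag g hg f _ ih =>
    obtain ⟨hm, k, hk⟩ := ih
    have hN : ∀ {p : M}, p ∈ U → g * p * g⁻¹ ∈ U := fun {p} hp => (Subgroup.mem_normalizer_iff.mp hg p).mp hp
    refine ⟨fun y hy w hw => ⟨hN (hm y hy w hw).1, hN (hm y hy w hw).2⟩, C.e g * k, fun y hy w hw => ?_⟩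
    obtain ⟨h1, h2⟩ := hm y hy w hw
    calc C.e g * k * K.BU.pt (y, w) * (C.e g * k)⁻¹ = C.e g * (k * K.BU.pt (y, w) * k⁻¹) * (C.e g)⁻¹ := by group
      _ = C.e g * K.BU.s ((f (y, w)).1 * (f (y, w)).2) * (C.e g)⁻¹ *
            (C.e g * C.e (f (y, w)).2 * (C.e g)⁻¹) := by rw [hk y hy w hw, Dbl.pt]; group
      _ = _ := by
        rw [K.BU.equiv g hg _ (U.mul_mem h1 h2), C.e_conj, Dbl.pt]
        congr 2
        group
  | twist x hx f _ ih =>
    obtain ⟨hm, k, hk⟩ := ih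
    refine ⟨fun y hy w hw => ?_, K.BV.s x * k, fun y hy w hw => ?_⟩
    · obtain ⟨h1, h2⟩ := hm y hy w hw
      exact ⟨U.mul_mem h1 (comm_mem F hx h2).1,
        U.mul_mem h2 (U.mul_mem (comm_mem F hx h1).1 (comm_mem F hx h2).1)⟩
    · obtain ⟨h1, h2⟩ := hm y hy w hw
      rw [← K.conj_pt_sV F htw hx h1 h2, Prod.mk.eta, ← hk y hy w hw, mul_inv_rev, K.BV.s_inv hx]
      group

variable (E : LocExact C V U)
include E

/-- The two modules give a direct product. -/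
theorem isProd (hU : TCtx C U) : K.IsProd := by
  refine (K.prod_or_twisted F E).resolve_right fun htw => ?_
  obtain ⟨f, hf, hswap, hnot⟩ := F.twist
  obtain ⟨hfU, g, hg⟩ := K.exists_real F htw hf
  set W := K.BU.W hU.elem with hW
  have hinto : ∀ w ∈ W, g * w * g⁻¹ ∈ W := by
    intro w hw
    obtain ⟨p, hp, q, hq, rfl⟩ := K.BU.exists_pt hU.elem hw
    rw [hg p hp q hq]
    exact K.BU.pt_mem hU.elem (hfU p hp q hq).1 (hfU p hp q hq).2
  have honto : ∀ w ∈ W, ∃ p ∈ U, ∃ q ∈ U, w = g * K.BU.pt (p, q) * g⁻¹ := by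
    intro w hw
    obtain ⟨v, hv⟩ := Finite.surjective_of_injective (f := fun v : W => (⟨g * v * g⁻¹, hinto v v.2⟩ : W))
      (fun a c h => Subtype.ext (mul_left_cancel (mul_right_cancel (congrArg Subtype.val h)))) ⟨w, hw⟩
    obtain ⟨p, hp, q, hq, hpq⟩ := K.BU.exists_pt hU.elem v.2
    exact ⟨p, hp, q, hq, by rw [← hpq]; exact (congrArg Subtype.val hv).symm⟩
  set k := g * C.t * g⁻¹ * C.t with hk
  have hkW : ∀ w ∈ W, k * w = w * k := by
    intro w hw
    obtain ⟨p, hp, q, hq, hwpq⟩ := honto w hw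
    have h1 : C.t * w * C.t = g * K.BU.pt (q, p) * g⁻¹ := by
      rw [hwpq, hg p hp q hq, hg q hq p hp, hswap p hp q hq]
      exact K.BU.t_pt hU.elem (hfU p hp q hq).1 (hfU p hp q hq).2
    have h2 : g * C.t * g⁻¹ * (C.t * w * C.t) * (g * C.t * g⁻¹) = w := by
      rw [h1, hwpq]
      calc g * C.t * g⁻¹ * (g * K.BU.pt (q, p) * g⁻¹) * (g * C.t * g⁻¹)
          = g * (C.t * K.BU.pt (q, p) * C.t) * g⁻¹ := by group
        _ = _ := by rw [K.BU.t_pt hU.elem hq hp]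
    have hk1 : C.t * (g * C.t * g⁻¹) * k = 1 := by
      calc C.t * (g * C.t * g⁻¹) * k = C.t * (g * (C.t * C.t) * g⁻¹) * C.t := by rw [hk]; group
        _ = 1 := by rw [C.t_sq, mul_one, mul_inv_cancel, mul_one, C.t_sq]
    calc k * w = k * w * (C.t * (g * C.t * g⁻¹) * k) := by rw [hk1, mul_one]
      _ = g * C.t * g⁻¹ * (C.t * w * C.t) * (g * C.t * g⁻¹) * k := by rw [hk]; group
      _ = _ := by rw [h2]
  have hflip : C.t * k * C.t⁻¹ = k⁻¹ := by
    refine eq_inv_of_mul_eq_one_left ?_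
    calc C.t * k * C.t⁻¹ * k = C.t * g * C.t * g⁻¹ * (C.t * C.t⁻¹) * g * C.t * g⁻¹ * C.t := by rw [hk]; group
      _ = C.t * (g * (C.t * C.t) * g⁻¹) * C.t := by group
      _ = 1 := by rw [C.t_sq, mul_one, mul_inv_cancel, mul_one, C.t_sq]
  obtain ⟨a, m, hm, hN⟩ := Nat.exists_eq_two_pow_mul_odd (orderOf_pos k).ne'
  have hpow : (k ^ m) ^ 2 ^ a = 1 := by rw [← pow_mul, mul_comm, ← hN, pow_orderOf_eq_one]
  obtain ⟨α, hα, β, hβ, hkm⟩ :=
    K.BU.mem_W_of_centralizes hU hpow (fun w hw => (show Commute k w from hkW w hw).pow_left m)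
  have hα1 : α = 1 := by
    have h1 : C.t * k ^ m * C.t = (k ^ m)⁻¹ := by
      have h : (C.t * k * C.t⁻¹) ^ m = C.t * k ^ m * C.t⁻¹ := conj_pow
      rw [hflip, inv_pow, C.t_inv] at h
      exact h.symm
    rw [hkm, K.BU.t_flip_mk hα, mul_inv_rev, K.BU.s_inv hα, inv_eq_of_mul_eq_one_right (Dbl.sq_e hU.elem hβ),
      ← K.BU.X_comm α hα β hβ, mul_assoc] at h1
    exact C.inj (by rw [map_one]; exact mul_eq_right.mp (mul_left_cancel h1))
  rw [hα1, K.BU.s_one, one_mul] at hkm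
  obtain ⟨j, hj⟩ := hm
  set r := k ^ (j + 1) with hr
  have hrW : ∀ w ∈ W, r * w = w * r := fun w hw => (show Commute k w from hkW w hw).pow_left _
  have hrt : r * C.t * r⁻¹ = C.e β * (g * C.t * g⁻¹) := by
    have h1 : C.t * r⁻¹ = r * C.t := by
      have h : (C.t * k * C.t⁻¹) ^ (j + 1) = C.t * k ^ (j + 1) * C.t⁻¹ := conj_pow
      rw [hflip, inv_pow] at h
      rw [hr, h]
      calc C.t * (C.t * k ^ (j + 1) * C.t⁻¹) = (C.t * C.t) * k ^ (j + 1) * C.t⁻¹ := by group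
        _ = _ := by rw [C.t_sq, one_mul, C.t_inv]
    rw [mul_assoc, h1, ← mul_assoc, hr, ← pow_add, show j + 1 + (j + 1) = 2 * j + 1 + 1 by ring, pow_succ, ← hj, hkm,
      mul_assoc, hk, mul_assoc (g * C.t * g⁻¹), C.t_sq, mul_one]
  have hβW : C.e β ∈ W := K.BU.e_mem_W hU.elem hβ
  have ht' : g * C.t * g⁻¹ * C.e β = C.e β * (g * C.t * g⁻¹) := by
    have h1 : g * C.t * g⁻¹ = k * C.t := by rw [hk, mul_assoc _ C.t C.t, C.t_sq, mul_one]
    rw [h1, mul_assoc, C.t_comm, ← mul_assoc, hkW _ hβW, mul_assoc]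
  set c := r * K.BU.s β with hc
  have hcW : ∀ w ∈ W, c * w = w * c := by
    intro w hw
    have h1 : K.BU.s β * w = w * K.BU.s β := by
      obtain ⟨p, hp, q, hq, rfl⟩ := hw
      rw [← mul_assoc, K.BU.comm β hβ p hp, mul_assoc, K.BU.X_comm β hβ q hq, ← mul_assoc]
    rw [hc, mul_assoc, h1, ← mul_assoc, hrW w hw, mul_assoc]
  have hct : c * C.t * c⁻¹ = g * C.t * g⁻¹ := by
    calc c * C.t * c⁻¹ = r * (K.BU.s β * C.t * (K.BU.s β)⁻¹) * r⁻¹ := by rw [hc]; group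
      _ = (r * C.t * r⁻¹) * (r * C.e β * r⁻¹) := by rw [K.BU.tau β hβ]; group
      _ = _ := by
        rw [hrt, hrW _ hβW, mul_inv_cancel_right, mul_assoc, ht', ← mul_assoc, Dbl.sq_e hU.elem hβ, one_mul]
  set g' := c⁻¹ * g with hg'
  have hg't : g' * C.t = C.t * g' := by
    calc g' * C.t = c⁻¹ * (g * C.t * g⁻¹) * g := by rw [hg']; group
      _ = _ := by rw [← hct, hg']; group
  have hnorm : ∀ y ∈ U, g' * C.e y * g'⁻¹ = C.e (f (y, y)).1 := by
    intro y hy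
    obtain ⟨h1, h2⟩ := hfU y hy y hy
    have hdiag : f (y, y) = ((f (y, y)).1, (f (y, y)).1) :=
      Prod.ext rfl (congrArg Prod.fst (hswap y hy y hy)).symm
    rw [← K.BU.pt_diag hU.elem h1, ← hdiag, ← K.BU.pt_diag hU.elem hy, hg']
    calc c⁻¹ * g * K.BU.pt (y, y) * (c⁻¹ * g)⁻¹ = c⁻¹ * (g * K.BU.pt (y, y) * g⁻¹ * c) := by group
      _ = c⁻¹ * (c * K.BU.pt (f (y, y))) := by rw [hg y hy y hy, hcW _ (K.BU.pt_mem hU.elem h1 h2)]
      _ = _ := by group
  obtain ⟨m, d, hd, hmd⟩ := E.cent_t g' hg't (Or.inr fun y hy => ⟨_, (hfU y hy y hy).1, hnorm y hy⟩)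
  have hconj : ∀ y ∈ U, (f (y, y)).1 = m * y * m⁻¹ := by
    intro y hy
    refine C.inj ?_
    rw [← hnorm y hy, ← C.e_conj]
    rcases hmd with h | h <;> rw [h]
    · calc C.e m * d * C.e y * (C.e m * d)⁻¹ = C.e m * (d * C.e y * d⁻¹) * (C.e m)⁻¹ := by group
        _ = _ := by rw [C.D_comm d hd, mul_inv_cancel_right]
    · calc C.e m * C.t * d * C.e y * (C.e m * C.t * d)⁻¹
            = C.e m * (C.t * (d * C.e y * d⁻¹) * C.t⁻¹) * (C.e m)⁻¹ := by group
        _ = _ := by rw [C.D_comm d hd, mul_inv_cancel_right, C.t_conj]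
  refine hnot ⟨m, ?_, hconj⟩
  have hfwd : ∀ y ∈ U, m * y * m⁻¹ ∈ U := fun y hy => hconj y hy ▸ (hfU y hy y hy).1
  refine Subgroup.mem_normalizer_iff.mpr fun y => ⟨hfwd y, fun hy => ?_⟩
  obtain ⟨w, hw⟩ := Finite.surjective_of_injective
    (f := fun w : U => (⟨m * w * m⁻¹, hfwd w w.2⟩ : U))
    (fun a c h => Subtype.ext (mul_left_cancel (mul_right_cancel (congrArg Subtype.val h)))) ⟨_, hy⟩
  have : (w : M) = y := mul_left_cancel (mul_right_cancel (congrArg Subtype.val hw))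
  exact this ▸ w.2

end Link

/-- Two linked sections whose modules give a direct product. -/
theorem exists_prod [Finite G] [Finite M] (E : LocExact C V U) (F : Frame V U S z) (hV : TCtx C V) :
    ∃ K : Link C V U, K.IsProd := by
  obtain ⟨BV, BU, h⟩ := exists_linked E F hV
  exact ⟨⟨BV, BU, h⟩, Link.isProd ⟨BV, BU, h⟩ F E (ctx_U E F hV)⟩

end Cfsg.Lib.StdWreath
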