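import Cfsg.Agent.StdWreath.Core
import Cfsg.Agent.InvolCalc.ZStarApps
import Cfsg.Prelude.Def_Local
import Cfsg.Prelude.Def_TwoFusion

/-!
From a standard subgroup with cyclic Sylow 2-subgroups in its centralizer and no outer automorphisms to a
configuration with exact centralizer and fused involution.
-/

set_option autoImplicit false
set_option linter.unusedSectionVars false

open scoped commutatorElement

namespace Cfsg.Lib.StdWreath

universe u v

theorem involution_unique {R : Type*} [Group R] [Finite R] [IsCyclic R] {x y : R} (hx : orderOf x = 2)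
    (hy : orderOf y = 2) : x = y := by
  let _ := Fintype.ofFinite R
  have hd : 2 ∣ Fintype.card R := by rw [← Nat.card_eq_fintype_card, ← hx]; exact orderOf_dvd_natCard x
  have h := IsCyclic.card_orderOf_eq_totient (α := R) hd
  rw [Nat.totient_two] at h
  exact Finset.card_le_one.mp h.le x (by simp [hx]) y (by simp [hy])

/-- A standard subgroup identified with `M`. -/
structure Std (G : Type u) (M : Type v) [Group G] [Group M] where
  e : M →* G
  inj : Function.Injective e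
  std : Cfsg.IsStandardSubgroup e.range
  cyc : ∀ R : Sylow 2 (Subgroup.centralizer (e.range : Set G)),
    IsCyclic (R : Subgroup (Subgroup.centralizer (e.range : Set G)))
  inner : ∀ σ : M ≃* M, ∃ w : M, ∀ x, σ x = w * x * w⁻¹
  center : Subgroup.center M = ⊥
  derived : ∀ a : M, orderOf a = 2 →
    a ∈ ⁅Subgroup.centralizer ({a} : Set M), Subgroup.centralizer ({a} : Set M)⁆
  noRoot : ∀ a : M, orderOf a = 2 → ∀ β : M, β * β = a →
    ∃ x ∈ ⁅Subgroup.centralizer ({a} : Set M), Subgroup.centralizer ({a} : Set M)⁆,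
      (∃ k : ℕ, x ^ 2 ^ k = 1) ∧ β * x ≠ x * β

namespace Std

variable {G : Type u} {M : Type v} [Group G] [Group M] [Finite G] [Finite M] (X : Std G M)

/-- The centralizer of the standard subgroup. -/
abbrev K : Subgroup G := Subgroup.centralizer (X.e.range : Set G)

theorem K_comm {k : G} (hk : k ∈ X.K) (m : M) : X.e m * k = k * X.e m :=
  Subgroup.mem_centralizer_iff.mp hk _ ⟨m, rfl⟩

theorem K_inter {m : M} (h : X.e m ∈ X.K) : m = 1 := by
  have hm : m ∈ Subgroup.center M := Subgroup.mem_center_iff.mpr fun x => X.inj (by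
    rw [map_mul, map_mul]; exact X.K_comm h x)
  rwa [X.center, Subgroup.mem_bot] at hm

theorem split_unique {m m' : M} {k k' : G} (hk : k ∈ X.K) (hk' : k' ∈ X.K) (h : X.e m * k = X.e m' * k') :
    m = m' ∧ k = k' := by
  have h1 : X.e (m'⁻¹ * m) = k' * k⁻¹ := by
    rw [map_mul, map_inv, ← mul_inv_eq_iff_eq_mul.mpr h.symm]; group
  have h2 := X.K_inter (h1 ▸ X.K.mul_mem hk' (X.K.inv_mem hk))
  have h3 : m = m' := (inv_mul_eq_one.mp h2).symm
  exact ⟨h3, mul_left_cancel (h3 ▸ h)⟩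

theorem normalizes {j g : G} (hj : j ∈ X.K) (hj2 : orderOf j = 2) (hg : j * g = g * j) :
    g ∈ Subgroup.normalizer (X.e.range : Set G) := by
  rw [X.std.2.2.2]
  by_contra hgn
  have hmem : j ∈ X.K ⊓ X.K.map (MulAut.conj g).toMonoidHom :=
    ⟨hj, j, hj, by show g * j * g⁻¹ = j; rw [← hg, mul_inv_cancel_right]⟩
  have h2 := Subgroup.orderOf_dvd_natCard _ hmem
  rw [hj2] at h2
  exact Nat.not_even_iff_odd.2 (X.std.2.1.2 g hgn) (even_iff_two_dvd.2 h2)

theorem factor {g : G} (hg : g ∈ Subgroup.normalizer (X.e.range : Set G)) :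
    ∃ m, ∃ k ∈ X.K, g = X.e m * k := by
  classical
  have hmem : ∀ x : M, ∃ y, X.e y = g * X.e x * g⁻¹ := fun x =>
    (Subgroup.mem_normalizer_iff.mp hg (X.e x)).mp ⟨x, rfl⟩
  choose f hf using hmem
  let σ0 : M →* M := MonoidHom.mk' f fun a c => X.inj (by rw [map_mul, hf, hf, hf, map_mul]; group)
  have hσi : Function.Injective σ0 := fun a c h => X.inj (by
    have h1 : X.e (f a) = X.e (f c) := congrArg X.e h
    rw [hf, hf] at h1
    exact mul_left_cancel (mul_right_cancel h1))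
  obtain ⟨w, hw⟩ := X.inner (MulEquiv.ofBijective σ0 (Finite.injective_iff_bijective.mp hσi))
  refine ⟨w, (X.e w)⁻¹ * g, ?_, by rw [mul_inv_cancel_left]⟩
  refine Subgroup.mem_centralizer_iff.mpr ?_
  rintro _ ⟨x, rfl⟩
  have h1 : g * X.e x * g⁻¹ = X.e w * X.e x * (X.e w)⁻¹ := by
    rw [← hf x, show f x = w * x * w⁻¹ from hw x, map_mul, map_mul, map_inv]
  calc X.e x * ((X.e w)⁻¹ * g) = (X.e w)⁻¹ * (X.e w * X.e x * (X.e w)⁻¹) * g := by group
    _ = _ := by rw [← h1]; group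

variable {t : G} (ht : t ∈ X.K) (ht2 : orderOf t = 2)
include ht ht2

theorem cent_split {g : G} (hg : g * t = t * g) : ∃ m, ∃ k ∈ X.K, k * t = t * k ∧ g = X.e m * k := by
  obtain ⟨m, k, hk, rfl⟩ := X.factor (X.normalizes ht ht2 hg.symm)
  refine ⟨m, k, hk, mul_left_cancel (a := X.e m) ?_, rfl⟩
  rw [← mul_assoc, hg, ← mul_assoc (X.e m) t, X.K_comm ht, mul_assoc]

omit ht2 in
/-- The part of `K` commuting with `t`. -/
abbrev Z (_ht : t ∈ X.K) : Subgroup G := X.K ⊓ Subgroup.centralizer ({t} : Set G)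

theorem exists_odd_hom :
    ∃ D : Subgroup G, D ≤ X.Z ht ∧ Odd (Nat.card D) ∧ t ∉ D ∧
      (∀ a ∈ X.Z ht, ∀ c ∈ X.Z ht, a * c * a⁻¹ * c⁻¹ ∈ D) ∧
      (∀ k ∈ X.Z ht, k * k = 1 → k = 1 ∨ k = t) ∧
      ∀ k ∈ X.Z ht, ∃ d ∈ D, ∃ p ∈ X.Z ht, (∃ i : ℕ, p ^ 2 ^ i = 1) ∧ k = d * p := by
  haveI : Fact (Nat.Prime 2) := ⟨Nat.prime_two⟩
  set Z := X.Z ht
  have htZ : t ∈ Z := ⟨ht, Subgroup.mem_centralizer_singleton_iff.mpr rfl⟩
  let P : Sylow 2 Z := default
  have hPcyc : IsCyclic (P : Subgroup Z) := by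
    let inc : Z →* X.K := Subgroup.inclusion inf_le_left
    have hinc : Function.Injective inc := Subgroup.inclusion_injective _
    obtain ⟨Q, hQ⟩ := (P.isPGroup'.map inc).exists_le_sylow
    haveI := X.cyc Q
    haveI : IsCyclic ((P : Subgroup Z).map inc) :=
      isCyclic_of_injective (Subgroup.inclusion hQ) (Subgroup.inclusion_injective hQ)
    exact isCyclic_of_injective ((P : Subgroup Z).equivMapOfInjective inc hinc).toMonoidHom (MulEquiv.injective _)
  haveI := hPcyc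
  have heven : 2 ∣ Nat.card Z := ht2 ▸ Subgroup.orderOf_dvd_natCard _ htZ
  have hmin : (Nat.card Z).minFac = 2 := (Nat.minFac_eq_two_iff _).mpr heven
  have hP := IsCyclic.normalizer_le_centralizer hmin hPcyc
  set τ := MonoidHom.transferSylow P hP
  have hc := MonoidHom.ker_transferSylow_isComplement' P hP
  have hodd : Odd (Nat.card τ.ker) := by
    rw [Nat.odd_iff]
    have h : ¬2 ∣ Nat.card τ.ker := MonoidHom.not_dvd_card_ker_transferSylow P hP
    omega
  have hinv : ∀ k : Z, k * k = 1 → τ k = 1 → k = 1 := fun k h1 h2 => eq_one_of_sq hodd (MonoidHom.mem_ker.mpr h2) h1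
  have htt : (⟨t, htZ⟩ : Z) * ⟨t, htZ⟩ = 1 := Subtype.ext (by
    rw [Subgroup.coe_mul, Subgroup.coe_one, ← pow_two, ← ht2, pow_orderOf_eq_one])
  have ht1 : t ≠ 1 := fun h => by rw [h, orderOf_one] at ht2; omega
  have hτt : τ ⟨t, htZ⟩ ≠ 1 := fun h => ht1 (congrArg Subtype.val (hinv _ htt h))
  refine ⟨τ.ker.map Z.subtype, Subgroup.map_subtype_le _, ?_, ?_, ?_, ?_, ?_⟩
  · rwa [Subgroup.card_map_of_injective Z.subtype_injective]
  · rintro ⟨q, hq, hqt⟩
    exact hτt ((show q = ⟨t, htZ⟩ from Subtype.ext hqt) ▸ hq)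
  · intro a ha c hc'
    refine ⟨⟨a, ha⟩ * ⟨c, hc'⟩ * ⟨a, ha⟩⁻¹ * ⟨c, hc'⟩⁻¹, MonoidHom.mem_ker.mpr ?_, rfl⟩
    haveI : IsMulCommutative (P : Subgroup Z) := inferInstance
    have hcomm : τ ⟨a, ha⟩ * τ ⟨c, hc'⟩ = τ ⟨c, hc'⟩ * τ ⟨a, ha⟩ := IsMulCommutative.is_comm.comm _ _
    rw [map_mul, map_mul, map_mul, map_inv, map_inv, hcomm, mul_inv_cancel_right, mul_inv_cancel]
  · intro k hk hkk
    have hk2 : (⟨k, hk⟩ : Z) * ⟨k, hk⟩ = 1 := Subtype.ext hkk
    by_cases hτk : τ ⟨k, hk⟩ = 1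
    · exact Or.inl (congrArg Subtype.val (hinv _ hk2 hτk))
    right
    have ho : ∀ q : Z, q * q = 1 → τ q ≠ 1 → orderOf (τ q) = 2 := fun q h1 h2 =>
      orderOf_eq_prime (by rw [pow_two, ← map_mul, h1, map_one]) h2
    have he := involution_unique (ho _ hk2 hτk) (ho _ htt hτt)
    have hkt : (⟨k, hk⟩ : Z) * ⟨t, htZ⟩ = ⟨t, htZ⟩ * ⟨k, hk⟩ :=
      Subtype.ext (Subgroup.mem_centralizer_singleton_iff.mp hk.2)
    have h1 := hinv (⟨k, hk⟩ * ⟨t, htZ⟩) (by
      rw [mul_assoc, ← mul_assoc (⟨t, htZ⟩ : Z), ← hkt, mul_assoc, htt, mul_one, hk2]) (by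
      rw [map_mul, he, ← map_mul, htt, map_one])
    have h2 := mul_eq_one_iff_eq_inv.mp h1
    rw [inv_eq_of_mul_eq_one_right htt] at h2
    exact congrArg Subtype.val h2
  · intro k hk
    obtain ⟨⟨⟨d, hd⟩, ⟨p, hp⟩⟩, he, -⟩ := Subgroup.isComplement_iff_existsUnique.mp hc ⟨k, hk⟩
    obtain ⟨i, hi⟩ := P.isPGroup' ⟨p, hp⟩
    exact ⟨d, ⟨d, hd, rfl⟩, p, p.2, ⟨i, congrArg (fun q : (P : Subgroup Z) => ((q : Z) : G)) hi⟩,
      (congrArg Subtype.val he).symm⟩

theorem derived_split {D : Subgroup G} (hcomm : ∀ a ∈ X.Z ht, ∀ c ∈ X.Z ht, a * c * a⁻¹ * c⁻¹ ∈ D)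
    (hDle : D ≤ X.Z ht) (a : M) {H : Subgroup G} (hH : ∀ g ∈ H, g * t = t * g)
    (hHa : ∀ g ∈ H, g * X.e a = X.e a * g) :
    ∀ g ∈ ⁅H, H⁆, ∃ m ∈ ⁅Subgroup.centralizer ({a} : Set M), Subgroup.centralizer ({a} : Set M)⁆,
      ∃ k ∈ D, g = X.e m * k := by
  let ψ : M × X.Z ht →* G :=
    MonoidHom.noncommCoprod X.e (X.Z ht).subtype fun m k => X.K_comm k.2.1 m
  let Ca := Subgroup.centralizer ({a} : Set M)
  have hH' : H ≤ (Ca.prod ⊤).map ψ := by
    intro g hg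
    obtain ⟨m, k, hk, hkt, rfl⟩ := X.cent_split ht ht2 (hH g hg)
    refine ⟨(m, ⟨k, hk, Subgroup.mem_centralizer_singleton_iff.mpr hkt⟩), ⟨?_, Subgroup.mem_top _⟩, rfl⟩
    refine Subgroup.mem_centralizer_singleton_iff.mpr ?_
    have h := hHa _ hg
    rw [mul_assoc, ← X.K_comm hk, ← mul_assoc, ← mul_assoc, ← map_mul, ← map_mul] at h
    exact X.inj (mul_right_cancel h)
  intro g hg
  obtain ⟨p, hp, rfl⟩ := (Subgroup.commutator_mono hH' hH').trans (Subgroup.map_commutator _ _ ψ).ge hg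
  have hle : ⁅Ca.prod (⊤ : Subgroup (X.Z ht)), Ca.prod ⊤⁆ ≤ ⁅Ca, Ca⁆.prod (D.subgroupOf (X.Z ht)) := by
    rw [Subgroup.commutator_le]
    rintro ⟨m, k⟩ ⟨hm, -⟩ ⟨m', k'⟩ ⟨hm', -⟩
    exact ⟨Subgroup.commutator_mem_commutator hm hm', hcomm k k.2 k' k'.2⟩
  obtain ⟨h1, h2⟩ := hle hp
  exact ⟨p.1, h1, p.2, h2, rfl⟩

theorem not_conj_image (a : M) (g : G) : g * t * g⁻¹ ≠ X.e a := by
  intro h
  obtain ⟨D, hDle, -, htD, hcomm, -, -⟩ := X.exists_odd_hom ht ht2
  have ho : orderOf a = 2 := by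
    rw [← orderOf_injective X.e X.inj, ← h, show g * t * g⁻¹ = MulAut.conj g t from rfl, MulEquiv.orderOf_eq, ht2]
  set c := (MulAut.conj g⁻¹).toMonoidHom.comp X.e
  have hc : ∀ x, c x = g⁻¹ * X.e x * g := fun x => by
    show g⁻¹ * X.e x * g⁻¹⁻¹ = _
    rw [inv_inv]
  have hca : c a = t := by rw [hc, ← h]; group
  have hmem : t ∈ ⁅(Subgroup.centralizer ({a} : Set M)).map c, (Subgroup.centralizer ({a} : Set M)).map c⁆ := by
    rw [← Subgroup.map_commutator, ← hca]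
    exact ⟨a, X.derived a ho, rfl⟩
  obtain ⟨m, -, k, hk, hmk⟩ := X.derived_split ht ht2 hcomm hDle 1
    (H := (Subgroup.centralizer ({a} : Set M)).map c) (by
      rintro _ ⟨q, hq, rfl⟩
      rw [← hca, ← map_mul, ← map_mul, Subgroup.mem_centralizer_singleton_iff.mp hq])
    (fun g _ => by rw [map_one, mul_one, one_mul]) t hmem
  obtain ⟨-, h2⟩ := X.split_unique (m := 1) (m' := m) ht (hDle hk).1 (by rw [map_one, one_mul]; exact hmk)
  exact htD (h2 ▸ hk)

omit ht ht2 in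
theorem sq_eq_one_of_orderOf {a : M} (h : orderOf a = 2) : a * a = 1 := by
  rw [← pow_two, ← h, pow_orderOf_eq_one]

theorem split_involution {x : G} (hxt : x * t = t * x) (hxx : x * x = 1) (hx1 : x ≠ t)
    (hconj : ∃ g, g * t * g⁻¹ = x) : ∃ m : M, m ≠ 1 ∧ m * m = 1 ∧ x = t * X.e m := by
  obtain ⟨D, -, -, -, -, hinv, -⟩ := X.exists_odd_hom ht ht2
  obtain ⟨m, k, hk, hkt, hx⟩ := X.cent_split ht ht2 hxt
  have h2 : X.e (m * m) * (k * k) = X.e 1 * 1 := by
    rw [map_one, one_mul, ← hxx, hx, map_mul]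
    calc X.e m * X.e m * (k * k) = X.e m * (X.e m * k) * k := by group
      _ = X.e m * (k * X.e m) * k := by rw [X.K_comm hk]
      _ = _ := by group
  obtain ⟨hmm, hkk⟩ := X.split_unique (X.K.mul_mem hk hk) X.K.one_mem h2
  obtain ⟨g, hg⟩ := hconj
  rcases hinv k ⟨hk, Subgroup.mem_centralizer_singleton_iff.mpr hkt⟩ hkk with rfl | rfl
  · rw [mul_one] at hx
    exact absurd (hg.trans hx) (X.not_conj_image ht ht2 m g)
  · refine ⟨m, fun h => hx1 (by rw [hx, h, map_one, one_mul]), hmm, ?_⟩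
    rw [hx, X.K_comm hk]

theorem exists_fused (hO : Cfsg.oddCore G = ⊥) (hnn : ¬ X.e.range.Normal) :
    ∃ g, ∃ a : M, a ≠ 1 ∧ a * a = 1 ∧ g * t * g⁻¹ = t * X.e a := by
  have hniso : ¬ Cfsg.IsIsolatedInvolution t := by
    intro hiso
    refine hnn (Subgroup.normalizer_eq_top_iff.mp ?_)
    rw [eq_top_iff]
    intro g _
    refine X.normalizes ht ht2 ?_
    have h := Cfsg.Lib.ZStarApps.zstarProp hiso g
    rw [show Cfsg.pPrimeCore 2 G = ⊥ from hO, Subgroup.mem_bot, mul_inv_eq_one, mul_inv_eq_iff_eq_mul] at h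
    exact h
  obtain ⟨g, hg, hne⟩ : ∃ g, Commute t (g * t * g⁻¹) ∧ g * t * g⁻¹ ≠ t := by
    by_contra hcon
    push Not at hcon
    exact hniso ⟨ht2, hcon⟩
  obtain ⟨m, hm1, hmm, he⟩ := X.split_involution ht ht2 hg.eq.symm (by
    have htt : t * t = 1 := by rw [← pow_two, ← ht2, pow_orderOf_eq_one]
    calc g * t * g⁻¹ * (g * t * g⁻¹) = g * (t * t) * g⁻¹ := by group
      _ = 1 := by rw [htt]; group) hne ⟨g, rfl⟩
  exact ⟨g, m, hm1, hmm, he⟩

theorem no_order_four (hO : Cfsg.oddCore G = ⊥) (hnn : ¬ X.e.range.Normal) {r : G} (hr : r ∈ X.Z ht) :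
    r * r ≠ t := by
  intro hrr
  have htt : t * t = 1 := by rw [← pow_two, ← ht2, pow_orderOf_eq_one]
  obtain ⟨g, a, ha1, haa, hga⟩ := X.exists_fused ht ht2 hO hnn
  obtain ⟨D, hDle, hDodd, -, hcomm, -, -⟩ := X.exists_odd_hom ht ht2
  have hK : ∀ m, X.e m * t = t * X.e m := X.K_comm ht
  have hx2 : g⁻¹ * t * g * t = t * (g⁻¹ * t * g) := by
    have h1 : t * (g * t * g⁻¹) = g * t * g⁻¹ * t := by rw [hga, mul_assoc t, hK]
    calc g⁻¹ * t * g * t = g⁻¹ * (t * (g * t * g⁻¹)) * g := by group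
      _ = g⁻¹ * (g * t * g⁻¹ * t) * g := by rw [h1]
      _ = _ := by group
  obtain ⟨α, hα1, hαα, hα⟩ := X.split_involution ht ht2 hx2 (by
      calc g⁻¹ * t * g * (g⁻¹ * t * g) = g⁻¹ * (t * t) * g := by group
        _ = 1 := by rw [htt]; group)
    (fun h => ha1 (X.inj (mul_left_cancel (a := t) (by
      rw [map_one, mul_one, ← hga]
      calc g * t * g⁻¹ = g * (g⁻¹ * t * g) * g⁻¹ := by rw [h]
        _ = t := by group))))
    ⟨g⁻¹, by rw [inv_inv]⟩
  have hαo : orderOf α = 2 := orderOf_eq_prime (by rw [pow_two]; exact hαα) hα1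
  -- the root of `α`
  have hrt : r * t = t * r := by rw [← hrr, mul_assoc]
  have hrga : r * (g * t * g⁻¹) = g * t * g⁻¹ * r := by
    rw [hga, ← mul_assoc, hrt, mul_assoc t r, ← X.K_comm hr.1 a, mul_assoc]
  have hr't : g⁻¹ * r * g * t = t * (g⁻¹ * r * g) := by
    calc g⁻¹ * r * g * t = g⁻¹ * (r * (g * t * g⁻¹)) * g := by group
      _ = g⁻¹ * (g * t * g⁻¹ * r) * g := by rw [hrga]
      _ = _ := by group
  obtain ⟨β, k, hk, hkt, hβk⟩ := X.cent_split ht ht2 hr't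
  have hsq : X.e (β * β) * (k * k) = X.e α * t := by
    rw [hK, ← hα, map_mul]
    calc X.e β * X.e β * (k * k) = X.e β * (X.e β * k) * k := by group
      _ = (X.e β * k) * (X.e β * k) := by
        rw [show X.e β * (X.e β * k) = X.e β * (k * X.e β) by rw [X.K_comm hk]]; group
      _ = g⁻¹ * (r * r) * g := by rw [← hβk]; group
      _ = _ := by rw [hrr]
  obtain ⟨hββ, -⟩ := X.split_unique (X.K.mul_mem hk hk) ht hsq
  obtain ⟨x, hx, ⟨i, hxi⟩, hne⟩ := X.noRoot α hαo β hββ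
  set c := (MulAut.conj g).toMonoidHom.comp X.e
  have hc : ∀ q, c q = g * X.e q * g⁻¹ := fun q => rfl
  let H := (Subgroup.centralizer ({α} : Set M)).map c
  have hHt : ∀ h ∈ H, h * t = t * h := by
    rintro _ ⟨q, hq, rfl⟩
    rw [hc]
    have h1 : X.e q * (g⁻¹ * t * g) = g⁻¹ * t * g * X.e q := by
      rw [hα, ← mul_assoc, hK, mul_assoc, ← map_mul, Subgroup.mem_centralizer_singleton_iff.mp hq, map_mul, mul_assoc]
    calc g * X.e q * g⁻¹ * t = g * (X.e q * (g⁻¹ * t * g)) * g⁻¹ := by group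
      _ = g * (g⁻¹ * t * g * X.e q) * g⁻¹ := by rw [h1]
      _ = _ := by group
  have hHa : ∀ h ∈ H, h * X.e a = X.e a * h := by
    intro h hh
    have hxa : h * (g * t * g⁻¹) = g * t * g⁻¹ * h := by
      obtain ⟨q, -, rfl⟩ := hh
      rw [hc]
      calc g * X.e q * g⁻¹ * (g * t * g⁻¹) = g * (X.e q * t) * g⁻¹ := by group
        _ = g * (t * X.e q) * g⁻¹ := by rw [hK]
        _ = _ := by group
    rw [hga, ← mul_assoc, hHt h hh, mul_assoc, mul_assoc t] at hxa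
    exact mul_left_cancel hxa
  obtain ⟨m, -, d, hd, hmd⟩ := X.derived_split ht ht2 hcomm hDle a hHt hHa (c x) (by
    rw [← Subgroup.map_commutator]; exact ⟨x, hx, rfl⟩)
  have hd1 : d = 1 := by
    have h1 : X.e (m ^ 2 ^ i) * d ^ 2 ^ i = X.e 1 * 1 := by
      rw [map_pow, ← (show Commute (X.e m) d from X.K_comm (hDle hd).1 m).mul_pow, ← hmd, ← map_pow, hxi, map_one,
        map_one, one_mul]
    obtain ⟨-, h2⟩ := X.split_unique (pow_mem (hDle hd).1 _) X.K.one_mem h1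
    have h3 : orderOf (⟨d, hd⟩ : D) ∣ Nat.card D := orderOf_dvd_natCard _
    rw [Subgroup.orderOf_mk] at h3
    exact orderOf_eq_one_iff.mp (Nat.eq_one_of_dvd_coprimes (Nat.Coprime.pow_right _ (Nat.coprime_two_right.mpr hDodd))
      h3 (orderOf_dvd_of_pow_eq_one h2))
  rw [hd1, mul_one, hc] at hmd
  refine hne (X.inj ?_)
  have h1 : g⁻¹ * r * g * X.e x = X.e x * (g⁻¹ * r * g) := by
    calc g⁻¹ * r * g * X.e x = g⁻¹ * (r * (g * X.e x * g⁻¹)) * g := by group
      _ = g⁻¹ * (g * X.e x * g⁻¹ * r) * g := by rw [hmd, X.K_comm hr.1]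
      _ = _ := by group
  rw [hβk, mul_assoc, ← X.K_comm hk, ← mul_assoc, ← mul_assoc] at h1
  rw [map_mul, map_mul]
  exact mul_right_cancel h1

/-- The exact configuration. -/
theorem exists_exact (hO : Cfsg.oddCore G = ⊥) (hnn : ¬ X.e.range.Normal) :
    ∃ C : Cfg G M, C.e = X.e ∧ Exact C ∧ ∃ m, m ≠ 1 ∧ Fused C m := by
  have htt : t * t = 1 := by rw [← pow_two, ← ht2, pow_orderOf_eq_one]
  obtain ⟨D, hDle, hDodd, -, -, hinv, hfac⟩ := X.exists_odd_hom ht ht2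
  have hp : ∀ p ∈ X.Z ht, ∀ i : ℕ, p ^ 2 ^ i = 1 → p = 1 ∨ p = t := by
    intro p hpZ i
    induction i with
    | zero => intro h; rw [pow_zero, pow_one] at h; exact Or.inl h
    | succ i ih =>
      intro h
      rw [pow_succ, pow_mul, pow_two] at h
      rcases hinv _ (pow_mem hpZ _) h with h1 | h1
      · exact ih h1
      · rcases i with _ | i
        · rw [pow_zero, pow_one] at h1; exact Or.inr h1
        · rw [pow_succ, pow_mul, pow_two] at h1
          exact absurd h1 (X.no_order_four ht ht2 hO hnn (pow_mem hpZ _))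
  let C : Cfg G M :=
    { e := X.e
      inj := X.inj
      t := t
      t_sq := htt
      t_not := fun m h => by
        have h0 := X.K_inter (m := m) (h ▸ ht)
        rw [h0, map_one] at h
        rw [← h, orderOf_one] at ht2
        omega
      t_comm := fun m => (X.K_comm ht m).symm
      D := D
      D_odd := hDodd
      D_comm := fun d hd m => (X.K_comm (hDle hd).1 m).symm
      D_t := fun d hd => Subgroup.mem_centralizer_singleton_iff.mp (hDle hd).2 }
  refine ⟨C, rfl, ⟨?_, fun m g => X.not_conj_image ht ht2 m g, X.center⟩, ?_⟩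
  · intro g hg
    obtain ⟨m, k, hk, hkt, rfl⟩ := X.cent_split ht ht2 hg
    obtain ⟨d, hd, p, hpZ, ⟨i, hi⟩, rfl⟩ := hfac k ⟨hk, Subgroup.mem_centralizer_singleton_iff.mpr hkt⟩
    refine ⟨m, d, hd, ?_⟩
    rcases hp p hpZ i hi with rfl | rfl
    · exact Or.inl (by rw [mul_one])
    · refine Or.inr ?_
      show X.e m * (d * p) = X.e m * p * d
      rw [mul_assoc, Subgroup.mem_centralizer_singleton_iff.mp (hDle hd).2]
  · obtain ⟨g, a, ha1, -, hga⟩ := X.exists_fused ht ht2 hO hnn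
    exact ⟨a, ha1, g, hga⟩

end Std

end Cfsg.Lib.StdWreath
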